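import Mathlib
import Cfsg.Agent.XSC.Co1Tr
import Cfsg.Agent.Mont.Cent

/-!
# Elements of `Co0` with square `±1`

An element with square `1` is conjugate to a sign change; the elements with square `-1` form one
class, and they commute with elements of order 13.
-/

set_option autoImplicit false

namespace Cfsg.Agent.XSC.C1

open Subgroup Cfsg Cfsg.Spor Cfsg.Agent.Spor Cfsg.Agent.Spor.Leech Cfsg.Agent.LES.Co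
  Cfsg.Agent.Comp Cfsg.Agent.Spor.M24C Cfsg.Agent.Mont
open scoped Pointwise symmDiff

theorem sgn_conj_mono (σ : M24) {c d : Finset GolayPt} (hc : c ∈ GC) (hd : d ∈ GC) :
    sgn d hd * mono σ c hc * (sgn d hd)⁻¹ = mono σ (c ∆ (d ∆ (σ • d)))
      (GC_symmDiff hc (GC_symmDiff hd (smul_mem_GC σ.2 hd))) := by
  rw [sgn_inv, sgn, mono_mul_mono, mono_mul_mono]
  refine mono_congr (by simp) ?_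
  rw [one_smul, one_mul, symmDiff_comm d c, symmDiff_assoc]

theorem perm_conj_mono (k σ : M24) {c : Finset GolayPt} (hc : c ∈ GC) :
    permHom k * mono σ c hc * (permHom k)⁻¹ = mono (k * σ * k⁻¹) (k • c) (smul_mem_GC k.2 hc) := by
  rw [perm_mul_mono, ← map_inv, mono_mul_perm]

/-- Reduction of the sign part of a monomial element with given permutation part. -/
noncomputable def chkCos (z e : ℕ) (Ds Ts : List (ℕ × ℕ)) (base : List ℕ) : Bool :=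
  and' (allL Ds fun d => and' (isCW d.1) (Nat.beq (Nat.xor d.1 (imgC z d.1)) d.2))
    (and' (allL Ts fun t => and' (okM t.1) (and' (Nat.beq (conjC t.1 z) z)
        (anyL base (Nat.beq (imgC t.1 t.2)))))
      (allB 4096 fun a => force (enc a) fun m => or' (not' (Nat.beq (imgC z m) (Nat.xor m e)))
        (anyL Ds fun d => force (Nat.xor m d.2) fun x => anyL Ts fun t => Nat.beq x t.2)))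

theorem cos_red {z e : ℕ} {Ds Ts : List (ℕ × ℕ)} {base : List ℕ} (hz : okM z = true)
    (h : chkCos z e Ds Ts base = true) (he : e < 2 ^ 24) {c : Finset GolayPt} (hc : c ∈ GC)
    (hs : mc z • c = c ∆ setOf' e) :
    ∃ r ∈ base, ∃ hr : setOf' r ∈ GC, IsConj (mono (mc z) c hc) (mono (mc z) (setOf' r) hr) := by
  simp only [chkCos, and'_eq_true, allL_iff, anyL_iff, allB_iff, force_eq, or'_eq_true,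
    not'_eq_true, beq_iff] at h
  obtain ⟨h1, h2, h3⟩ := h
  obtain ⟨a, ha, rfl⟩ := (mem_codeSets_iff_enc c).1 hc
  have e1 : imgC z (enc a) = Nat.xor (enc a) e := by
    rw [smul_setOf'_M, code_mc hz, ← setOf'_xor] at hs
    exact setOf'_inj (code_mc hz ▸ imgC_lt _ _) (Nat.xor_lt_two_pow (enc_lt ha) he) hs
  obtain ⟨d, hd, t, ht, e2⟩ := (h3 a ha).resolve_left (not_not.2 e1)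
  obtain ⟨h4, h5⟩ := h1 d hd
  obtain ⟨h6, h7, r, hr, h8⟩ := h2 t ht
  have hD : setOf' d.1 ∈ GC := setOf'_mem_codeSets h4
  have e3 : mc t.1 • (setOf' (enc a) ∆ (setOf' d.1 ∆ (mc z • setOf' d.1))) = setOf' r := by
    rw [smul_setOf'_M (mc z), code_mc hz, ← setOf'_xor, ← setOf'_xor, smul_setOf'_M, code_mc h6,
      ← h8, ← e2, ← h5]
    rfl
  have e4 : mc t.1 * mc z * (mc t.1)⁻¹ = mc z := by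
    rw [eq_iff_code, code_conj', code_mc h6, code_mc hz, h7]
  have hm := GC_symmDiff hc (GC_symmDiff hD (smul_mem_GC (mc z).2 hD))
  refine ⟨r, hr, e3 ▸ smul_mem_GC (mc t.1).2 hm, ?_⟩
  refine (isConj_iff.2 ⟨_, sgn_conj_mono (mc z) hc hD⟩).trans (isConj_iff.2 ⟨permHom (mc t.1), ?_⟩)
  rw [perm_conj_mono]
  exact mono_congr e4 e3

noncomputable def Ds1 : List (ℕ × ℕ) :=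
  [(0, 0), (13062145, 8983587), (4845570, 185603), (9347075, 9158944), (13938692, 8426796),
  (1302533, 622863), (10305542, 8536111), (5902343, 742412), (10170384, 8541360), (6053905,
  737427), (13811730, 8421811), (1413139, 628112), (5210132, 180636), (8966165, 9164223), (421910,
  5279), (12656663, 8978620)]

noncomputable def Ds2 : List (ℕ × ℕ) :=
  [(0, 0), (13062145, 6768515), (4845570, 14285763), (9347075, 12500032), (13938692, 6588684),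
  (1302533, 249487), (10305542, 12415695), (5902343, 14300492), (10170384, 722544), (6053905,
  7094771), (13811730, 13827507), (1413139, 11909680), (5210132, 7311228), (8966165, 575743),
  (421910, 11957439), (12656663, 13710140), (11952160, 8541360), (7417889, 15012659), (16748578,
  6008691), (3719203, 3991792), (6475812, 15130044), (10846245, 8493631), (2826278, 4138623),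
  (15495207, 5792252), (2969648, 8999616), (15335473, 15603011), (6594610, 5286147), (10743859,
  3665536), (16375860, 15588300), (4108341, 9083983), (11538486, 3416079), (7815223, 5465996),
  (15515712, 12638592), (2854977, 10984963), (10825794, 1647171), (6447171, 8283584), (3698756,
  10768524), (16719941, 12785423), (7438406, 8235855), (11980871, 1764556), (7860304, 13361136),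
  (11575377, 11311219), (4063314, 1188915), (16339027, 7693232), (10698836, 11491068), (6557781,
  13111679), (15380566, 7777599), (3006551, 1174204), (5939296, 4361520), (10350689, 2476723),
  (1265762, 10188531), (13893731, 16527728), (9310308, 2491452), (4800613, 4277183), (13099110,
  16777215), (45159, 10008700), (12685424, 4819776), (442481, 3067075), (8937586, 9465987),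
  (5189747, 16201472), (1384564, 2949708), (13791349, 4867535), (6082678, 16054671), (10190967,
  9682444)]

noncomputable def Ts1 : List (ℕ × ℕ) :=
  [(984818244535754528103549039458486304, 737427), (984818244535754528103549039458486304,
  16039788), (984818244535754528103549039458486304, 4153500),
  (984818244535754528103549039458486304, 12623715), (319586190204211044811079931627123429,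
  9882544), (319586190204211044811079931627123429, 6894671),
  (153631307074304606740574946204295396, 8813667), (153631307074304606740574946204295396,
  7963548), (444698457916470183380832074276126818, 3885135),
  (444698457916470183380832074276126818, 12892080), (652452303533207790222524995560571212,
  3130320), (652452303533207790222524995560571212, 13646895),
  (818328446266278902725639257358833128, 10682144), (818328446266278902725639257358833128,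
  6095071), (70484517170171410727957430143259248, 1209935), (70484517170171410727957430143259248,
  15567280)]

noncomputable def XA : List (List ℤ) :=
  [[0, 1, 1, 1, 0, -1, 0, 0, 0, 0, 0, -1, -1, -1, 0, -1, 0, 0, 0, -1, 0, 0, -1, 2],
  [1, 0, 1, 1, 0, 0, 0, 0, -1, 0, 0, -1, -1, 0, 0, 0, 0, -1, -1, 0, 0, 0, -1, 1],
  [1, 1, 0, 1, 0, 0, 0, 0, 0, 0, 0, -1, -1, -1, -1, 0, -1, -1, -1, -1, 0, -1, -1, 4],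
  [1, 1, 1, 0, 0, 0, 0, 0, 0, 0, 0, -1, -1, -1, -1, -1, -1, 0, -1, 0, -1, 0, -1, 3],
  [0, 0, 0, 0, 0, -1, 0, -1, -1, 0, -1, 0, 1, 1, 1, 1, 1, 1, 1, 1, 2, 1, 0, -5],
  [0, 0, 0, 0, 0, -1, 0, 0, 0, 0, 0, 0, 0, 0, 0, 0, 0, 0, 0, 0, 0, 0, 0, 0],
  [1, 1, 1, 1, 1, 0, 1, 1, 0, 0, 1, -2, -3, -2, -2, -2, -2, -2, -2, -2, -2, -1, -2, 9],
  [0, 0, 0, 0, -1, -1, 0, 0, -1, 0, -1, 0, 1, 1, 1, 1, 1, 1, 1, 1, 2, 1, 0, -5],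
  [0, 0, 0, 0, 0, 0, 0, 0, -1, 0, 0, 0, 0, 0, 0, 0, 0, 0, 0, 0, 0, 0, 0, 0],
  [1, 1, 1, 1, 1, 0, 0, 1, 0, 1, 1, -2, -3, -2, -2, -2, -2, -2, -2, -2, -2, -1, -2, 9],
  [0, 0, 0, 0, -1, -1, 0, -1, -1, 0, 0, 0, 1, 1, 1, 1, 1, 1, 1, 1, 2, 1, 0, -5],
  [1, 1, 1, 1, 0, 1, 0, 0, 0, 0, 0, -1, -2, -2, -1, -1, -1, -1, -2, -1, -1, -1, -2, 6],
  [0, 0, 0, 0, -1, -1, 0, -1, 0, 0, -1, 0, 2, 1, 1, 1, 1, 1, 1, 1, 2, 1, 0, -5],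
  [0, 0, 0, 0, 0, -1, 0, 0, 0, 0, 0, 0, 0, 1, 0, 0, 0, 0, 0, 0, 0, 0, 0, 0],
  [0, 0, 0, 0, 0, -2, 0, 0, 0, 0, 0, 0, 0, 1, 1, 0, 0, 0, 1, 0, 1, 1, 0, -2],
  [0, 0, 0, 0, 0, -1, 0, 0, -1, 0, 0, 0, 0, 1, 0, 1, 0, 0, 1, 0, 1, 1, 0, -2],
  [0, 0, 0, 0, 0, -1, 0, 0, -1, 0, 0, 0, 0, 1, 0, 0, 1, 0, 1, 0, 1, 1, 0, -2],
  [0, 0, 0, 0, 0, -2, 0, 0, 0, 0, 0, 0, 0, 1, 0, 0, 0, 1, 1, 0, 1, 1, 0, -2],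
  [0, 0, 0, 0, 0, -1, 0, 0, 0, 0, 0, 0, 0, 0, 0, 0, 0, 0, 1, 0, 0, 0, 0, 0],
  [0, 0, 0, 0, 0, -1, 0, 0, -1, 0, 0, 0, 0, 1, 0, 0, 0, 0, 1, 1, 1, 1, 0, -2],
  [0, 0, 0, 0, 0, -1, 0, 0, 0, 0, 0, 0, 0, 0, 0, 0, 0, 0, 0, 0, 1, 0, 0, 0],
  [0, 0, 0, 0, 0, -1, 0, 0, 0, 0, 0, 0, 0, 0, 0, 0, 0, 0, 0, 0, 0, 1, 0, 0],
  [1, 1, 1, 1, 1, 0, 0, 1, 1, 0, 1, -2, -3, -2, -2, -2, -2, -2, -2, -2, -2, -1, -1, 9],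
  [0, 0, 0, 0, 0, -2, 0, 0, 0, 0, 0, 0, 0, 1, 0, 0, 0, 0, 1, 0, 1, 1, 0, -1]]

noncomputable def XA' : List (List ℤ) :=
  [[0, 0, 0, 0, -1, -2, -1, -1, -1, -1, -1, -1, 0, -1, -1, -1, 0, -1, 0, -1, -1, -1, 0, -1],
  [0, 0, 0, 0, -1, -1, -1, -1, -2, -1, -1, -1, 0, 0, 0, -1, -1, -1, -1, -1, -1, -1, 0, -1],
  [0, 0, 0, -1, -1, -2, -1, -1, -2, -2, -1, -2, 1, 0, 0, 1, 0, 0, 0, 0, 0, -1, 1, 1],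
  [0, 0, -1, 0, -1, -2, -1, -1, -2, -1, -2, -1, 0, -1, -1, -1, -1, 0, -1, 0, -2, -1, 0, -1],
  [-1, -1, -1, -1, 0, -2, -2, -2, -2, -1, -2, -2, 0, 0, -1, -1, 0, 0, -1, 0, 0, -1, 0, 0],
  [-2, -1, -2, -2, -2, -4, -2, -2, -2, -2, -2, -1, -1, -2, -2, -1, -1, -2, -2, -1, -2, -2, -1, -2],
  [-1, -1, -1, -1, -2, -2, 0, -1, -2, -2, -1, -2, 0, -1, 0, 0, -1, -1, 0, 0, -1, 0, 0, 0],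
  [-1, -1, -1, -1, -2, -2, -1, 0, -2, -1, -2, -1, -1, -2, -1, -1, -2, -1, -1, -1, -1, -2, -1, -2],
  [-1, -2, -2, -2, -2, -2, -2, -2, -4, -2, -2, -2, 0, -1, 0, -1, -1, 0, -1, -1, -1, -1, 0, 0],
  [-1, -1, -2, -1, -1, -2, -2, -1, -2, 0, -1, -1, -1, -2, -1, -2, -1, -1, -2, -1, -1, -1, -1, -2],
  [-1, -1, -1, -2, -2, -2, -1, -2, -2, -1, 0, -2, 0, -1, 0, 0, 0, -1, -1, -1, 0, 0, 0, 0],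
  [-1, -1, -2, -1, -2, -1, -2, -1, -2, -1, -2, 0, -2, -2, -1, -2, -2, -1, -2, -2, -2, -2, -2, -3],
  [0, 0, 1, 0, 0, -1, 0, -1, 0, -1, 0, -2, 2, 1, 0, 1, 1, 0, 1, 1, 1, 1, 1, 2],
  [-1, 0, 0, -1, 0, -2, -1, -2, -1, -2, -1, -2, 1, 2, 0, 1, 1, 0, 0, 1, 0, 0, 1, 2],
  [-1, 0, 0, -1, -1, -2, 0, -1, 0, -1, 0, -1, 0, 0, 0, 0, 0, -2, 0, 0, 0, 0, 0, 0],
  [-1, -1, 1, -1, -1, -1, 0, -1, -1, -2, 0, -2, 1, 1, 0, 2, 0, 0, 1, 0, 1, 1, 1, 2],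
  [0, -1, 0, -1, 0, -1, -1, -2, -1, -1, 0, -2, 1, 1, 0, 0, 2, 0, 1, 0, 1, 1, 1, 2],
  [-1, -1, 0, 0, 0, -2, -1, -1, 0, -1, -1, -1, 0, 0, -2, 0, 0, 0, 0, 0, 0, 0, 0, 0],
  [0, -1, 0, -1, -1, -2, 0, -1, -1, -2, -1, -2, 1, 0, 0, 1, 1, 0, 2, 1, 0, 0, 1, 2],
  [-1, -1, 0, 0, 0, -1, 0, -1, -1, -1, -1, -2, 1, 1, 0, 0, 0, 0, 1, 2, 1, 1, 1, 2],
  [-1, -1, 0, -2, 0, -2, -1, -1, -1, -1, 0, -2, 1, 0, 0, 1, 1, 0, 0, 1, 2, 0, 1, 2],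
  [-1, -1, -1, -1, -1, -2, 0, -2, -1, -1, 0, -2, 1, 0, 0, 1, 1, 0, 0, 1, 0, 2, 1, 2],
  [0, 0, 1, 0, 0, -1, 0, -1, 0, -1, 0, -2, 1, 1, 0, 1, 1, 0, 1, 1, 1, 1, 2, 2],
  [-1, -1, 1, -1, 0, -2, 0, -2, 0, -2, 0, -3, 2, 2, 0, 2, 2, 0, 2, 2, 2, 2, 2, 4]]

theorem isoXA : chkIso XA XA' = true := by decide +kernel

noncomputable def XB : List (List ℤ) :=
  [[0, 1, 0, 0, 0, 0, 0, -1, 0, 0, 0, -1, 0, 0, 0, 0, 0, 1, 1, 0, 1, 0, 0, -2],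
  [2, 1, 1, 1, 1, 1, 0, 0, 0, 0, 1, -2, -3, -2, -2, -1, -2, -2, -2, -1, -1, -1, -2, 7],
  [2, 2, 1, 0, 1, 1, 1, 0, 0, 1, 1, -2, -3, -2, -4, -2, -3, -2, -2, -2, -2, -2, -3, 11],
  [1, 1, -1, 0, 0, 0, 0, 0, 0, 0, 0, -1, 0, 0, -1, 0, -1, 0, 0, 0, 1, 0, 0, 0],
  [1, 1, 0, 0, 0, -1, -1, -1, 0, -1, -1, 0, 0, 0, 1, 1, 0, 1, 1, 1, 2, 2, 0, -4],
  [1, 1, -1, -1, -1, 0, 0, -1, 0, 0, -1, 0, 1, 1, 0, 1, 0, 1, 1, 1, 2, 1, 0, -4],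
  [1, 1, 0, 0, 1, 1, 1, 0, 0, 0, 1, -2, -2, -1, -2, -1, -2, -1, -1, -1, -1, -1, -1, 5],
  [1, 1, 0, 0, 0, 0, 0, 0, 0, 0, 0, -1, -1, 0, -1, 0, -1, 0, 0, 0, 0, 0, -1, 1],
  [2, 2, 0, 0, 1, 1, 0, 1, 1, 0, 1, -2, -3, -2, -3, -2, -3, -2, -2, -2, -2, -1, -2, 10],
  [1, 1, 0, 0, 0, 0, -1, 0, 0, 0, 0, -1, -1, 0, 0, 0, -1, 0, 0, 0, 0, 1, 0, 0],
  [1, 1, 0, 0, 0, 0, 0, -1, 0, 0, 1, -1, -1, 0, -1, 0, -1, 0, 0, 0, 0, 0, -1, 1],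
  [1, 1, 0, 0, 0, 0, 0, 1, 0, 0, 0, -1, -1, 0, -1, -1, -1, -1, -1, -1, 0, 0, -1, 3],
  [0, 0, 0, 0, 0, 0, 0, -2, 0, 0, 0, 0, 1, 0, 0, 1, 0, 1, 1, 1, 1, 0, 0, -3],
  [1, 1, 0, 0, 0, 0, 0, -1, 0, 0, 0, 0, -1, -1, -1, 0, -1, 0, 0, 0, 1, 0, -1, 2],
  [0, 0, 0, 0, 0, 0, 0, -2, 0, 0, 0, 0, 0, 0, 1, 1, 0, 1, 1, 1, 1, 0, 0, -3],
  [1, 1, 1, 1, 1, 1, 1, 0, 0, 1, 1, -2, -3, -2, -3, -1, -2, -2, -2, -2, -2, -2, -3, 10],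
  [0, 0, 0, 0, 0, 0, -1, -1, 0, -1, 0, 0, 0, 0, 1, 1, 1, 1, 1, 1, 1, 1, 1, -4],
  [0, 0, 0, 0, -1, -1, 0, -1, 0, 0, -1, 0, 1, 1, 1, 1, 1, 2, 1, 1, 2, 1, 0, -5],
  [0, 0, -1, -1, 0, 0, 0, -1, 0, 0, 0, 0, 1, 1, 0, 1, 0, 1, 2, 1, 1, 0, 1, -4],
  [0, 0, 0, 0, 0, 0, -1, -1, 0, -1, 0, 0, 0, 0, 1, 1, 0, 1, 1, 2, 1, 1, 1, -4],
  [1, 1, 0, 0, 0, 0, 0, -1, 0, 0, 0, 0, -1, 0, -1, 0, -1, 0, 0, 0, 0, 0, -1, 2],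
  [0, 0, -1, -1, 0, 0, 0, -1, 0, 0, 0, 0, 1, 1, 0, 1, 0, 1, 1, 1, 1, 1, 1, -4],
  [1, 1, 1, 1, 1, 1, 1, 0, 0, 1, 1, -2, -3, -2, -3, -2, -2, -2, -2, -2, -2, -2, -2, 10],
  [0, 0, 0, 0, 0, 0, 0, -2, 0, 0, 0, 0, 0, 0, 0, 1, 0, 1, 1, 1, 1, 0, 0, -2]]

noncomputable def XB' : List (List ℤ) :=
  [[0, 0, 0, 0, 0, 0, -1, -1, 0, 0, -1, -1, -1, 0, -1, -1, 0, 0, 0, -1, 0, -1, 0, -1],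
  [0, 0, 0, 0, 0, 0, -1, 0, 0, 0, 0, 0, -1, -1, -1, -1, -1, -1, -1, -1, 0, -1, -1, -2],
  [0, 0, 0, -1, 0, -1, -1, -1, -1, -1, -1, -1, 0, 0, -1, 0, 0, 0, 0, 0, 0, -1, 0, 0],
  [0, 0, -1, 0, 0, -1, -1, 0, -1, 0, -1, -1, 0, -1, -1, -1, -1, 0, -1, 0, 0, -1, 0, -1],
  [0, 0, 0, 0, 0, -1, -1, -1, 0, -1, -1, -1, 0, 0, -1, 0, 0, 0, 0, 0, 0, 0, 0, 0],
  [0, 0, -1, -1, -1, 0, 0, -1, 0, 0, -1, -1, -1, 0, 0, 0, 0, 0, 0, 0, 0, 0, 0, 0],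
  [-1, -1, -1, -1, -1, 0, 0, -1, -1, -1, -1, -2, -1, 0, 0, 0, -1, 0, 0, 0, 0, 0, 0, 0],
  [-1, 0, -1, 0, -1, -1, -1, 0, 0, -1, -2, 0, -2, -1, -2, -1, -2, -1, -1, -1, -2, -2, -2, -3],
  [0, 0, -1, -1, 0, 0, -1, 0, 0, -1, 0, -1, 0, 0, 0, 0, 0, 0, 0, 0, 0, 0, -1, 0],
  [0, 0, -1, 0, -1, 0, -1, -1, -1, 0, -1, -1, -1, 0, 0, -1, -1, 0, -1, -1, -1, 0, 0, -1],
  [-1, 0, -1, -1, -1, -1, -1, -2, 0, -1, 0, -1, -1, 0, -1, 0, 0, -1, -1, -1, -1, 0, -1, -1],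
  [-1, 0, -1, -1, -1, -1, -2, 0, -1, -1, -1, 0, -1, -1, -1, -2, -2, -2, -2, -2, -1, -2, -2, -3],
  [-1, -1, 0, 0, 0, -1, -1, -2, 0, -1, -1, -1, 0, 0, -2, 0, 0, 0, 0, 0, 0, 0, 0, 0],
  [0, -1, 0, -1, 0, 0, 0, -1, 0, 0, 0, -1, 0, 0, 0, 1, 1, 1, 1, 1, 2, 1, 1, 2],
  [-1, -1, -1, -1, -1, 0, 0, -2, 0, 0, -1, -1, -2, 0, 0, 0, 0, 0, 0, 0, 0, 0, 0, 0],
  [-1, -1, 0, -1, 0, 0, 0, -1, 0, -1, 0, -2, 0, 1, 0, 2, 1, 1, 1, 1, 1, 1, 0, 2],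
  [0, -1, 0, -1, 0, 0, -1, -2, 0, -1, 0, -2, 0, 1, 0, 1, 2, 1, 1, 0, 1, 1, 1, 2],
  [0, -1, 0, 0, 0, 0, 0, -1, 0, 0, -1, -2, 0, 1, 0, 1, 1, 2, 1, 1, 1, 1, 1, 2],
  [0, -1, 0, -1, 0, 0, 0, -1, 0, -1, -1, -2, 0, 1, 0, 1, 1, 1, 2, 1, 1, 0, 1, 2],
  [-1, -1, 0, 0, 0, 0, 0, -1, 0, -1, -1, -2, 0, 1, 0, 1, 0, 1, 1, 2, 1, 1, 1, 2],
  [0, 0, 0, 0, 0, 0, 0, -2, 0, -1, -1, -1, 0, 2, 0, 1, 1, 1, 1, 1, 0, 1, 1, 2],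
  [-1, -1, -1, -1, 0, 0, 0, -2, 0, 0, 0, -2, 0, 1, 0, 1, 1, 1, 0, 1, 1, 2, 1, 2],
  [0, -1, 0, 0, 0, 0, 0, -2, -1, 0, -1, -2, 0, 1, 0, 0, 1, 1, 1, 1, 1, 1, 2, 2],
  [-1, -2, 0, -1, 0, 0, 0, -3, 0, -1, -1, -3, 0, 2, 0, 2, 2, 2, 2, 2, 2, 2, 2, 4]]

theorem isoXB : chkIso XB XB' = true := by decide +kernel

noncomputable def Mg1 : List (List ℤ) :=
  [[0, -1, 0, 0, 0, 1, 0, 0, 0, 0, 1, 0, 0, 0, -1, 0, 0, -1, 0, 0, -1, -1, 1, 1],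
  [-1, 0, 0, 0, 0, 0, 0, 0, 1, 0, 1, 0, 0, 0, 0, -1, -1, 0, 0, -1, -1, -1, 1, 2],
  [0, 0, 0, 1, 0, 1, 0, 0, 1, 0, 1, 0, -1, -1, -1, -1, -1, -1, -1, -1, -1, -2, 0, 5],
  [0, 0, 1, 0, 0, 0, 0, 0, 0, 0, 1, 0, -1, 0, -1, -1, -1, 0, 0, 0, -1, 0, 0, 2],
  [0, 0, 0, 0, 0, 1, 0, -1, 0, 0, 1, 0, 0, 0, -1, 0, -1, 0, 0, 0, 0, -1, 0, 1],
  [0, 0, 0, 0, 0, 1, 0, 0, 0, 0, 0, 0, 0, 0, -1, 0, 0, -1, 0, 0, 0, 0, 0, 1],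
  [0, 0, 0, 0, 0, 1, 1, 0, 1, 0, 0, 0, 0, -1, -1, -1, -1, -1, -1, -1, -1, -1, 0, 4],
  [0, 0, 0, 0, -1, 0, 0, 0, 1, 0, 1, 0, 0, 0, -1, -1, -1, 0, 0, 0, 0, -1, 0, 2],
  [0, 0, 0, 0, 0, 0, 0, 0, 1, 0, 0, 0, 0, 0, 0, 0, -1, 0, 0, -1, 0, 0, 0, 1],
  [0, 0, 0, 0, 0, 0, 0, 0, 0, 1, 0, 0, 0, 0, -1, 0, -1, -1, 0, -1, 0, 0, 0, 2],
  [0, 0, 0, 0, 0, 1, 0, 0, 1, 0, 1, 0, 0, -1, -1, -1, -1, -1, -1, -1, -1, -1, 0, 4],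
  [-1, -1, 0, 0, -1, -2, 0, -1, 0, 0, 0, 1, 2, 2, 2, 1, 1, 2, 2, 1, 2, 1, 1, -7],
  [0, 0, 0, 0, 0, 2, 0, 0, 0, 0, 2, 0, -1, -1, -2, -1, -1, -1, -1, 0, -2, -2, 0, 5],
  [0, 0, 0, 0, 0, 2, 0, 0, 0, 0, 0, 0, 0, 0, -1, 0, 0, -1, -1, 0, -1, -1, 0, 2],
  [0, 0, 0, 0, 0, 2, 0, 0, 0, 0, 0, 0, 0, -1, -1, 0, 0, -2, -1, 0, -1, -1, 0, 3],
  [0, 0, 0, 0, 0, 2, 0, 0, 2, 0, 0, 0, 0, -2, -1, -1, -1, -1, -2, -1, -2, -2, 0, 6],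
  [0, 0, 0, 0, 0, 2, 0, 0, 0, 0, 0, 0, 0, -1, -1, 0, 0, -1, -1, -1, -1, -1, 0, 3],
  [0, 0, 0, 0, 0, 2, 0, 0, 0, 0, 0, 0, 0, -1, -2, 0, 0, -1, -1, 0, -1, -1, 0, 3],
  [0, 0, 0, 0, 0, 2, 0, 0, 0, 0, 0, 0, 0, -1, -1, 0, 0, -1, 0, 0, -1, -1, 0, 2],
  [0, 0, 0, 0, 0, 2, 0, 0, 0, 0, 0, 0, 0, -1, -1, 0, -1, -1, -1, 0, -1, -1, 0, 3],
  [0, 0, 0, 0, 0, 2, 0, 0, 0, 0, 0, 0, 0, -1, -1, 0, 0, -1, -1, 0, 0, -1, 0, 2],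
  [0, 0, 0, 0, 0, 2, 0, 0, 0, 0, 0, 0, 0, -1, -1, 0, 0, -1, -1, 0, -1, 0, 0, 2],
  [0, 0, 0, 0, 0, 2, 0, 0, 0, 0, 0, 0, 0, -1, -1, 0, 0, -1, -1, 0, -1, -1, 1, 2],
  [0, 0, 0, 0, 0, 4, 0, 0, 0, 0, 0, 0, 0, -2, -2, 0, 0, -2, -2, 0, -2, -2, 0, 5]]

noncomputable def Mg1' : List (List ℤ) :=
  [[0, -1, 1, 0, -1, 0, 0, -1, 0, -1, 0, 0, 0, 0, -1, 0, 0, -1, 1, -1, 0, 0, 1, 0],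
  [-1, 0, 1, 0, -1, 0, 0, -1, 0, -1, 0, 0, 0, 1, 0, 0, -1, -1, 0, -1, 0, 0, 1, 0],
  [1, 1, 2, 2, 1, 2, 1, 1, 2, 1, 1, 2, 0, 1, 0, 0, 0, 0, 1, 0, 1, 0, 1, 0],
  [0, 0, 2, 2, 0, 1, 1, 0, 1, 0, 0, 1, 0, 1, -1, 0, -1, 0, 1, 0, 0, 1, 1, 0],
  [-1, -1, 1, 0, 0, 1, -1, -1, 0, -1, 0, 0, 0, 1, -1, 0, -1, 0, 0, -1, 1, 0, 0, 0],
  [0, 0, 2, 1, 1, 2, 1, 0, 2, 0, 1, 0, 1, 2, 0, 1, 1, 0, 2, 1, 2, 2, 1, 2],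
  [0, 0, 1, 1, -1, 1, 2, 0, 1, 0, 0, 1, 0, 0, 0, 0, -1, -1, 1, 0, 0, 1, 1, 0],
  [-1, -1, 1, 0, -1, 0, 0, 0, 1, -1, 0, 0, 0, 0, -1, 0, -1, -1, 1, 0, 1, 0, 0, 0],
  [0, 0, 2, 1, 0, 2, 1, 1, 2, 0, 1, 1, 0, 1, 0, 1, -1, 0, 1, -1, 1, 1, 0, 0],
  [-1, -1, 1, 0, -1, 0, 0, -1, 0, 0, 0, 0, 0, 0, -1, 0, -1, -1, 0, -1, 1, 1, 1, 0],
  [0, 0, 1, 0, 0, 1, 0, 0, 1, 0, 2, 1, 1, 0, 0, 0, 0, -1, 0, -1, 1, 1, 0, 0],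
  [0, 0, 2, 1, 0, 0, 1, 0, 1, 0, 1, 0, 1, 1, 0, 1, 0, 0, 1, 0, 1, 1, 1, 1],
  [0, 0, 0, 0, 0, 1, 0, 0, 0, 0, 1, 1, 0, 0, 0, 0, 0, 0, 0, 0, 0, 0, 0, 0],
  [0, 1, 1, 1, 1, 2, 0, 0, 1, 0, 0, 1, 0, 2, 0, 0, 0, 0, 0, 0, 0, 0, 0, 0],
  [-1, 0, 0, -1, -1, 0, 0, -1, 0, -1, 0, 0, 0, 0, 0, 0, 0, -2, 0, 0, 0, 0, 0, 0],
  [0, 0, 0, 0, 0, 1, 0, 0, 1, 0, 0, 1, 0, 0, 0, 0, 0, 0, 0, 0, 0, 0, 0, 0],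
  [0, -1, 0, -1, -1, 1, -1, -1, -1, -1, 0, 0, 0, 0, 0, 0, 0, 0, 0, -2, 0, 0, 0, 0],
  [-1, -1, 0, 0, 0, 0, -1, -1, 0, -1, -1, 0, 0, 0, -2, 0, 0, 0, 0, 0, 0, 0, 0, 0],
  [1, 0, 1, 1, 0, 2, 1, 1, 1, 0, 0, 1, 0, 0, 0, 0, 0, 0, 2, 0, 0, 0, 0, 0],
  [-1, -1, 0, 0, -1, 1, 0, 0, -1, -1, -1, 0, 0, 0, 0, 0, -2, 0, 0, 0, 0, 0, 0, 0],
  [0, 0, 1, 0, 1, 2, 0, 1, 1, 1, 1, 1, 0, 0, 0, 0, 0, 0, 0, 0, 2, 0, 0, 0],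
  [0, 0, 0, 1, 0, 2, 1, 0, 1, 1, 1, 1, 0, 0, 0, 0, 0, 0, 0, 0, 0, 2, 0, 0],
  [1, 1, 1, 1, 0, 1, 1, 0, 0, 1, 0, 1, 0, 0, 0, 0, 0, 0, 0, 0, 0, 0, 2, 0],
  [0, 0, 0, 0, 0, 2, 0, 0, 0, 0, 0, 1, 0, 0, 0, 0, 0, 0, 0, 0, 0, 0, 0, 0]]

theorem isoMg1 : chkIso Mg1 Mg1' = true := by decide +kernel

noncomputable def Ms1 : List (List ℤ) :=
  [[1, 0, 0, 0, 0, 0, 0, 0, 0, 0, 0, 0, -1, 0, 0, 0, 0, 0, 0, 0, 0, 0, 0, 0],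
  [0, 1, 0, 0, 0, 0, 0, 0, 0, 0, 0, 0, -1, 0, 0, -1, 0, 0, 0, 0, 0, 0, 0, 1],
  [0, 0, -1, 0, 0, 0, 0, 0, 0, 0, 0, 0, 0, 1, 0, 0, 0, 0, 1, 0, 1, 0, 1, -2],
  [0, 0, 0, -1, 0, 0, 0, 0, 0, 0, 0, 0, 0, 1, 0, 0, 0, 1, 1, 1, 0, 1, 1, -3],
  [0, 0, 0, 0, 1, 0, 0, 0, 0, 0, 0, 0, -1, 0, 0, 0, 0, 0, 0, 0, 0, 0, 0, 0],
  [0, 0, 0, 0, 0, -1, 0, 0, 0, 0, 0, 0, 0, 1, 1, 0, 0, 1, 1, 0, 1, 1, 0, -3],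
  [0, 0, 0, 0, 0, 0, 1, 0, 0, 0, 0, 0, 0, 0, 0, -1, 0, 0, 0, 0, 0, 0, 0, 0],
  [0, 0, 0, 0, 0, 0, 0, 1, 0, 0, 0, 0, -1, 0, 0, -1, 0, 0, 0, 0, 0, 0, 0, 1],
  [0, 0, 0, 0, 0, 0, 0, 0, -1, 0, 0, 0, 0, 1, 0, 0, 1, 0, 1, 1, 1, 1, 0, -3],
  [0, 0, 0, 0, 0, 0, 0, 0, 0, 1, 0, 0, 0, 0, 0, 0, 0, 0, 0, 0, 0, 0, 0, 0],
  [0, 0, 0, 0, 0, 0, 0, 0, 0, 0, -1, 0, 0, 0, 1, 0, 1, 0, 0, 0, 1, 1, 0, -2],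
  [0, 0, -1, -1, 0, -1, 0, 0, -1, 0, -1, 1, 1, 2, 1, 1, 1, 1, 2, 1, 2, 2, 1, -6],
  [0, 0, 0, 0, 0, 0, 0, 0, 0, 0, 0, 0, -1, 0, 0, 0, 0, 0, 0, 0, 0, 0, 0, 0],
  [0, 0, 0, 0, 0, 0, 0, 0, 0, 0, 0, 0, 0, 1, 0, 0, 0, 0, 0, 0, 0, 0, 0, -1],
  [0, 0, 0, 0, 0, 0, 0, 0, 0, 0, 0, 0, 0, 0, 1, 0, 0, 0, 0, 0, 0, 0, 0, -1],
  [0, 0, 0, 0, 0, 0, 0, 0, 0, 0, 0, 0, 0, 0, 0, -1, 0, 0, 0, 0, 0, 0, 0, 0],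
  [0, 0, 0, 0, 0, 0, 0, 0, 0, 0, 0, 0, 0, 0, 0, 0, 1, 0, 0, 0, 0, 0, 0, -1],
  [0, 0, 0, 0, 0, 0, 0, 0, 0, 0, 0, 0, 0, 0, 0, 0, 0, 1, 0, 0, 0, 0, 0, -1],
  [0, 0, 0, 0, 0, 0, 0, 0, 0, 0, 0, 0, 0, 0, 0, 0, 0, 0, 1, 0, 0, 0, 0, -1],
  [0, 0, 0, 0, 0, 0, 0, 0, 0, 0, 0, 0, 0, 0, 0, 0, 0, 0, 0, 1, 0, 0, 0, -1],
  [0, 0, 0, 0, 0, 0, 0, 0, 0, 0, 0, 0, 0, 0, 0, 0, 0, 0, 0, 0, 1, 0, 0, -1],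
  [0, 0, 0, 0, 0, 0, 0, 0, 0, 0, 0, 0, 0, 0, 0, 0, 0, 0, 0, 0, 0, 1, 0, -1],
  [0, 0, 0, 0, 0, 0, 0, 0, 0, 0, 0, 0, 0, 0, 0, 0, 0, 0, 0, 0, 0, 0, 1, -1],
  [0, 0, 0, 0, 0, 0, 0, 0, 0, 0, 0, 0, 0, 0, 0, 0, 0, 0, 0, 0, 0, 0, 0, -1]]

noncomputable def Ms1' : List (List ℤ) :=
  [[2, 1, 0, 1, 0, 1, 1, 1, 1, 2, 0, 2, -2, -1, 0, -1, 0, 0, 0, -1, -1, -1, 0, -2],
  [1, 2, 0, 1, 1, 1, 1, 0, 1, 2, 0, 1, -1, 1, 1, -1, 1, 0, 0, 1, 0, 0, 1, 0],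
  [0, 0, 0, 1, 0, 1, 0, 0, 1, 1, -1, 1, -2, 0, -1, -2, -1, -1, 0, -1, 0, -1, 0, -2],
  [1, 1, 1, 2, 1, 2, 2, 1, 2, 2, 0, 1, -1, 1, 0, 0, 0, 1, 1, 1, 0, 1, 1, 0],
  [0, 1, 0, 1, 2, 1, 0, 1, 2, 2, 0, 2, -2, 0, -1, -1, 0, 0, -1, 0, 0, -1, -1, -2],
  [1, 1, 1, 2, 1, 2, 1, 2, 2, 2, 1, 2, -1, 0, 0, -1, -1, 0, 0, -1, 0, 0, -1, -2],
  [1, 1, 0, 2, 0, 1, 2, 1, 1, 2, 0, 2, -1, -1, 0, -2, -1, -1, 0, 0, -1, 0, 0, -2],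
  [1, 0, 0, 1, 1, 2, 1, 2, 1, 2, 0, 1, -1, 0, 1, -1, 0, 1, 1, 1, 1, 0, 0, 0],
  [1, 1, 1, 2, 2, 2, 1, 1, 2, 2, 1, 1, 0, 1, 0, -1, 1, 0, 1, 1, 1, 1, 0, 0],
  [2, 2, 1, 2, 2, 2, 2, 2, 2, 4, 2, 2, 0, 0, 1, 0, 1, 1, 0, 1, 1, 1, 1, 0],
  [0, 0, -1, 0, 0, 1, 0, 0, 1, 2, 0, 1, -2, -1, 0, -2, 0, -1, -1, -1, 0, 0, -1, -2],
  [2, 1, 1, 1, 2, 2, 2, 1, 1, 2, 1, 0, 1, 2, 2, 1, 2, 2, 2, 2, 2, 2, 2, 3],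
  [-2, -1, -2, -1, -2, -1, -1, -1, 0, 0, -2, 1, -4, -2, -2, -2, -2, -2, -2, -2, -2, -2, -2, -4],
  [-1, 1, 0, 1, 0, 0, -1, 0, 1, 0, -1, 2, -2, 0, -2, -2, -2, -2, -2, -2, -2, -2, -2, -4],
  [0, 1, -1, 0, -1, 0, 0, 1, 0, 1, 0, 2, -2, -2, 0, -2, -2, -2, -2, -2, -2, -2, -2, -4],
  [-1, -1, -2, 0, -1, -1, -2, -1, -1, 0, -2, 1, -2, -2, -2, -4, -2, -2, -2, -2, -2, -2, -2, -4],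
  [0, 1, -1, 0, 0, -1, -1, 0, 1, 1, 0, 2, -2, -2, -2, -2, 0, -2, -2, -2, -2, -2, -2, -4],
  [0, 0, -1, 1, 0, 0, -1, 1, 0, 1, -1, 2, -2, -2, -2, -2, -2, 0, -2, -2, -2, -2, -2, -4],
  [0, 0, 0, 1, -1, 0, 0, 1, 1, 0, -1, 2, -2, -2, -2, -2, -2, -2, 0, -2, -2, -2, -2, -4],
  [-1, 1, -1, 1, 0, -1, 0, 1, 1, 1, -1, 2, -2, -2, -2, -2, -2, -2, -2, 0, -2, -2, -2, -4],
  [-1, 0, 0, 0, 0, 0, -1, 1, 1, 1, 0, 2, -2, -2, -2, -2, -2, -2, -2, -2, 0, -2, -2, -4],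
  [-1, 0, -1, 1, -1, 0, 0, 0, 1, 1, 0, 2, -2, -2, -2, -2, -2, -2, -2, -2, -2, 0, -2, -4],
  [0, 1, 0, 1, -1, -1, 0, 0, 0, 1, -1, 2, -2, -2, -2, -2, -2, -2, -2, -2, -2, -2, 0, -4],
  [-2, 0, -2, 0, -2, -2, -2, 0, 0, 0, -2, 3, -4, -4, -4, -4, -4, -4, -4, -4, -4, -4, -4, -8]]

theorem isoMs1 : chkIso Ms1 Ms1' = true := by decide +kernel

noncomputable def Mg2 : List (List ℤ) :=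
  [[0, 1, 0, 0, 0, 1, 0, 0, 0, 0, 1, 0, -1, -1, -2, -1, -1, -1, -1, -1, -1, -1, 0, 5],
  [1, 0, 0, 0, 0, 0, 0, 0, 1, 0, 1, 0, -1, -1, -1, -1, -2, -1, -1, -1, -1, -1, 0, 5],
  [0, 0, 0, -1, 0, 1, 0, 0, 1, 0, 1, 0, 0, -1, -1, -1, -1, 0, -1, 0, -2, -1, 1, 3],
  [0, 0, -1, 0, 0, 0, 0, 0, 0, 0, 1, 0, 0, 0, -1, 0, -1, 0, 0, 0, 0, -1, 1, 1],
  [0, 0, 0, 0, 0, 1, 0, -1, 0, 0, 1, 0, 0, -1, -1, 0, -1, 0, 0, 0, -1, -1, 0, 2],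
  [0, 0, 0, 0, 0, 1, 0, 0, 0, 0, 0, 0, 0, -1, -1, 0, 0, -1, -1, 0, -1, -1, 0, 3],
  [0, 0, 0, 0, 0, 1, 1, 0, 1, 0, 0, 0, 0, -1, -1, -1, -1, -1, -2, -1, -1, -2, 0, 5],
  [0, 0, 0, 0, -1, 0, 0, 0, 1, 0, 1, 0, 0, 0, -1, -1, -1, 0, -1, 0, -1, -1, 0, 3],
  [0, 0, 0, 0, 0, 0, 0, 0, 1, 0, 0, 0, 0, -1, 0, 0, -1, 0, -1, -1, -1, -1, 0, 3],
  [0, 0, 0, 0, 0, 0, 0, 0, 0, 1, 0, 0, 0, 0, -1, 0, -1, -1, 0, -1, -1, -1, 0, 3],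
  [0, 0, 0, 0, 0, 1, 0, 0, 1, 0, 1, 0, 0, -1, -1, -1, -1, -1, -1, -1, -2, -2, 0, 5],
  [0, 0, -1, -1, -1, -2, 0, -1, 0, 0, 0, 1, 2, 2, 1, 1, 0, 2, 2, 1, 2, 1, 1, -6],
  [0, 0, 0, 0, 0, 2, 0, 0, 0, 0, 2, 0, -1, -1, -2, -1, -1, -1, -1, 0, -2, -2, 0, 5],
  [0, 0, 0, 0, 0, 2, 0, 0, 0, 0, 0, 0, 0, -2, -1, 0, 0, -1, -1, 0, -1, -1, 0, 3],
  [0, 0, 0, 0, 0, 2, 0, 0, 0, 0, 0, 0, 0, -1, -1, 0, 0, -2, -1, 0, -1, -1, 0, 3],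
  [0, 0, 0, 0, 0, 2, 0, 0, 2, 0, 0, 0, 0, -2, -1, -1, -1, -1, -2, -1, -2, -2, 0, 6],
  [0, 0, 0, 0, 0, 2, 0, 0, 0, 0, 0, 0, 0, -1, -1, 0, 0, -1, -1, -1, -1, -1, 0, 3],
  [0, 0, 0, 0, 0, 2, 0, 0, 0, 0, 0, 0, 0, -1, -2, 0, 0, -1, -1, 0, -1, -1, 0, 3],
  [0, 0, 0, 0, 0, 2, 0, 0, 0, 0, 0, 0, 0, -1, -1, 0, 0, -1, -2, 0, -1, -1, 0, 3],
  [0, 0, 0, 0, 0, 2, 0, 0, 0, 0, 0, 0, 0, -1, -1, 0, -1, -1, -1, 0, -1, -1, 0, 3],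
  [0, 0, 0, 0, 0, 2, 0, 0, 0, 0, 0, 0, 0, -1, -1, 0, 0, -1, -1, 0, -2, -1, 0, 3],
  [0, 0, 0, 0, 0, 2, 0, 0, 0, 0, 0, 0, 0, -1, -1, 0, 0, -1, -1, 0, -1, -2, 0, 3],
  [0, 0, 0, 0, 0, 2, 0, 0, 0, 0, 0, 0, 0, -1, -1, 0, 0, -1, -1, 0, -1, -1, 1, 2],
  [0, 0, 0, 0, 0, 4, 0, 0, 0, 0, 0, 0, 0, -2, -2, 0, 0, -2, -2, 0, -2, -2, 0, 5]]

noncomputable def Mg2' : List (List ℤ) :=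
  [[-1, 0, 0, -1, -1, -1, -1, -2, -1, -1, 0, 0, 0, 0, -1, 0, 0, -1, -1, -1, 0, 0, 1, 0],
  [0, -1, 0, -1, -2, -1, 0, -1, -1, -1, 0, 0, 0, -1, 0, 0, -1, -1, 0, -1, 0, 0, 1, 0],
  [0, 0, -1, -1, -1, -1, 0, -1, -1, 0, 0, 0, 0, -1, 0, 0, 0, 0, -1, 0, -1, 0, 1, 0],
  [-1, -1, -1, -1, -1, -2, -1, -1, -2, -1, -1, -1, 0, -1, -1, 0, -1, 0, -1, 0, 0, -1, 1, 0],
  [-1, -2, -1, -1, -2, -1, -1, -2, -2, -2, -1, -1, 0, -1, -1, 0, -1, 0, 0, -1, -1, 0, 0, 0],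
  [-1, -1, -1, -2, -1, -2, -1, -2, -2, -2, -1, -2, 1, 0, 0, 1, 1, 0, 0, 1, 0, 0, 1, 2],
  [-1, 0, 0, -1, -1, -1, 0, -1, -1, -1, -1, 0, 0, 0, 0, 0, -1, -1, -1, 0, 0, -1, 1, 0],
  [-2, -1, -1, -1, -2, -2, -1, -2, -1, -2, -1, -1, 0, 0, -1, 0, -1, -1, -1, 0, -1, 0, 0, 0],
  [-1, -1, -1, -2, -2, -2, -1, -1, -2, -2, -1, -1, 0, -1, 0, 1, -1, 0, -1, -1, -1, -1, 0, 0],
  [-1, -1, 0, -1, -2, -2, -1, -2, -2, -2, -2, -1, 0, 0, -1, 0, -1, -1, 0, -1, -1, -1, 1, 0],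
  [0, 0, 0, -1, -1, -1, -1, -1, -1, -2, 0, 0, 1, 0, 0, 0, 0, -1, 0, -1, -1, -1, 0, 0],
  [0, 0, 0, -1, -1, -2, 0, -1, -1, -1, 0, -1, 1, 0, 0, 1, 0, 0, 0, 0, 0, 0, 1, 1],
  [0, 0, 0, 0, 0, 1, 0, 0, 0, 0, 1, 1, 0, 0, 0, 0, 0, 0, 0, 0, 0, 0, 0, 0],
  [0, -1, -1, -1, -1, 0, 0, 0, -1, 0, 0, 0, 0, -2, 0, 0, 0, 0, 0, 0, 0, 0, 0, 0],
  [-1, 0, 0, -1, -1, 0, 0, -1, 0, -1, 0, 0, 0, 0, 0, 0, 0, -2, 0, 0, 0, 0, 0, 0],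
  [0, 0, 0, 0, 0, 1, 0, 0, 1, 0, 0, 1, 0, 0, 0, 0, 0, 0, 0, 0, 0, 0, 0, 0],
  [0, -1, 0, -1, -1, 1, -1, -1, -1, -1, 0, 0, 0, 0, 0, 0, 0, 0, 0, -2, 0, 0, 0, 0],
  [-1, -1, 0, 0, 0, 0, -1, -1, 0, -1, -1, 0, 0, 0, -2, 0, 0, 0, 0, 0, 0, 0, 0, 0],
  [-1, 0, -1, -1, 0, 0, -1, -1, -1, 0, 0, 0, 0, 0, 0, 0, 0, 0, -2, 0, 0, 0, 0, 0],
  [-1, -1, 0, 0, -1, 1, 0, 0, -1, -1, -1, 0, 0, 0, 0, 0, -2, 0, 0, 0, 0, 0, 0, 0],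
  [0, 0, -1, 0, -1, 0, 0, -1, -1, -1, -1, 0, 0, 0, 0, 0, 0, 0, 0, 0, -2, 0, 0, 0],
  [0, 0, 0, -1, 0, 0, -1, 0, -1, -1, -1, 0, 0, 0, 0, 0, 0, 0, 0, 0, 0, -2, 0, 0],
  [1, 1, 1, 1, 0, 1, 1, 0, 0, 1, 0, 1, 0, 0, 0, 0, 0, 0, 0, 0, 0, 0, 2, 0],
  [0, 0, 0, 0, 0, 2, 0, 0, 0, 0, 0, 1, 0, 0, 0, 0, 0, 0, 0, 0, 0, 0, 0, 0]]

theorem isoMg2 : chkIso Mg2 Mg2' = true := by decide +kernel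

noncomputable def Ms2 : List (List ℤ) :=
  [[-1, 0, 0, 0, 0, 0, 0, 0, 0, 0, 0, 0, 0, 0, 1, 0, 1, 1, 0, 0, 0, 0, 1, -2],
  [0, -1, 0, 0, 0, 0, 0, 0, 0, 0, 0, 0, 0, 0, 1, 0, 1, 0, 0, 1, 0, 0, 1, -2],
  [0, 0, 1, 0, 0, 0, 0, 0, 0, 0, 0, 0, -1, -1, 0, -1, 0, 0, -1, 0, -1, 0, 0, 2],
  [0, 0, 0, 1, 0, 0, 0, 0, 0, 0, 0, 0, -1, -1, 0, 0, 0, 0, -1, 0, 0, -1, 0, 2],
  [0, 0, 0, 0, 1, 0, 0, 0, 0, 0, 0, 0, -1, -1, 0, 0, 0, 0, 0, 0, -1, 0, 0, 1],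
  [0, 0, 0, 0, 0, -1, 0, 0, 0, 0, 0, 0, 0, 0, 1, 0, 0, 1, 0, 0, 0, 0, 0, -1],
  [0, 0, 0, 0, 0, 0, 1, 0, 0, 0, 0, 0, 0, 0, 0, -1, 0, 0, -1, 0, 0, -1, 0, 1],
  [0, 0, 0, 0, 0, 0, 0, 1, 0, 0, 0, 0, -1, 0, 0, -1, 0, 0, -1, 0, -1, 0, 0, 2],
  [0, 0, 0, 0, 0, 0, 0, 0, -1, 0, 0, 0, 0, 0, 0, 0, 1, 0, 0, 1, 0, 0, 0, -1],
  [0, 0, 0, 0, 0, 0, 0, 0, 0, 1, 0, 0, 0, 0, 0, 0, 0, 0, 0, 0, -1, -1, 0, 1],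
  [0, 0, 0, 0, 0, 0, 0, 0, 0, 0, -1, 0, 0, 0, 1, 0, 1, 0, 0, 0, 0, 0, 0, -1],
  [-1, -1, 0, 0, 0, -1, 0, 0, -1, 0, -1, 1, 1, 1, 2, 1, 2, 1, 1, 1, 1, 1, 1, -5],
  [0, 0, 0, 0, 0, 0, 0, 0, 0, 0, 0, 0, -1, 0, 0, 0, 0, 0, 0, 0, 0, 0, 0, 0],
  [0, 0, 0, 0, 0, 0, 0, 0, 0, 0, 0, 0, 0, -1, 0, 0, 0, 0, 0, 0, 0, 0, 0, 0],
  [0, 0, 0, 0, 0, 0, 0, 0, 0, 0, 0, 0, 0, 0, 1, 0, 0, 0, 0, 0, 0, 0, 0, -1],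
  [0, 0, 0, 0, 0, 0, 0, 0, 0, 0, 0, 0, 0, 0, 0, -1, 0, 0, 0, 0, 0, 0, 0, 0],
  [0, 0, 0, 0, 0, 0, 0, 0, 0, 0, 0, 0, 0, 0, 0, 0, 1, 0, 0, 0, 0, 0, 0, -1],
  [0, 0, 0, 0, 0, 0, 0, 0, 0, 0, 0, 0, 0, 0, 0, 0, 0, 1, 0, 0, 0, 0, 0, -1],
  [0, 0, 0, 0, 0, 0, 0, 0, 0, 0, 0, 0, 0, 0, 0, 0, 0, 0, -1, 0, 0, 0, 0, 0],
  [0, 0, 0, 0, 0, 0, 0, 0, 0, 0, 0, 0, 0, 0, 0, 0, 0, 0, 0, 1, 0, 0, 0, -1],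
  [0, 0, 0, 0, 0, 0, 0, 0, 0, 0, 0, 0, 0, 0, 0, 0, 0, 0, 0, 0, -1, 0, 0, 0],
  [0, 0, 0, 0, 0, 0, 0, 0, 0, 0, 0, 0, 0, 0, 0, 0, 0, 0, 0, 0, 0, -1, 0, 0],
  [0, 0, 0, 0, 0, 0, 0, 0, 0, 0, 0, 0, 0, 0, 0, 0, 0, 0, 0, 0, 0, 0, 1, -1],
  [0, 0, 0, 0, 0, 0, 0, 0, 0, 0, 0, 0, 0, 0, 0, 0, 0, 0, 0, 0, 0, 0, 0, -1]]

noncomputable def Ms2' : List (List ℤ) :=
  [[0, 1, -1, 0, 0, 0, 0, 0, 0, 2, 0, 1, -2, -1, 0, -1, 0, 0, -2, -1, -1, -1, 0, -2],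
  [1, 0, -1, 0, 0, 0, 1, 0, 0, 2, 0, 0, -1, -1, 1, -1, 1, 0, 0, 1, 0, 0, 1, 0],
  [-1, -1, -2, -1, -2, -2, -1, -2, -2, 0, -2, 0, -2, -2, -1, -2, -1, -1, -2, -1, -2, -1, 0, -2],
  [0, 0, -1, 0, 0, -1, 0, 0, -1, 1, -1, 0, -1, -1, 0, 0, 0, 1, -1, 1, 0, -1, 1, 0],
  [0, 0, -2, 0, 0, -1, 0, 0, 0, 1, -1, 1, -2, -2, -1, -1, 0, 0, -1, 0, -2, -1, -1, -2],
  [0, 0, -2, -1, -1, -2, -1, 0, -2, 0, -1, 0, -1, -2, 0, -1, -1, 0, -2, -1, -2, -2, -1, -2],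
  [0, 1, -1, 0, 0, -1, 0, 0, -1, 1, -1, 1, -1, -1, 0, -2, -1, -1, -2, 0, -1, -2, 0, -2],
  [0, 0, -2, 0, 0, 0, 0, 0, -1, 1, -1, 0, -1, 0, 1, -1, 0, 1, -1, 1, -1, 0, 0, 0],
  [0, 0, -2, -1, 0, -2, -1, -1, -2, 0, -1, -1, 0, -1, 0, -1, 1, 0, -1, 1, -1, -1, 0, 0],
  [2, 2, 0, 1, 1, 0, 1, 1, 0, 2, 0, 1, 0, 0, 1, 0, 1, 1, 0, 1, -1, -1, 1, 0],
  [0, 0, -2, -1, -1, -1, -1, -1, -1, 0, -2, 0, -2, -1, 0, -2, 0, -1, -1, -1, -2, -2, -1, -2],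
  [1, 0, 0, 0, 1, 0, 1, 0, -1, 1, 0, -1, 1, 1, 2, 1, 2, 2, 1, 2, 1, 1, 2, 3],
  [-2, -1, -2, -1, -2, -1, -1, -1, 0, 0, -2, 1, -4, -2, -2, -2, -2, -2, -2, -2, -2, -2, -2, -4],
  [-1, -1, -2, -1, -2, -2, -1, 0, -1, 0, -1, 1, -2, -4, -2, -2, -2, -2, -2, -2, -2, -2, -2, -4],
  [0, 1, -1, 0, -1, 0, 0, 1, 0, 1, 0, 2, -2, -2, 0, -2, -2, -2, -2, -2, -2, -2, -2, -4],
  [-1, -1, -2, 0, -1, -1, -2, -1, -1, 0, -2, 1, -2, -2, -2, -4, -2, -2, -2, -2, -2, -2, -2, -4],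
  [0, 1, -1, 0, 0, -1, -1, 0, 1, 1, 0, 2, -2, -2, -2, -2, 0, -2, -2, -2, -2, -2, -2, -4],
  [0, 0, -1, 1, 0, 0, -1, 1, 0, 1, -1, 2, -2, -2, -2, -2, -2, 0, -2, -2, -2, -2, -2, -4],
  [-2, 0, -2, -1, -1, -2, -2, -1, -1, 0, -1, 1, -2, -2, -2, -2, -2, -2, -4, -2, -2, -2, -2, -4],
  [-1, 1, -1, 1, 0, -1, 0, 1, 1, 1, -1, 2, -2, -2, -2, -2, -2, -2, -2, 0, -2, -2, -2, -4],
  [-1, 0, -2, 0, -2, -2, -1, -1, -1, -1, -2, 1, -2, -2, -2, -2, -2, -2, -2, -2, -4, -2, -2, -4],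
  [-1, 0, -1, -1, -1, -2, -2, 0, -1, -1, -2, 1, -2, -2, -2, -2, -2, -2, -2, -2, -2, -4, -2, -4],
  [0, 1, 0, 1, -1, -1, 0, 0, 0, 1, -1, 2, -2, -2, -2, -2, -2, -2, -2, -2, -2, -2, 0, -4],
  [-2, 0, -2, 0, -2, -2, -2, 0, 0, 0, -2, 3, -4, -4, -4, -4, -4, -4, -4, -4, -4, -4, -4, -8]]

theorem isoMs2 : chkIso Ms2 Ms2' = true := by decide +kernel

noncomputable def Mg3 : List (List ℤ) :=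
  [[0, 1, 0, 0, 0, 0, 0, 1, -1, 1, 1, 0, -2, 0, -2, -1, -1, -1, 0, -1, -1, -1, -1, 5],
  [0, -1, -1, -1, -1, -1, -2, 0, -2, 0, -1, 2, 2, 3, 2, 3, 2, 1, 3, 3, 2, 3, 2, -11],
  [-1, -1, -1, 0, -1, -1, -1, -1, -2, -1, -1, 2, 2, 2, 3, 3, 3, 2, 3, 3, 3, 2, 2, -12],
  [0, 0, 1, 0, 0, 0, -1, 0, -1, 0, 1, 0, -1, 0, 0, 0, 0, 0, 0, 1, -1, 0, 0, 0],
  [0, 0, 0, 0, 0, -1, -1, 0, 0, 1, 1, 0, -1, 0, 0, 0, -1, 0, 1, 0, -1, 0, 0, 1],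
  [0, 0, 0, 0, -1, 0, 0, 1, 0, 0, 1, 0, -1, 0, -1, -1, 0, 0, -1, 0, -1, -1, 0, 3],
  [-1, -1, -1, -1, -1, -1, -2, 0, -2, -1, -1, 2, 2, 3, 3, 3, 3, 2, 3, 3, 3, 3, 3, -13],
  [-1, -1, -1, -1, -1, -1, -2, 0, -1, -1, 0, 2, 2, 2, 3, 2, 2, 2, 3, 3, 2, 2, 3, -11],
  [-1, -1, -1, -1, -1, -1, -2, -1, -1, 0, -1, 2, 3, 2, 3, 3, 2, 2, 3, 3, 2, 2, 2, -11],
  [0, 0, 0, 0, 0, 0, -1, 1, -1, 1, 1, 0, -1, 0, -1, 0, 0, -1, 0, 0, -1, 0, 0, 2],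
  [-1, -1, -1, -1, -1, -1, -1, 0, -1, 0, -1, 2, 2, 2, 2, 2, 2, 2, 2, 2, 2, 2, 2, -9],
  [0, 0, 0, 0, -1, -1, -1, 0, -1, 0, 0, 1, 1, 1, 1, 1, 1, 1, 1, 1, 1, 1, 0, -4],
  [0, 0, 0, 0, 0, 0, 0, 0, 0, 0, 0, 0, -1, 0, 0, 0, 0, 0, 0, 0, 0, 0, 0, 0],
  [0, 0, 0, 0, 0, 0, 0, 0, 0, 0, 0, 0, -1, 0, 0, 0, 0, 0, 0, 0, -1, 0, 0, 1],
  [0, 0, 0, 0, 0, 0, 0, 2, 0, 0, 0, 0, -2, 0, -1, -1, 0, -1, -1, -1, -1, 0, 0, 4],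
  [-2, -2, -2, -2, -2, -2, -2, -2, -2, -2, -2, 4, 5, 5, 6, 5, 5, 5, 6, 6, 6, 5, 5, -25],
  [0, 0, 0, 0, 0, 0, 0, 0, 0, 2, 0, 0, -1, 0, -1, 0, -1, -1, 0, -1, -1, -1, -1, 4],
  [0, 0, 0, 0, 0, 0, 0, 0, 0, 0, 2, 0, -2, 0, -1, -1, -1, 0, 0, 0, -1, -1, 0, 3],
  [0, 0, 0, 0, 0, 0, 0, 0, 0, 0, 0, 0, -1, 0, 0, 0, 0, 0, 0, 0, 0, -1, 0, 1],
  [0, 0, 0, 0, 0, 0, -2, 0, 0, 0, 0, 0, -1, 0, 1, 1, 0, 0, 1, 1, 0, 1, 1, -2],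
  [0, 0, 0, 0, 0, 0, 0, 0, 0, 0, 0, 0, -1, -1, 0, 0, 0, 0, 0, 0, 0, 0, 0, 1],
  [0, 0, 0, 0, 0, 0, 0, 0, 0, 0, 0, 0, -1, 0, 0, 0, 0, 0, -1, 0, 0, 0, 0, 1],
  [0, 0, 0, 0, 0, 0, 0, 0, -2, 0, 0, 0, -1, 1, 0, 1, 1, 0, 1, 1, 1, 1, 0, -3],
  [0, 0, 0, 0, 0, 0, 0, 0, 0, 0, 0, 0, -2, 0, 0, 0, 0, 0, 0, 0, 0, 0, 0, 1]]

noncomputable def Mg3' : List (List ℤ) :=
  [[-1, 0, -1, -1, -1, -1, -1, 0, -1, 0, -1, 1, -2, -1, -1, -1, -1, -1, -1, -1, -1, -2, -1, -2],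
  [0, 0, -1, 0, -1, -1, -1, 0, -1, 0, -1, 1, -1, -1, -1, -1, -1, -1, -1, -1, -2, -1, -1, -2],
  [-1, -1, -2, -1, -2, -2, -1, -1, -2, -1, -2, 0, -2, -2, -1, -1, -1, -1, -1, -1, -2, -2, -1, -2],
  [-1, 0, -1, -1, -1, -2, -2, -1, -2, -1, -1, 0, -1, -1, -1, -1, -1, -1, -2, -1, -2, -2, -1, -2],
  [-1, -1, -2, -1, -2, -2, -1, -1, -1, 0, -1, 0, -2, -2, -1, -1, -1, -1, -1, -1, -2, -1, -1, -2],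
  [-1, -1, -2, -2, -2, -2, -1, -1, -2, -1, -1, -1, -1, -1, 0, 0, 0, 0, -1, 0, -1, -1, 0, 0],
  [-1, -1, -1, -2, -1, -1, -2, -1, -2, -1, -1, -1, -1, 0, 0, 0, 0, 0, -1, -1, 0, -1, 0, 0],
  [0, 0, -1, -1, -1, -1, -1, 1, -1, 0, 0, 1, -1, -2, 0, -1, -1, -1, -1, -1, -1, -2, -1, -2],
  [-1, -1, -2, -2, -1, -2, -2, -1, -2, -1, -1, -1, 0, -1, 0, 0, 0, 0, -1, 0, -1, -1, -1, 0],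
  [0, 0, -1, -1, 0, -1, -1, 0, -1, 1, 1, 0, 0, -1, 0, 0, 1, 0, -1, 0, 0, 0, 0, 0],
  [-1, -1, -2, -1, -1, -1, -1, 0, -1, 1, -1, 1, -2, -2, -1, -1, -1, 0, -2, -1, -1, -1, -1, -2],
  [1, 1, 0, 0, 0, -1, -1, 1, -1, 0, 1, 1, 1, -1, 0, 0, 0, 0, -1, -1, -1, -1, -1, -1],
  [-2, -1, -2, -1, -2, -1, -1, -1, 0, 0, -2, 1, -4, -2, -2, -2, -2, -2, -2, -2, -2, -2, -2, -4],
  [-1, -1, -2, -1, -2, -1, 0, -2, -1, -1, -2, -1, -2, 0, 0, 0, 0, 0, 0, 0, -2, 0, 0, 0],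
  [-1, -1, -1, -1, -1, 0, 0, 0, 0, 0, -1, 0, -2, 0, 0, 0, 0, 0, 0, 0, 0, 0, 0, 0],
  [-1, -1, -1, -1, -1, 0, 0, -1, 0, 0, -1, 0, -2, 0, 0, 0, 0, 0, 0, 0, 0, 0, 0, 0],
  [-1, -1, -1, -1, -1, 0, 0, -1, 0, 1, -1, 0, -2, 0, 0, 0, 0, 0, 0, 0, 0, 0, 0, 0],
  [-1, -1, -1, -1, -1, 0, 0, -1, 0, 0, 0, 0, -2, 0, 0, 0, 0, 0, 0, 0, 0, 0, 0, 0],
  [-1, -1, -1, -2, -1, -1, -1, -1, -1, -1, -2, -1, -2, 0, 0, 0, 0, 0, 0, 0, 0, -2, 0, 0],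
  [-1, -1, -1, -1, -1, 0, -1, -1, 0, 0, -1, -1, -2, 0, 0, 0, 0, 0, 0, 0, 0, 0, 0, 0],
  [-1, -2, -2, -2, -2, -1, 0, -1, -1, 0, -1, -1, -2, -2, 0, 0, 0, 0, 0, 0, 0, 0, 0, 0],
  [-2, -1, -2, -2, -1, -1, -1, -2, -1, 0, -1, -1, -2, 0, 0, 0, 0, 0, -2, 0, 0, 0, 0, 0],
  [-1, -1, -1, -1, -1, 0, 0, -1, -1, 0, -1, -1, -2, 0, 0, 0, 0, 0, 0, 0, 0, 0, 0, 0],
  [-2, -2, -2, -2, -2, 0, 0, -2, 0, 0, -2, -1, -4, 0, 0, 0, 0, 0, 0, 0, 0, 0, 0, 0]]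

theorem isoMg3 : chkIso Mg3 Mg3' = true := by decide +kernel

noncomputable def Ms3 : List (List ℤ) :=
  [[-1, 0, 0, 0, 0, 0, 0, 0, 0, 0, 0, 0, 1, 0, 0, 0, 0, 0, 1, 0, 0, 0, 1, -1],
  [0, -1, 0, 0, 0, 0, 0, 0, 0, 0, 0, 0, 1, 1, 0, 0, 0, 0, 0, 1, 0, 0, 1, -2],
  [0, 0, -1, 0, 0, 0, 0, 0, 0, 0, 0, 0, 1, 1, 0, 0, 0, 0, 1, 0, 1, 0, 1, -2],
  [0, 0, 0, -1, 0, 0, 0, 0, 0, 0, 0, 0, 1, 1, 0, 0, 0, 0, 1, 1, 0, 1, 1, -3],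
  [0, 0, 0, 0, 1, 0, 0, 0, 0, 0, 0, 0, 0, 0, 0, 0, -1, -1, 0, 0, 0, 0, 0, 1],
  [0, 0, 0, 0, 0, 1, 0, 0, 0, 0, 0, 0, 0, 0, -1, 0, 0, -1, 0, 0, 0, 0, 0, 1],
  [0, 0, 0, 0, 0, 0, 1, 0, 0, 0, 0, 0, 0, 0, -1, -1, 0, 0, 0, 0, 0, 0, 0, 1],
  [0, 0, 0, 0, 0, 0, 0, -1, 0, 0, 0, 0, 1, 0, 0, 0, 0, 0, 1, 1, 1, 0, 0, -2],
  [0, 0, 0, 0, 0, 0, 0, 0, 1, 0, 0, 0, 0, 0, 0, -1, -1, 0, 0, 0, 0, 0, 0, 1],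
  [0, 0, 0, 0, 0, 0, 0, 0, 0, -1, 0, 0, 0, 0, 0, 0, 0, 0, 0, 1, 1, 1, 1, -2],
  [0, 0, 0, 0, 0, 0, 0, 0, 0, 0, -1, 0, 1, 0, 0, 0, 0, 0, 0, 0, 1, 1, 0, -1],
  [0, 0, 0, 0, 1, 1, 1, 0, 1, 0, 0, -1, 0, -1, -1, -1, -1, -1, -1, -1, -1, -1, 0, 3],
  [0, 0, 0, 0, 0, 0, 0, 0, 0, 0, 0, 0, 1, 0, 0, 0, 0, 0, 0, 0, 0, 0, 0, 0],
  [0, 0, 0, 0, 0, 0, 0, 0, 0, 0, 0, 0, 0, 1, 0, 0, 0, 0, 0, 0, 0, 0, 0, 0],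
  [0, 0, 0, 0, 0, 0, 0, 0, 0, 0, 0, 0, 0, 0, -1, 0, 0, 0, 0, 0, 0, 0, 0, 1],
  [0, 0, 0, 0, 0, 0, 0, 0, 0, 0, 0, 0, 0, 0, 0, -1, 0, 0, 0, 0, 0, 0, 0, 1],
  [0, 0, 0, 0, 0, 0, 0, 0, 0, 0, 0, 0, 0, 0, 0, 0, -1, 0, 0, 0, 0, 0, 0, 1],
  [0, 0, 0, 0, 0, 0, 0, 0, 0, 0, 0, 0, 0, 0, 0, 0, 0, -1, 0, 0, 0, 0, 0, 1],
  [0, 0, 0, 0, 0, 0, 0, 0, 0, 0, 0, 0, 0, 0, 0, 0, 0, 0, 1, 0, 0, 0, 0, 0],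
  [0, 0, 0, 0, 0, 0, 0, 0, 0, 0, 0, 0, 0, 0, 0, 0, 0, 0, 0, 1, 0, 0, 0, 0],
  [0, 0, 0, 0, 0, 0, 0, 0, 0, 0, 0, 0, 0, 0, 0, 0, 0, 0, 0, 0, 1, 0, 0, 0],
  [0, 0, 0, 0, 0, 0, 0, 0, 0, 0, 0, 0, 0, 0, 0, 0, 0, 0, 0, 0, 0, 1, 0, 0],
  [0, 0, 0, 0, 0, 0, 0, 0, 0, 0, 0, 0, 0, 0, 0, 0, 0, 0, 0, 0, 0, 0, 1, 0],
  [0, 0, 0, 0, 0, 0, 0, 0, 0, 0, 0, 0, 0, 0, 0, 0, 0, 0, 0, 0, 0, 0, 0, 1]]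

noncomputable def Ms3' : List (List ℤ) :=
  [[0, 0, 2, 1, 0, 0, 1, 0, 0, -1, 0, -1, 2, 1, 0, 1, 0, 0, 2, 1, 1, 1, 2, 2],
  [0, 0, 1, 2, 1, 0, 0, 0, 0, 0, -1, 0, 1, 1, -1, -1, -1, 0, 0, 1, 0, 0, 1, 0],
  [2, 1, 2, 2, 2, 2, 1, 1, 1, 1, 1, 0, 2, 2, 1, 0, 1, 1, 2, 1, 2, 1, 2, 2],
  [1, 2, 2, 2, 1, 1, 2, 1, 2, 1, 1, 1, 1, 1, 0, 0, 0, -1, 1, 1, 0, 1, 1, 0],
  [0, 1, 2, 1, 2, 1, 1, 1, 1, 0, 1, 0, 2, 2, 1, 1, 0, 0, 1, 2, 2, 1, 1, 2],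
  [0, 0, 2, 1, 1, 2, 1, 0, 2, 0, 1, 0, 1, 2, 0, 1, 1, 0, 2, 1, 2, 2, 1, 2],
  [1, 0, 1, 2, 1, 1, 2, 0, 1, 1, 0, 0, 1, 1, 0, 0, 1, 1, 2, 2, 1, 2, 2, 2],
  [0, 0, 1, 1, 1, 0, 0, 0, 1, 0, 0, 0, 1, 0, -1, -1, 0, -1, 1, 1, 1, 0, 0, 0],
  [0, 0, 1, 2, 1, 2, 1, 1, 2, 1, 0, 1, 0, 1, 0, -1, -1, 0, 1, 1, 1, 1, 0, 0],
  [-1, 0, 1, 1, 0, 0, 1, 0, 1, 0, 0, 0, 0, 0, -1, 0, -1, -1, 0, 1, 1, 1, 1, 0],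
  [0, -1, 1, 1, 1, 1, 0, 0, 0, 0, 0, -1, 2, 1, 0, 0, 0, 1, 1, 1, 2, 2, 1, 2],
  [-1, 0, 0, 1, 0, 0, 0, 0, 1, 0, -1, 1, -1, -1, -2, -2, -2, -2, -1, -1, -1, -1, -1, -3],
  [2, 1, 2, 1, 2, 1, 1, 1, 0, 0, 2, -1, 4, 2, 2, 2, 2, 2, 2, 2, 2, 2, 2, 4],
  [1, 1, 2, 1, 2, 2, 1, 0, 1, 0, 1, -1, 2, 4, 2, 2, 2, 2, 2, 2, 2, 2, 2, 4],
  [0, -1, 1, 0, 1, 0, 0, -1, 0, -1, 0, -2, 2, 2, 0, 2, 2, 2, 2, 2, 2, 2, 2, 4],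
  [1, -1, 0, 0, 1, 1, 0, -1, -1, 0, 0, -2, 2, 2, 2, 0, 2, 2, 2, 2, 2, 2, 2, 4],
  [0, -1, 1, 0, 0, 1, 1, 0, -1, -1, 0, -2, 2, 2, 2, 2, 0, 2, 2, 2, 2, 2, 2, 4],
  [0, 0, 1, -1, 0, 0, 1, -1, 0, -1, 1, -2, 2, 2, 2, 2, 2, 0, 2, 2, 2, 2, 2, 4],
  [2, 0, 2, 1, 1, 2, 2, 1, 1, 0, 1, -1, 2, 2, 2, 2, 2, 2, 4, 2, 2, 2, 2, 4],
  [1, 1, 1, 1, 2, 1, 2, 1, 1, 1, 1, -1, 2, 2, 2, 2, 2, 2, 2, 4, 2, 2, 2, 4],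
  [1, 0, 2, 0, 2, 2, 1, 1, 1, 1, 2, -1, 2, 2, 2, 2, 2, 2, 2, 2, 4, 2, 2, 4],
  [1, 0, 1, 1, 1, 2, 2, 0, 1, 1, 2, -1, 2, 2, 2, 2, 2, 2, 2, 2, 2, 4, 2, 4],
  [2, 1, 2, 1, 1, 1, 2, 0, 0, 1, 1, -1, 2, 2, 2, 2, 2, 2, 2, 2, 2, 2, 4, 4],
  [2, 0, 2, 0, 2, 2, 2, 0, 0, 0, 2, -3, 4, 4, 4, 4, 4, 4, 4, 4, 4, 4, 4, 8]]

theorem isoMs3 : chkIso Ms3 Ms3' = true := by decide +kernel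

noncomputable def Mb : List (List ℤ) :=
  [[0, -1, 0, 0, 0, 0, 0, 1, 1, 1, 1, 0, 0, 0, -1, -1, -1, -1, -1, -1, -2, -1, 0, 4],
  [0, -1, -1, -1, -1, -1, -2, 0, 0, 0, -1, 2, 2, 2, 2, 2, 1, 1, 2, 2, 2, 2, 2, -8],
  [-1, -1, -1, 0, -1, -1, -1, -1, 0, -1, -1, 2, 3, 1, 3, 2, 2, 2, 2, 2, 3, 2, 2, -10],
  [0, 0, -1, 0, 0, 0, -1, 0, 1, 0, 1, 0, 0, 0, 0, 0, -1, 0, 0, 0, 0, 0, 1, 0],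
  [0, 0, 0, 0, 0, -1, -1, 0, 0, 1, 1, 0, 0, 0, 0, 0, -1, 0, 1, 0, 0, 0, 0, 0],
  [0, 0, 0, 0, 1, 0, 0, 1, 0, 0, 1, 0, -1, -1, -1, -1, -1, -1, -1, -1, -1, 0, 0, 4],
  [-1, -1, -1, -1, -1, -1, -2, 0, 0, -1, -1, 2, 3, 2, 3, 2, 2, 2, 2, 3, 2, 3, 3, -11],
  [-1, -1, -1, -1, -1, -1, -2, 0, -1, -1, 0, 2, 2, 2, 2, 2, 2, 2, 3, 3, 2, 3, 3, -11],
  [-1, -1, -1, -1, -1, -1, -2, -1, -1, 0, -1, 2, 3, 2, 3, 3, 2, 2, 3, 3, 3, 3, 2, -12],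
  [0, 0, 0, 0, 0, 0, -1, 1, 1, 1, 1, 0, -1, -1, -1, -1, -2, -1, -1, -1, -2, -1, 0, 6],
  [-1, -1, -1, -1, -1, -1, -1, 0, -1, 0, -1, 2, 3, 2, 2, 2, 2, 1, 2, 2, 2, 2, 2, -9],
  [0, -1, -1, 0, 0, -1, -1, 0, 0, 0, 0, 1, 0, 1, 1, 1, 0, 0, 1, 1, 1, 1, 1, -3],
  [0, 0, 0, 0, 0, 0, 0, 0, 0, 0, 0, 0, 1, 0, 0, 0, 0, 0, 0, 0, 0, 0, 0, -1],
  [0, 0, 0, 0, 0, 0, 0, 0, 0, 0, 0, 0, 1, 0, 0, 0, 0, 0, 0, 0, 1, 0, 0, -1],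
  [0, 0, 0, 0, 0, 0, 0, 2, 0, 0, 0, 0, 0, 0, -1, -1, 0, -1, -1, -1, -1, 0, 0, 3],
  [-2, -2, -2, -2, -2, -2, -2, -2, -2, -2, -2, 4, 7, 5, 6, 5, 5, 5, 6, 6, 6, 5, 5, -26],
  [0, 0, 0, 0, 0, 0, 0, 0, 0, 2, 0, 0, 1, 0, -1, 0, -1, -1, 0, -1, -1, -1, -1, 3],
  [0, 0, 0, 0, 0, 0, 0, 0, 0, 0, 2, 0, 0, 0, -1, -1, -1, 0, 0, 0, -1, -1, 0, 2],
  [0, 0, 0, 0, 0, 0, 0, 0, 0, 0, 0, 0, 1, 0, 0, 0, 0, 0, 0, 0, 0, 1, 0, -1],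
  [0, 0, 0, 0, 0, 0, -2, 0, 0, 0, 0, 0, 1, 0, 1, 1, 0, 0, 1, 1, 0, 1, 1, -3],
  [0, 0, 0, 0, 0, 0, 0, 0, 0, 0, 0, 0, 1, -1, 0, 0, 0, 0, 0, 0, 0, 0, 0, 0],
  [0, 0, 0, 0, 0, 0, 0, 0, 0, 0, 0, 0, 1, 0, 0, 0, 0, 0, -1, 0, 0, 0, 0, 0],
  [0, 0, 0, 0, 0, 0, 0, 0, 2, 0, 0, 0, 1, -1, 0, -1, -1, 0, -1, -1, -1, -1, 0, 3],
  [0, 0, 0, 0, 0, 0, 0, 0, 0, 0, 0, 0, 2, 0, 0, 0, 0, 0, 0, 0, 0, 0, 0, -1]]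

noncomputable def Mb' : List (List ℤ) :=
  [[0, 0, 0, 1, 0, 0, 0, 1, 1, 1, 1, 2, 0, -1, -1, -1, -1, -1, -1, -1, -1, 0, -1, -2],
  [0, 0, 0, 0, 0, 0, -1, 1, 1, 1, 0, 2, -1, -1, -1, -1, -1, -1, -1, -1, 0, -1, -1, -2],
  [0, 0, 0, 1, 0, 0, 0, 1, 1, 1, 1, 2, 0, -2, -1, -1, -1, -1, -1, -1, 0, 0, -1, -2],
  [-1, 0, -1, 0, 0, 0, -1, 0, 1, 1, 1, 1, -1, -1, -1, -1, -1, -1, -2, -1, 0, 0, -1, -2],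
  [0, 0, 0, 0, 0, -1, -1, 1, 0, 1, 1, 1, 0, -2, -1, -1, -1, -1, -1, -1, 0, -1, -1, -2],
  [0, 0, 0, 0, 1, 0, 0, 1, 0, 1, 2, 1, 1, -1, 0, 0, 0, 0, -1, 0, 1, 1, 0, 0],
  [0, 1, 0, 1, 1, 0, 0, 1, 1, 1, 1, 1, 1, 0, 0, 0, 0, 0, -1, 1, 0, 1, 0, 0],
  [-1, -1, -1, 0, -1, -1, -1, 0, 0, 0, 0, 1, -1, -2, -2, -1, -1, -1, -1, -1, -1, 0, -1, -2],
  [-1, -1, -1, -1, 0, 0, -1, 0, 0, 1, 1, 0, 0, -1, 0, 0, 0, 0, -1, 0, 1, 1, -1, 0],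
  [-1, -1, -1, -1, -1, -1, -1, 0, -1, 0, 0, 0, 0, -1, 0, 0, -1, 0, -1, 0, 0, 0, 0, 0],
  [-1, 0, -1, -1, -1, -2, -1, 0, -1, 0, 0, 1, 0, -2, -1, -1, -1, -2, -2, -1, -1, -1, -1, -2],
  [-2, -2, -2, -1, -1, -1, -1, -1, 0, 0, -1, 0, -2, -1, -1, -1, -1, -1, -1, 0, 0, 0, -1, -1],
  [0, 1, 0, 1, 0, -1, -1, 1, 0, 0, 0, 2, 0, -2, -2, -2, -2, -2, -2, -2, -2, -2, -2, -4],
  [1, 1, 2, 1, 2, 1, 0, 2, 1, 1, 2, 1, 2, 0, 0, 0, 0, 0, 0, 0, 2, 0, 0, 0],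
  [1, 1, 1, 1, 1, 0, 0, 2, 0, 0, 1, 1, 2, 0, 0, 0, 0, 0, 0, 0, 0, 0, 0, 0],
  [1, 1, 1, 1, 1, 0, 0, 1, 0, 0, 1, 1, 2, 0, 0, 0, 0, 0, 0, 0, 0, 0, 0, 0],
  [1, 1, 1, 1, 1, 0, 0, 1, 0, 1, 1, 1, 2, 0, 0, 0, 0, 0, 0, 0, 0, 0, 0, 0],
  [1, 1, 1, 1, 1, 0, 0, 1, 0, 0, 2, 1, 2, 0, 0, 0, 0, 0, 0, 0, 0, 0, 0, 0],
  [1, 1, 1, 2, 1, 1, 1, 1, 1, 1, 2, 1, 2, 0, 0, 0, 0, 0, 0, 0, 0, 2, 0, 0],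
  [1, 1, 1, 1, 1, 0, -1, 1, 0, 0, 1, 0, 2, 0, 0, 0, 0, 0, 0, 0, 0, 0, 0, 0],
  [1, 0, 0, 0, 0, -1, 0, 1, -1, 0, 1, 0, 2, -2, 0, 0, 0, 0, 0, 0, 0, 0, 0, 0],
  [0, 1, 0, 0, 1, -1, -1, 0, -1, 0, 1, 0, 2, 0, 0, 0, 0, 0, -2, 0, 0, 0, 0, 0],
  [1, 1, 1, 1, 1, 0, 0, 1, 1, 0, 1, 1, 2, 0, 0, 0, 0, 0, 0, 0, 0, 0, 0, 0],
  [2, 2, 2, 2, 2, 0, 0, 2, 0, 0, 2, 1, 4, 0, 0, 0, 0, 0, 0, 0, 0, 0, 0, 0]]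

theorem isoMb : chkIso Mb Mb' = true := by decide +kernel

noncomputable def Mx : List (List ℤ) :=
  [[0, 0, -1, 0, 0, -1, 0, 0, 0, 1, 0, 0, 0, 1, 0, 1, -1, 0, 1, -1, 0, 0, 0, 0],
  [1, 0, -1, 0, 0, 0, 1, 0, 1, 1, -1, 0, 0, 0, -1, 0, -1, -1, -1, -2, 0, -1, -1, 4],
  [1, 1, 0, 1, 1, 0, 2, 0, 0, 1, 0, -1, -2, -1, -2, -1, -2, -2, -2, -3, -1, -2, -3, 9],
  [1, 0, -1, 0, 0, -1, 1, 0, 0, 0, 0, 0, 0, 1, 0, 0, -1, 0, 0, -1, 1, 0, 0, 0],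
  [0, 0, -1, 0, 0, 0, 1, 0, 0, 0, 0, 0, 0, 0, 0, 0, 0, 0, 0, -1, 0, -1, 0, 1],
  [1, 0, -1, 1, 0, 0, 1, 0, 0, 0, 1, -1, -1, 0, -1, 0, -1, -1, -1, -1, 0, -1, -1, 3],
  [1, 0, -1, 0, 0, -1, 0, -1, 0, 0, -1, 0, 1, 1, 1, 2, 0, 0, 1, 0, 2, 1, 0, -4],
  [1, 0, -1, 0, 0, 0, 1, 0, 0, 1, 0, -1, 0, 1, -1, 0, -1, -1, 0, -1, 0, -1, -1, 2],
  [1, 0, 0, 1, 0, 0, 2, 0, 1, 0, 0, -1, -1, -1, -1, -1, -1, -1, -2, -2, 0, -2, -2, 6],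
  [0, -1, -2, -1, 0, -1, 0, 0, 0, -1, -1, 1, 2, 2, 2, 2, 1, 1, 2, 1, 2, 2, 2, -8],
  [0, 0, -1, 0, -1, 0, 1, 0, 0, 0, -1, 0, 1, 1, 0, 1, 1, 0, 0, 0, 1, 0, 0, -2],
  [1, 0, -1, -1, 0, 0, 1, 0, 0, 0, 0, 0, 0, 1, -1, 0, -1, 0, 0, 0, 1, 0, 0, 0],
  [-1, 0, -1, 0, -1, -1, 0, -1, -1, 0, -1, 1, 2, 2, 2, 2, 2, 2, 2, 1, 2, 1, 1, -8],
  [0, 0, 0, 1, 0, 0, 1, -1, 0, 0, 0, 0, 0, -1, 0, 0, 0, 0, -1, -1, 0, -1, -1, 2],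
  [0, -1, -1, 0, -1, -1, -1, -1, -1, 0, -1, 1, 2, 2, 2, 3, 2, 1, 2, 2, 2, 2, 1, -9],
  [0, 1, 0, 1, 0, 0, 1, 0, 0, 1, -1, -1, 0, -1, -1, 0, 0, -1, -1, -2, 0, -1, -2, 4],
  [-1, 0, 0, 1, 0, 0, 0, 0, 0, 0, -1, 0, 0, -1, 1, 1, 1, 0, 0, -1, 0, 0, 0, 0],
  [-1, 0, -1, 0, 0, -1, 0, 0, -1, 0, 0, 0, 1, 1, 1, 1, 1, 1, 2, 0, 1, 1, 1, -5],
  [1, 1, 1, 2, 1, 0, 1, 0, 0, 1, 1, -2, -3, -2, -2, -1, -2, -2, -2, -3, -2, -2, -3, 10],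
  [0, 0, 0, 0, 0, -1, 0, -1, 0, 0, -1, 0, 1, 0, 2, 1, 1, 1, 1, 0, 1, 1, 0, -4],
  [0, 0, 0, 1, 1, 0, 1, 0, 0, 0, 0, -1, -1, -1, 0, 0, 0, -1, -1, -1, -1, -1, -1, 3],
  [-1, -1, -1, 0, -1, -1, 0, -1, -1, -1, -1, 1, 3, 2, 3, 3, 3, 2, 2, 2, 3, 2, 2, -12],
  [0, 0, 0, 0, 1, -1, 0, 0, 0, 0, -1, 0, 0, 0, 1, 1, 0, 0, 0, -1, 0, 1, 0, -1],
  [-1, 0, 0, 1, 0, -1, 0, -1, -1, 0, -1, 0, 1, 0, 2, 2, 2, 1, 1, 0, 1, 1, 0, -5]]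

noncomputable def Mx' : List (List ℤ) :=
  [[-1, -1, -1, -1, -2, -1, 0, -1, -1, -1, -1, -1, -1, 0, 0, 1, -1, 0, 0, -1, -1, 0, 0, 0],
  [0, -1, -1, -1, -1, 0, 0, -1, 0, 0, -1, 0, -1, 0, 0, 0, 0, 0, 0, -1, 0, 0, 0, 0],
  [-1, 0, -1, -1, -1, -1, 0, -1, -1, -1, -1, 0, -1, 0, 0, 0, -1, -1, -1, -1, -1, -1, -1, -1],
  [1, 0, 0, 0, -1, 0, 1, 0, -1, 0, 0, 0, 0, 0, 1, 0, -1, 0, 0, -1, 0, 0, 1, 0],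
  [0, -1, -2, -2, -2, -1, 0, -1, -2, -1, -1, -1, -1, -1, 1, 0, 0, 0, 0, -1, -1, -1, 0, 0],
  [-1, -1, -2, -1, -2, -1, 0, -1, -1, -1, 0, -1, -1, -1, 0, 0, -1, -1, -1, -1, -1, 0, -1, -1],
  [0, 0, 0, -1, -1, -1, 0, -1, 0, -1, 0, -1, 0, 0, 0, 1, 0, -1, 0, -1, 0, 0, 0, 0],
  [0, -1, -1, -1, -1, 0, 0, -1, -1, -1, -1, -2, 0, 1, 1, 0, 0, 0, 1, 0, 0, 0, 0, 1],
  [0, -1, 0, -1, -1, 0, 1, 0, 0, -1, 0, -1, 0, 0, 1, 1, 0, 0, 1, 0, 1, 0, 0, 1],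
  [0, -1, -1, -1, -1, 0, 1, 0, 0, -1, 0, -1, 0, 0, 1, 1, 0, 0, 1, 0, 0, 1, 0, 1],
  [-1, 0, -1, -1, -2, -1, 1, -1, 0, -1, -1, -1, -1, 0, 0, 1, 0, -1, 0, 0, -1, 0, 0, 0],
  [0, -1, 0, -1, 0, 1, 1, 0, 0, 0, 0, -1, 0, 1, 1, 1, 0, 1, 1, 1, 2, 1, 1, 2],
  [0, 1, -1, 0, -1, -1, 0, -1, -1, 0, -1, 0, -1, 0, 0, 0, 0, 0, -1, -1, -2, -1, 0, -1],
  [-1, -1, -2, -1, -2, -2, -1, -2, -2, -1, -1, 0, -1, -2, -1, -1, -1, -1, -2, -2, -2, -1, -1, -2],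
  [-1, -1, -2, -1, -2, -2, -1, -2, -1, -1, -1, -1, -1, -1, -1, 0, 0, -1, -1, -1, -2, 0, -1, -1],
  [-1, 0, -1, -1, -1, -2, -1, -1, -1, -1, -1, -1, 0, -1, -1, 0, 0, -1, -1, -1, -1, -1, -1, -1],
  [-1, -1, -1, -1, -2, -1, 0, -1, -1, -1, -1, -1, -1, -1, 0, 1, 0, 0, 0, -1, -1, 0, 0, 0],
  [-1, -1, -2, -1, -2, -2, -1, -1, -2, -1, -1, -1, -1, -2, -1, -1, -1, -1, -1, -2, -2, -1, -1, -2],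
  [0, 0, 0, 0, -1, -1, 0, -1, -1, -1, 0, -1, 0, 0, 0, 1, 0, 0, 0, -1, -1, 0, 0, 0],
  [1, 0, -1, -1, -1, -1, 0, -1, -1, 0, 0, -1, 0, -1, 1, 0, 1, 0, 0, -1, -1, 0, 0, 0],
  [-1, 0, -2, -1, -1, -2, 0, -1, -1, -1, -1, -1, -1, -1, 0, 0, 0, -1, -1, 0, -2, -1, -1, -1],
  [0, 1, 0, 0, -1, -1, 1, 0, 0, 0, 1, 0, 0, -1, 0, 1, 0, -1, -1, -1, -1, 0, 0, -1],
  [-1, 0, -1, -1, -1, -2, -1, -1, -1, -1, -1, 0, -1, -1, -1, 0, -1, -1, -2, -2, -2, -1, -1, -2],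
  [-1, 0, -2, -1, -2, -3, -1, -2, -2, -1, -1, -1, -1, -2, -1, 0, 0, -1, -2, -2, -3, -1, -1, -2]]

theorem isoMx : chkIso Mx Mx' = true := by decide +kernel

noncomputable def Vx : List (List ℤ) :=
  [[1, 0, 0, 0, 0, 0, 0, 0, 0, 0, 0, 0, 0, 0, 0, 0, 0, 0, 0, 0, 0, 0, 0, 0],
  [0, 0, -1, 0, 0, -1, 0, 0, 0, 1, 0, 0, 0, 1, 0, 1, -1, 0, 1, -1, 0, 0, 0, 0],
  [0, 0, 0, 0, 0, 0, 0, 0, 0, 0, 0, 0, 1, 0, -1, 0, 0, 0, 0, 0, 0, 0, 0, 0],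
  [-1, 1, 0, 0, 0, 0, 1, 0, 0, 0, 0, 0, 0, 0, 0, -1, 0, 1, 0, -1, 0, -1, 0, 1],
  [1, 0, -1, 0, 1, 0, 0, 0, 0, 0, 0, 0, -1, 0, -1, 0, -1, -1, 0, -1, 0, 0, 0, 2],
  [0, 0, 1, 0, 1, 1, 0, 1, 1, 0, 2, -1, -2, -2, -2, -2, -2, -1, -2, -1, -3, -2, 0, 8],
  [0, 1, 1, -1, 0, 0, 1, 1, 0, 0, 0, -1, -1, 0, -1, -2, 0, 0, -1, -1, -1, 0, -1, 3],
  [-1, -1, 0, 0, 0, 1, -1, -1, 0, 0, 0, 1, 1, 0, 1, 1, 1, 0, 1, 1, 0, 0, 1, -3],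
  [1, 1, 1, 1, 0, 1, 1, 1, 0, -1, 1, -1, -3, -2, -2, -2, -1, -1, -3, -1, -1, -1, -2, 8],
  [0, 0, 0, 0, 0, 0, 0, 0, 0, 1, 0, -1, 0, 0, 0, 0, 0, -1, 0, 0, 0, 0, 0, 0],
  [0, -1, 0, 0, 0, 0, -1, 0, 1, -1, -1, 1, 1, 0, 2, 1, 1, 0, 0, 1, 0, 1, 1, -3],
  [0, -1, 0, 0, -2, -1, 0, -1, -1, 0, -1, 1, 2, 2, 2, 2, 2, 2, 1, 2, 3, 1, 0, -8],
  [-1, 0, -1, 0, 0, -1, -1, -1, -1, 0, -1, 1, 2, 1, 2, 2, 1, 1, 3, 2, 2, 2, 1, -8]]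

theorem cos1 : chkCos z1 0 Ds1 Ts1 [737427, 16039788, 4153500, 12623715] = true := by
  decide +kernel

theorem cos1' : chkCos z1 16777215 [] [] [] = true := by decide +kernel

theorem cos2 : chkCos z2 0 Ds2 [(oneC, 16527728)] [16527728] = true := by decide +kernel

theorem cos2' : chkCos z2 16777215 Ds2 [(oneC, 13099110)] [13099110] = true := by decide +kernel

/-- Conjugate to a sign change. -/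
def Good (g : Co0) : Prop := ∃ c hc, IsConj g (sgn c hc)

theorem Good.of_isConj {g h : Co0} (hh : Good h) (e : IsConj g h) : Good g :=
  let ⟨c, hc, e'⟩ := hh; ⟨c, hc, e.trans e'⟩

theorem isConj_negOne_mul {g h : Co0} (e : IsConj g h) : IsConj (negOne * g) (negOne * h) := by
  obtain ⟨k, rfl⟩ := isConj_iff.1 e
  exact isConj_iff.2 ⟨k, conj_negOne_mul k g⟩

theorem Good.neg {g : Co0} (h : Good g) : Good (negOne * g) :=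
  let ⟨c, hc, e⟩ := h; ⟨cᶜ, GC_compl hc, negOne_mul_sgn hc ▸ isConj_negOne_mul e⟩

theorem good_of_chk {z r s : ℕ} {X X' A A' B B' : List (List ℤ)} (hX : chkIso X X' = true)
    (hA : chkIso A A' = true) (hB : chkIso B B' = true)
    (h : and' (okM z) (and' (isCW r) (and' (isCW s) (and' (chkMono z r A) (and' (chkMono oneC s B)
      (chkMul X A B X))))) = true) (hr : setOf' r ∈ GC) : Good (mono (mc z) (setOf' r) hr) := by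
  simp only [and'_eq_true] at h
  obtain ⟨h1, h2, h3, h4, h5, h6⟩ := h
  refine ⟨_, setOf'_mem_codeSets h3, isConj_iff.2 ⟨elt X X' hX, ?_⟩⟩
  rw [mul_inv_eq_iff_eq_mul, sgn_eq_elt h3 hB h5, mono_eq_elt h1 h2 hA h4]
  exact elt_mul_eq _ _ _ _ h6

theorem good_compl {σ : M24} {r r' : ℕ} (h : ∀ hr, Good (mono σ (setOf' r) hr))
    (e : r' ^^^ 16777215 = r) (hr : setOf' r' ∈ GC) : Good (mono σ (setOf' r') hr) := by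
  subst e
  have := (h (setOf'_compl r' ▸ GC_compl hr)).neg
  rw [negOne_mul_mono] at this
  rwa [mono_congr (hb := hr) rfl (by rw [setOf'_compl, compl_compl])] at this

theorem good1 (hr : setOf' 737427 ∈ GC) : Good (mono (mc z1) (setOf' 737427) hr) :=
  good_of_chk isoXA isoMg1 isoMs1 (s := 8426796) (by decide +kernel) hr

theorem good2 (hr : setOf' 4153500 ∈ GC) : Good (mono (mc z1) (setOf' 4153500) hr) :=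
  good_of_chk isoXA isoMg2 isoMs2 (s := 11842851) (by decide +kernel) hr

theorem good3 (hr : setOf' 16527728 ∈ GC) : Good (mono (mc z2) (setOf' 16527728) hr) :=
  good_of_chk isoXB isoMg3 isoMs3 (s := 249487) (by decide +kernel) hr

theorem cwB : isCW 13099110 = true := by decide +kernel

/-- An element with square `-1`. -/
noncomputable def b0 : Co0 := mono (mc z2) (setOf' 13099110) (setOf'_mem_codeSets cwB)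

theorem mono_sq {σ : M24} {c a : Finset GolayPt} {hc : c ∈ GC} {ha : a ∈ GC}
    (h : mono σ c hc * mono σ c hc = sgn a ha) : σ * σ = 1 ∧ σ • c = c ∆ a := by
  rw [mono_mul_mono] at h
  obtain ⟨h1, h2⟩ := mono_inj (hd := ha) h
  exact ⟨h1, by rw [← h2, symmDiff_symmDiff_cancel_left]⟩

theorem b0_sq : b0 * b0 = negOne := by
  rw [b0, mono_mul_mono, ← sgn_univ]
  refine mono_congr (orderOf_two_iff.1 orderOf_z2).2 ?_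
  rw [smul_setOf'_M, code_mc okM_z2, ← setOf'_xor, ← setOf'_full]
  exact congrArg setOf' (by decide +kernel)

/-- Reduction to monomial elements with standard permutation part. -/
theorem exists_std {g : Co0} {a : Finset GolayPt} {ha : a ∈ GC} (hz : sgn a ha ∈ center Co0)
    (h : g * g = sgn a ha) : ∃ σ c hc, IsConj g (mono σ c hc) ∧ (σ = 1 ∨ σ = mc z1 ∨ σ = mc z2) ∧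
      σ • c = c ∆ a := by
  obtain ⟨k, hk⟩ := exists_conj_mem_idx (p := 2) (k := 2) (g := g) Nat.prime_two
    (by rw [show 2 ^ 2 = 2 * 2 by norm_num, pow_mul, pow_two g, h, pow_two, sgn_sq]) monoSub (by
      have := monoSub.card_mul_index
      rw [card_monoSub', card_Co0] at this
      omega)
  obtain ⟨σ, c, hc, e⟩ := mem_monoSub_iff.1 hk
  have key : ∀ {σ c hc}, IsConj g (mono σ c hc) → σ * σ = 1 ∧ σ • c = c ∆ a := by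
    intro σ c hc e
    obtain ⟨k, hk⟩ := isConj_iff.1 e
    refine mono_sq (hc := hc) (ha := ha) ?_
    rw [← hk, conj_mul, h, Subgroup.mem_center_iff.1 hz k, mul_inv_cancel_right]
  have e1 : IsConj g (mono σ c hc) := isConj_iff.2 ⟨k⁻¹, by rw [inv_inv, e]⟩
  by_cases h1 : σ = 1
  · exact ⟨σ, c, hc, e1, Or.inl h1, (key e1).2⟩
  obtain ⟨k', hk'⟩ := invol_conj σ h1 (key e1).1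
  have e2 := e1.trans (isConj_iff.2 ⟨_, perm_conj_mono k' σ hc⟩)
  exact ⟨_, _, _, e2, Or.inr hk', (key e2).2⟩

theorem good_of_sq {g : Co0} (h : g * g = 1) : Good g := by
  obtain ⟨σ, c, hc, e, h1, h2⟩ := exists_std (ha := GC_empty) (sgn_empty ▸ one_mem _)
    (h.trans sgn_empty.symm)
  refine Good.of_isConj ?_ e
  rw [← setOf'_zero] at h2
  rcases h1 with rfl | rfl | rfl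
  · exact ⟨c, hc, IsConj.refl _⟩
  · obtain ⟨r, hr, hr', e'⟩ := cos_red okM_z1 cos1 (by norm_num) hc h2
    refine Good.of_isConj ?_ e'
    simp only [List.mem_cons, List.not_mem_nil, or_false] at hr
    rcases hr with rfl | rfl | rfl | rfl
    · exact good1 _
    · exact good_compl good1 (by decide +kernel) _
    · exact good2 _
    · exact good_compl good2 (by decide +kernel) _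
  · obtain ⟨r, hr, hr', e'⟩ := cos_red okM_z2 cos2 (by norm_num) hc h2
    obtain rfl := List.mem_singleton.1 hr
    exact (good3 _).of_isConj e'

theorem conj_b0_of_sq {g : Co0} (h : g * g = negOne) : IsConj g b0 := by
  obtain ⟨σ, c, hc, e, h1, h2⟩ := exists_std (ha := GC_univ)
    (sgn_univ ▸ mem_center_Co0.2 (Or.inr rfl)) (h.trans sgn_univ.symm)
  refine e.trans ?_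
  rcases h1 with rfl | rfl | rfl
  · rw [one_smul, eq_comm, symmDiff_eq_left] at h2
    exact absurd h2 (by decide)
  · obtain ⟨r, hr, -⟩ := cos_red okM_z1 cos1' (by norm_num) hc (setOf'_full ▸ h2)
    simp at hr
  · obtain ⟨r, hr, hr', e'⟩ := cos_red okM_z2 cos2' (by norm_num) hc (setOf'_full ▸ h2)
    obtain rfl := List.mem_singleton.1 hr
    exact e'

/-- An element of order 13 commutes with `b0`. -/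
theorem exists_13 : ∃ x : Co0, orderOf x = 13 ∧ Commute x b0 := by
  have h1 : Commute (elt Mx Mx' isoMx) b0 := by
    rw [b0, mono_eq_elt okM_z2 cwB isoMb (by decide +kernel)]
    exact elt_mul_eq _ _ _ _ (by decide +kernel)
  have h2 : allLT 13 (fun i => chkMap Mx (getL [] Vx i) (getL [] Vx (Nat.mod (Nat.succ i) 13))) =
      true := by decide +kernel
  rw [allLT_iff] at h2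
  generalize hx : elt Mx Mx' isoMx = x at h1
  have h3 : ∀ i < 13, x • emb (toF (getL [] Vx i)) = emb (toF (getL [] Vx ((i + 1) % 13))) :=
    fun i hi => hx ▸ elt_map isoMx (h2 i hi)
  have h4 : ∀ i, x ^ i • emb (toF (getL [] Vx 0)) = emb (toF (getL [] Vx (i % 13))) := fun i => by
    induction i with
    | zero => simp
    | succ i ih => rw [pow_succ', mul_smul, ih, h3 _ (Nat.mod_lt _ (by norm_num)), Nat.mod_add_mod]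
  have h5 : MulAction.period x (emb (toF (getL [] Vx 0))) = 13 := by
    refine ((Nat.dvd_prime (by norm_num)).1
      (MulAction.pow_smul_eq_iff_period_dvd.1 (h4 13))).resolve_left fun e => ?_
    have h6 := congrFun (emb_injective ((h3 0 (by norm_num)).symm.trans
      (MulAction.period_eq_one_iff.1 e))) 0
    revert h6
    decide +kernel
  obtain ⟨m, hm⟩ : 13 ∣ orderOf x := h5 ▸ MulAction.period_dvd_orderOf _ _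
  have h0 : orderOf x ≠ 0 := (orderOf_pos x).ne'
  refine ⟨x ^ m, ?_, h1.pow_left m⟩
  rw [orderOf_pow_of_dvd (by rintro rfl; simp [hm] at h0) ⟨13, by rw [hm, mul_comm]⟩, hm,
    Nat.mul_div_cancel _ (Nat.pos_of_ne_zero (by rintro rfl; simp [hm] at h0))]

end Cfsg.Agent.XSC.C1
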