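import Mathlib
import Cfsg.Agent.XSC.S6A

/-! Involution centralisers `2^{1+8}.X` with `3 × A₆ ≤ X ≤ S₃ × S₆`: fixed-point-free elements. -/

set_option autoImplicit false

namespace Cfsg.Agent.XSC.S6

open Subgroup Cfsg.Agent.TT Cfsg.Agent.LES Cfsg.Agent.XSC.WC Cfsg.Agent.XSC.O8 Equiv Equiv.Perm

variable {G : Type*} [Group G] {Q P : Subgroup G} {z s : G} {π : G → Perm (Fin 3) × Perm (Fin 6)}
  {V : Type} [AddCommGroup V] [Module (ZMod 2) V] {θ : G → V}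
  {B : V →ₗ[ZMod 2] V →ₗ[ZMod 2] ZMod 2} {q : V → ZMod 2} {A : G → V →ₗ[ZMod 2] V}

/-- the elements of `C_P(z)` centralising the normal subgroup of order three of `C(z) / Q` -/
def R0 (h : St Q z π) (P : Subgroup G) : Subgroup G where
  carrier := {b | b ∈ P ∧ b * z = z * b ∧ (π b).1 = 1}
  one_mem' := ⟨P.one_mem, by simp, by rw [h.mem Q.one_mem]; rfl⟩
  mul_mem' := fun {a b} ha hb => ⟨P.mul_mem ha.1 hb.1, comm_mul_left ha.2.1 hb.2.1, by
    rw [h.mul _ _ ha.2.1 hb.2.1, Prod.fst_mul, ha.2.2, hb.2.2, mul_one]⟩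
  inv_mem' := fun {a} ha => ⟨P.inv_mem ha.1, comm_inv_left ha.2.1, by
    rw [h.inv ha.2.1, Prod.fst_inv, ha.2.2, inv_one]⟩

theorem card_R0 [Finite G] (h : St Q z π) (hp : LXPair Q P z s) (cP : Nat.card P = 2 ^ 9) :
    128 ≤ Nat.card (R0 h P) := by
  have h1 := card_P_eq hp
  have h2 := card_le_two_mul_of_mul_mem (A := P ⊓ centralizer {z}) (B := R0 h P)
    (fun b hb => ⟨hb.1, mem_centralizer_singleton_iff.2 hb.2.1⟩) fun x hx y hy nx ny => by
      have zx := mem_centralizer_singleton_iff.1 hx.2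
      have zy := mem_centralizer_singleton_iff.1 hy.2
      refine ⟨P.mul_mem hx.1 hy.1, comm_mul_left zx zy, ?_⟩
      rw [h.mul _ _ zx zy]
      exact s3_mul _ _ (congrArg Prod.fst (R_sq h hp hx.1 zx)) (congrArg Prod.fst (R_sq h hp hy.1 zy))
        (congrArg Prod.fst (R_comm h hp hx.1 zx hy.1 zy)) (fun e => nx ⟨hx.1, zx, e⟩)
        fun e => ny ⟨hy.1, zy, e⟩
  omega

theorem le_32 {n : ℕ} (h : n ^ 2 ≤ 2 * 2 ^ 9) : n ≤ 32 := by nlinarith

theorem exists_b [Finite G] (h : St Q z π) (hp : LXPair Q P z s) (cP : Nat.card P = 2 ^ 9) :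
    ∃ b ∈ P, b * z = z * b ∧ ∃ y : Perm (Fin 6), (1, y) * π b * (1, y)⁻¹ = (1, b1) := by
  let f : R0 h P →* ℤˣ := MonoidHom.mk' (fun b => sign (π b).2) fun a b => by
    rw [← map_mul, ← Prod.snd_mul, ← h.mul _ _ a.2.2.1 b.2.2.1]; rfl
  have h1 := card_R0 h hp cP
  have h2 := f.ker.card_mul_index
  have h3 : f.ker.index ≤ 2 := by
    rw [index_ker]
    exact (card_le_card_group _).trans (by simp)
  have h4 := le_32 (h.cQ ▸ card_E_sq_le hp)
  obtain ⟨b, hb, n⟩ : ∃ b ∈ f.ker, (b : G) ∉ Q := by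
    by_contra hh
    push Not at hh
    have h5 := card_le_of_le (show f.ker.map (R0 h P).subtype ≤ Q ⊓ P by
      rintro _ ⟨b, hb, rfl⟩; exact ⟨hh b hb, b.2.1⟩)
    rw [card_map_subtype] at h5
    have h6 := Nat.mul_le_mul h5 h3
    omega
  obtain ⟨y, hy, -⟩ := conj_b1 _ (congrArg Prod.snd (R_sq h hp b.2.1 b.2.2.1))
    (fun e => n ((h.ker _ b.2.2.1).1 (Prod.ext b.2.2.2 e))) hb
  exact ⟨b, b.2.1, b.2.2.1, y, Prod.ext (by simpa using b.2.2.2) (mul_inv_eq_of_eq_mul hy)⟩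

theorem St.A_inv5 (h : St Q z π) (L : Ln Q z θ B q A) {b γ : G} {g : Perm (Fin 6)}
    (hz : b * z = z * b) (eb : π b = (1, b1)) (hγ : γ * z = z * γ) (e : π γ = (1, g))
    (hg : b1 * g = g * g * g * g * b1) (v : V) :
    A b (A γ v) = A γ (A γ (A γ (A γ (A b v)))) := by
  have h2 := comm_mul_left hγ hγ
  have h3 := comm_mul_left h2 hγ
  rw [← L.A_mul hγ hγ, ← L.A_mul h2 hγ, ← L.A_mul h3 hγ]
  refine h.A_rel L hz hγ (comm_mul_left h3 hγ) hz ?_ v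
  rw [h.mul _ _ h3 hγ, h.mul _ _ h2 hγ, h.mul _ _ hγ hγ, e, eb]
  exact Prod.ext (by simp) hg

theorem St.moves [Finite G] (h : St Q z π) (L : Ln Q z θ B q A) {γ : G} (hγ : γ * z = z * γ)
    (e : π γ ≠ 1) : ∃ v, A γ v ≠ v := by
  by_contra hh
  push Not at hh
  exact e (h.mem (L.mem_of_A hγ hh))

theorem rho_fpf' [Finite G] (h : St Q z π) (L : Ln Q z θ B q A) (hp : LXPair Q P z s)
    (cP : Nat.card P = 2 ^ 9) {ρ : G} (hρ : ρ * z = z * ρ) (e : π ρ = (r3, 1))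
    (h3 : ρ * ρ * ρ = 1) {b : G} (hb : b ∈ P) (hz : b * z = z * b) (eb : π b = (1, b1)) {w : V}
    (hw : A ρ w = w) : w = 0 := by
  have O := os L h.cQ
  have c := A_cube L hρ h3
  have i := iso L hρ
  by_contra n
  have hc : ∀ γ g, γ * z = z * γ → π γ = (1, g) → g ^ 5 = 1 → ∀ v,
      v + A ρ v + A ρ (A ρ v) = 0 → A γ v = v := fun γ g hγ eγ hg v hv => by
    by_contra n'
    exact n ((O.key5 (iso L hγ) i (h.A_cr L hγ hρ (by rw [eγ]) e) (h.A_five L hγ eγ hg) c hv n').1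
      w hw)
  obtain ⟨g, g1, g2, a1, a2, a3, a4, a5, a6, a7, a8, a9⟩ := five_facts
  obtain ⟨γ, hγ, eγ⟩ := h.big 1 g (map_one _) a5
  obtain ⟨γ1, hγ1, eγ1⟩ := h.big 1 g1 (map_one _) a6
  obtain ⟨γ2, hγ2, eγ2⟩ := h.big 1 g2 (map_one _) a7
  obtain ⟨v, hv⟩ : ∃ v, B (v + A ρ v) (θ s) ≠ 0 := by
    by_contra hh
    push Not at hh
    refine rho_moves h L hp cP hρ e h3 (add_eq_zero_iff'.1 (O.nondeg _ fun v => ?_))
    rw [O.B_comm, ← hh (A ρ (A ρ v)), c, map_add, map_add, LinearMap.add_apply,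
      ← i.b (A ρ (A ρ v)), c]
  have hy : v + A ρ v + A ρ (v + A ρ v) + A ρ (A ρ (v + A ρ v)) = 0 := by
    simp only [map_add, c]
    refine v2 ?_
    match_scalars <;> decide
  have hby : A b (v + A ρ v) = v + A ρ v := by
    rw [h.A_eq L hz (comm_mul_left hγ1 hγ2) (by
      rw [h.mul _ _ hγ1 hγ2, eγ1, eγ2, eb, a8]; simp), L.A_mul hγ1 hγ2, hc _ _ hγ2 eγ2 a4 _ hy,
      hc _ _ hγ1 eγ1 a3 _ hy]
  have hq : ∀ u, B u (θ s) = 0 → q (A b u + u) = 0 := fun u hu => by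
    obtain ⟨x, hx, rfl⟩ := L.surj u
    have := comm_mem_E hp hx ((L.comm_iff hx hp.s_mem).2 hu) hb hz
    rw [← L.comm_val hz hx, ← L.sq_iff this.1]
    exact E_sq hp this
  obtain ⟨u, hu⟩ := h.moves L hγ (by rw [eγ]; exact fun e => a2 (congrArg Prod.snd e))
  refine hv ?_
  rw [O.inv5 (iso L hγ) (h.A_inv5 L hz eb hγ eγ a9) (h.A_five L hγ eγ a1)
    (h.A_sq L hz (R_sq h hp hb hz)) (fun u => ?_) hu (hc _ _ hγ eγ a1 _ hy), map_zero,
    LinearMap.zero_apply]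
  rcases zmod2_cases (B u (θ s)) with e | e
  · exact hq u e
  · have := hq (u + (v + A ρ v)) (by
      rw [map_add, LinearMap.add_apply, e, (zmod2_cases _).resolve_left hv, zmod2_add_self])
    rwa [map_add, hby, add_add_add_comm, mod_two_add_self, add_zero] at this

/-- the setting with a fixed-point-free element of order three -/
structure Fp (Q : Subgroup G) (z : G) (π : G → Perm (Fin 3) × Perm (Fin 6)) (θ : G → V)
    (B : V →ₗ[ZMod 2] V →ₗ[ZMod 2] ZMod 2) (q : V → ZMod 2) (A : G → V →ₗ[ZMod 2] V) (ρ : G) :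
    Prop where
  st : St Q z π
  L : Ln Q z θ B q A
  rz : ρ * z = z * ρ
  er : π ρ = (r3, 1)
  r3 : ρ * ρ * ρ = 1
  fpf : ∀ v, v + A ρ v + A ρ (A ρ v) = 0

variable {ρ : G}

theorem Fp.twist (F : Fp Q z π θ B q A ρ) (y : Perm (Fin 6)) :
    Fp Q z (fun a => (1, y) * π a * (1, y)⁻¹) θ B q A ρ :=
  ⟨F.st.twist y, F.L, F.rz, by simp [F.er], F.r3, F.fpf⟩

theorem exists_fp [Finite G] (h : St Q z π) (hp : LXPair Q P z s) (cP : Nat.card P = 2 ^ 9) :
    ∃ (V : Type) (_ : AddCommGroup V) (_ : Module (ZMod 2) V) (θ : G → V)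
      (B : V →ₗ[ZMod 2] V →ₗ[ZMod 2] ZMod 2) (q : V → ZMod 2) (A : G → V →ₗ[ZMod 2] V) (ρ : G),
      Fp Q z π θ B q A ρ := by
  obtain ⟨V, _, _, θ, B, q, A, L⟩ := exists_ln h.toLX (n := 4) h.cQ
  obtain ⟨ρ, hρ, e, h3⟩ := h.exists_rho
  obtain ⟨b, hb, hz, y, eb⟩ := exists_b h hp cP
  refine ⟨V, _, _, θ, B, q, A, ρ, h, L, hρ, e, h3, fun v =>
    rho_fpf' (h.twist y) L hp cP hρ (by simp [e]) h3 hb hz eb ?_⟩
  rw [map_add, map_add, A_cube L hρ h3, add_rotate, add_rotate]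

namespace Fp

variable (F : Fp Q z π θ B q A ρ)
include F

theorem cube (v : V) : A ρ (A ρ (A ρ v)) = v := A_cube F.L F.rz F.r3 v

theorem fix {v : V} (hv : A ρ v = v) : v = 0 := by
  have := F.fpf v
  rwa [hv, hv, mod_two_add_self, zero_add] at this

theorem sq (v : V) : A ρ (A ρ v) = v + A ρ v := (add_eq_zero_iff'.1 (F.fpf v)).symm

theorem free1 [Finite G] {b : G} (hz : b * z = z * b) (eb : π b = (1, b1)) {v : V} (hv : A b v = v) :
    ∃ w, v = A b w + w := by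
  have h := F.st
  have L := F.L
  have O := os L h.cQ
  obtain ⟨g, -, -, a1, a2, -, -, a5, -, -, -, a9⟩ := five_facts
  obtain ⟨γ, hγ, eγ⟩ := h.big 1 g (map_one _) a5
  obtain ⟨u, hu⟩ := h.moves L hγ (by rw [eγ]; exact fun e => a2 (congrArg Prod.snd e))
  have h5 := h.A_five L hγ eγ a1
  have k := (O.key5 (iso L hγ) (iso L F.rz) (h.A_cr L hγ F.rz (by rw [eγ]) F.er) h5 F.cube
    (F.fpf u) hu).2
  have h2 := h.A_sq L hz (by rw [eb]; exact Prod.ext (by simp) b1_facts.1)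
  refine O.free_of (T := A b ∘ₗ A γ) h2 (fun v => ?_) (fun v h1 h3 => k v ?_) hv
  · rw [LinearMap.comp_apply, LinearMap.comp_apply, h.A_inv5 L hz eb hγ eγ a9, h2, h5]
  · rw [← h2 (A γ v), ← h1]
    exact congrArg (A b) (h1.symm ▸ h3)

/-- involutions of `X` other than the odd elements of `S₆` act freely -/
theorem free [Finite G] {b : G} (hz : b * z = z * b) (h2 : π b * π b = 1) (n : π b ≠ 1)
    (hs : (π b).1 = 1 → sign (π b).2 = 1) {v : V} (hv : A b v = v) : ∃ w, v = A b w + w := by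
  by_cases e : (π b).1 = 1
  · obtain ⟨y, hy, -⟩ := conj_b1 _ (congrArg Prod.snd h2) (fun e' => n (Prod.ext e e')) (hs e)
    exact (F.twist y).free1 hz (Prod.ext (by simpa using e) (mul_inv_eq_of_eq_mul hy)) hv
  · refine ⟨A ρ v, ?_⟩
    rw [F.st.A_ir F.L hz F.rz (congrArg Prod.fst h2) e F.er, hv, F.sq, add_assoc, mod_two_add_self,
      add_zero]

theorem orth [Finite G] {b : G} (hz : b * z = z * b) (h2 : π b * π b = 1) (n : π b ≠ 1)
    (hs : (π b).1 = 1 → sign (π b).2 = 1) {v w : V} (hv : A b v = v) (hw : A b w = w) :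
    B v w = 0 := by
  obtain ⟨u, rfl⟩ := F.free hz h2 n hs hv
  rw [OS.B_N (iso F.L hz) (F.st.A_sq F.L hz h2), hw, mod_two_add_self, map_zero]

theorem q_N [Finite G] {b : G} (hz : b * z = z * b) (h2 : π b * π b = 1) (e : (π b).1 = 1) (v : V) :
    q (A b v + v) = 0 :=
  (os F.L F.st.cQ).q_N (iso F.L hz) (iso F.L F.rz) (F.st.A_cr F.L hz F.rz e F.er)
    (F.st.A_sq F.L hz h2) F.fpf v

end Fp

end Cfsg.Agent.XSC.S6
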