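import Mathlib
import Cfsg.Agent.XSC.S6B

/-! Involution centralisers `2^{1+8}.X` with `3 × A₆ ≤ X ≤ S₃ × S₆`: a conjugate inside `Q`. -/

set_option autoImplicit false

namespace Cfsg.Agent.XSC.S6

open Subgroup Cfsg.Agent.TT Cfsg.Agent.LES Cfsg.Agent.XSC.WC Cfsg.Agent.XSC.O8 Equiv Equiv.Perm

variable {G : Type*} [Group G] {Q P : Subgroup G} {z s ρ b : G}
  {π : G → Perm (Fin 3) × Perm (Fin 6)} {V : Type} [AddCommGroup V] [Module (ZMod 2) V] {θ : G → V}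
  {B : V →ₗ[ZMod 2] V →ₗ[ZMod 2] ZMod 2} {q : V → ZMod 2} {A : G → V →ₗ[ZMod 2] V}

theorem cmt_comm (X : XS Q z) {x k w : G} (hx : x ∈ Q) (hk : k * x * k⁻¹ ∈ Q) (hw : w ∈ Q)
    (e : k * w = w * k) : k * x * k⁻¹ * x⁻¹ * w = w * (k * x * k⁻¹ * x⁻¹) := by
  rw [← cmv_eq_zero, cmv_mul_left X hk (Q.inv_mem hx) hw, cmv_inv_left, ← conj_eq_of_comm e,
    cmv_conj, conj_eq_of_comm e, zmod2_add_self]

/-- the `𝔽₄`-line through `u` -/
def InF (R : V →ₗ[ZMod 2] V) (u v : V) : Prop := v = 0 ∨ v = u ∨ v = R u ∨ v = u + R u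

theorem InF.add {R : V →ₗ[ZMod 2] V} {u v w : V} (h : InF R u v) (h' : InF R u w) :
    InF R u (v + w) := by
  rcases h with e | e | e | e <;> rcases h' with e' | e' | e' | e' <;> rw [e, e'] <;>
    first
    | (refine Or.inl (v2 ?_); match_scalars <;> decide)
    | (refine Or.inr (Or.inl (v2 ?_)); match_scalars <;> decide)
    | (refine Or.inr (Or.inr (Or.inl (v2 ?_))); match_scalars <;> decide)
    | (refine Or.inr (Or.inr (Or.inr (v2 ?_))); match_scalars <;> decide)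

theorem InF.map {R : V →ₗ[ZMod 2] V} {u v : V} (h2 : R (R u) = u + R u) (h : InF R u v) :
    InF R u (R v) := by
  rcases h with rfl | rfl | rfl | rfl
  · exact Or.inl (map_zero _)
  · exact Or.inr (Or.inr (Or.inl rfl))
  · exact Or.inr (Or.inr (Or.inr h2))
  · exact Or.inr (Or.inl (by rw [map_add, h2, add_left_comm, mod_two_add_self, add_zero]))

theorem InF.orth {R : V →ₗ[ZMod 2] V} {u v w : V} (h : InF R u v) (h1 : B w u = 0)
    (h2 : B w (R u) = 0) : B w v = 0 := by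
  rcases h with rfl | rfl | rfl | rfl <;> simp [*]

/-- the configuration of a conjugate of `z` in `Q` -/
structure Cf (Q : Subgroup G) (z : G) (π : G → Perm (Fin 3) × Perm (Fin 6)) (θ : G → V)
    (B : V →ₗ[ZMod 2] V →ₗ[ZMod 2] ZMod 2) (q : V → ZMod 2) (A : G → V →ₗ[ZMod 2] V) (ρ : G)
    (P : Subgroup G) (s b : G) : Prop extends Fp Q z π θ B q A ρ where
  hp : LXPair Q P z s
  cP : Nat.card P = 2 ^ 9
  bP : b ∈ P
  bz : b * z = z * b
  eb : π b = (1, b1)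

namespace Fp

variable (F : Fp Q z π θ B q A ρ)
include F

theorem inv_fix {T : V →ₗ[ZMod 2] V} {u : V} (hc : ∀ v, T (A ρ v) = A ρ (T v)) (h2 : T (T u) = u)
    (h : InF (A ρ) u (T u)) : T u = u := by
  rcases h with e | e | e | e
  · rw [e, map_zero] at h2
    rw [e, h2]
  · exact e
  · rw [e, hc, e] at h2
    have := F.fix (v := u) (by rw [← congrArg (A ρ) h2, F.cube])
    rw [this, map_zero]
  · rw [← F.sq] at e
    rw [e, hc, hc, e, F.cube] at h2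
    rw [F.fix h2, map_zero]

theorem bb (h : q (θ s) = 0) : B (θ s) (A ρ (θ s)) = 0 := by
  have h1 := F.L.q_add (θ s) (A ρ (θ s))
  rw [← F.sq, F.L.A_q F.rz, F.L.A_q F.rz, h, zero_add, zero_add] at h1
  exact h1.symm

theorem K_eqv {k l : G} (hk : k * z = z * k) (hl : l * z = z * l) (ck : k * ρ = ρ * k)
    (cl : l * ρ = ρ * l) (e : π k = π l) : Eqv z k l := by
  have h1 := comm_mul_left (comm_inv_left hl) hk
  have h2 : l⁻¹ * k ∈ Q := (F.st.ker _ h1).1 (by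
    rw [F.st.mul _ _ (comm_inv_left hl) hk, F.st.inv hl, e, inv_mul_cancel])
  rcases (F.L.zero _ h2).1 (F.fix (by
    rw [F.L.act ρ F.rz _ h2, conj_eq_of_comm (comm_mul_left (comm_inv_left cl) ck).symm])) with e | e
  · exact Or.inl (inv_mul_eq_one.1 e).symm
  · exact Or.inr (inv_mul_eq_iff_eq_mul.1 e)

theorem conj3 {r : G} (hr : r * z = z * r) (e : π r = (S6.r3, 1)) (h3 : r * r * r = 1) :
    ∃ x ∈ Q, x * r * x⁻¹ = ρ := by
  have h1 := comm_mul_left hr (comm_inv_left F.rz)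
  have h2 : r * ρ⁻¹ ∈ Q := (F.st.ker _ h1).1 (by
    rw [F.st.mul _ _ hr (comm_inv_left F.rz), F.st.inv F.rz, e, F.er, mul_inv_cancel])
  have h4 := F.st.norm ρ F.rz _ h2
  generalize hx : ρ * (r * ρ⁻¹) * ρ⁻¹ = x at h4
  have h5 := F.st.norm ρ F.rz _ (Q.inv_mem h4)
  refine ⟨x⁻¹, Q.inv_mem h4, ?_⟩
  rcases (F.L.eq_iff (Q.mul_mem h4 h5) h2).1 (by
    rw [F.L.mul _ h4 _ h5, ← F.L.act ρ F.rz _ (Q.inv_mem h4), F.L.inv h4, ← F.sq, ← hx,
      ← F.L.act ρ F.rz _ h2, F.cube]) with e | e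
  · calc x⁻¹ * r * x⁻¹⁻¹ = x⁻¹ * (r * ρ⁻¹) * ρ * x := by group
      _ = ρ := by rw [← e]; group
  · refine absurd ?_ F.st.z_ne
    have e1 : x * ρ * x⁻¹ = r * z := by
      calc x * ρ * x⁻¹ = x * (ρ * x⁻¹ * ρ⁻¹) * ρ := by group
        _ = r * z := by rw [e, mul_assoc, ← F.rz, ← mul_assoc, inv_mul_cancel_right]
    have e2 : x * ρ * x⁻¹ * (x * ρ * x⁻¹) * (x * ρ * x⁻¹) = 1 := by
      rw [conj_mul, conj_mul, F.r3, mul_one, mul_inv_cancel]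
    rw [e1, mul_assoc r z, ← mul_assoc z, ← hr, mul_assoc r z, F.st.z_sq, mul_one, ← mul_assoc, h3,
      one_mul] at e2
    exact e2

theorem lift_c {k : G} (hk : k * z = z * k) (e : (π k).1 = 1) :
    ∃ l, l * z = z * l ∧ π l = π k ∧ l * ρ = ρ * l := by
  obtain ⟨x, hx, ex⟩ := F.conj3 (conj_comm_of hk F.rz) (by
    rw [F.st.conj hk F.rz, F.er]; exact Prod.ext (by simp [e]) (by simp))
    (by rw [conj_mul, conj_mul, F.r3, mul_one, mul_inv_cancel])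
  refine ⟨x * k, comm_mul_left (F.st.z_comm x hx) hk, by
    rw [F.st.mul _ _ (F.st.z_comm x hx) hk, F.st.mem hx, one_mul], comm_of_conj_eq ?_⟩
  rw [← ex]
  nth_rewrite 1 [ex]
  group

theorem lift_i {k : G} (hk : k * z = z * k) (e : (π k).1 * (π k).1 = 1) (n : (π k).1 ≠ 1) :
    ∃ l, l * z = z * l ∧ π l = π k ∧ l * ρ⁻¹ * l⁻¹ = ρ := by
  obtain ⟨x, hx, ex⟩ := F.conj3 (conj_comm_of hk (comm_inv_left F.rz)) (by
    rw [F.st.conj hk (comm_inv_left F.rz), F.st.inv F.rz, F.er]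
    refine Prod.ext ?_ (by simp)
    revert e n
    simp only [Prod.fst_mul, Prod.fst_inv]
    generalize (π k).1 = t
    revert t; decide)
    (by rw [conj_mul, conj_mul, ← mul_inv_rev, ← mul_inv_rev, ← mul_assoc, F.r3]; simp)
  refine ⟨x * k, comm_mul_left (F.st.z_comm x hx) hk, by
    rw [F.st.mul _ _ (F.st.z_comm x hx) hk, F.st.mem hx, one_mul], ?_⟩
  rw [← ex]
  nth_rewrite 1 [ex]
  group

theorem sq_one [Finite G] {k c : G} (hk : k * z = z * k) (hc : c * z = z * c) (ck : k * ρ = ρ * k)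
    (e : π c = π k) (h2 : c * c = 1) (n : π k ≠ 1) (hs : sign (π k).2 = 1) : k * k = 1 := by
  have h := F.st
  have e2 : π k * π k = 1 := by rw [← e, ← h.mul _ _ hc hc, h2, h.mem Q.one_mem]
  have h1 := comm_mul_left hc (comm_inv_left hk)
  have h3 : c * k⁻¹ ∈ Q := (h.ker _ h1).1 (by
    rw [h.mul _ _ hc (comm_inv_left hk), h.inv hk, e, mul_inv_cancel])
  have h4 := F.K_eqv (comm_mul_left hk hk) (by simp) (comm_mul_left ck ck) (l := 1) (by simp) (by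
    rw [h.mul _ _ hk hk, e2, h.mem Q.one_mem])
  have h5 := Eqv.mem h.z_mem Q.one_mem h4
  obtain ⟨w, hw⟩ := F.free hk e2 n (fun _ => hs) (v := θ (c * k⁻¹)) (by
    rw [F.L.act k hk _ h3, show k * (c * k⁻¹) * k⁻¹ = (c * k⁻¹)⁻¹ * (c * c) * (k * k)⁻¹ by group, h2,
      mul_one, F.L.mul _ (Q.inv_mem h3) _ (Q.inv_mem h5), F.L.inv h3, F.L.inv h5,
      (F.L.eq_iff h5 Q.one_mem).2 h4, F.L.one, add_zero])
  obtain ⟨y, hy, rfl⟩ := F.L.surj w
  have h6 := h.norm k hk _ (Q.inv_mem hy)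
  have h7 := ((F.L.eq_iff h3 (Q.mul_mem hy h6)).1 (by
    rw [hw, F.L.mul _ hy _ h6, ← F.L.act k hk _ (Q.inv_mem hy), F.L.inv hy, add_comm])).mul_right hk
  rw [inv_mul_cancel_right, show y * (k * y⁻¹ * k⁻¹) * k = y * k * y⁻¹ by group] at h7
  have h8 : y * k * y⁻¹ * (y * k * y⁻¹) = 1 := by
    rcases h7 with e | e
    · rw [← e, h2]
    · rw [← h2, e, mul_assoc _ z, ← mul_assoc z, ← conj_comm_of (h.z_comm y hy) hk,
        h.toXS.mul_z_z]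
  rwa [conj_mul, mul_inv_eq_one, mul_eq_left] at h8

end Fp

namespace Cf

variable (C : Cf Q z π θ B q A ρ P s b)
include C

theorem s_ne : θ s ≠ 0 := fun e => ((C.L.zero s C.hp.s_mem).1 e).elim C.hp.hP.z_ne C.hp.ne

theorem s1_mem : ρ * s * ρ⁻¹ ∈ Q := C.st.norm ρ C.rz s C.hp.s_mem

theorem s1_val : θ (ρ * s * ρ⁻¹) = A ρ (θ s) := (C.L.act ρ C.rz s C.hp.s_mem).symm

theorem A_s {c : G} (hz : c * z = z * c) (hs : c * s = s * c) : A c (θ s) = θ s := by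
  rw [C.L.act c hz s C.hp.s_mem, conj_eq_of_comm hs]

theorem b_R0 : b ∈ R0 C.st P := ⟨C.bP, C.bz, by rw [C.eb]⟩

theorem N_E {c e : G} (hc : c ∈ P) (hz : c * z = z * c) (he : e ∈ Q ⊓ P) :
    c * e = e * c ∨ A c (θ e) + θ e = θ s := by
  refine (C.hp.hP.comm c hc e he.2).imp_right fun h => ?_
  rw [← C.L.comm_val hz he.1, h, mul_assoc e, C.hp.hP.z_comm c hc, ← mul_assoc,
    mul_inv_cancel_right, C.hp.hP.z_comm e he.2, mul_inv_cancel_right]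

theorem comm_E {c e : G} (hc : c ∈ P) (hz : c * z = z * c) (he : e ∈ Q ⊓ P) (h : A c (θ e) = θ e) :
    c * e = e * c :=
  (C.N_E hc hz he).resolve_right fun e => C.s_ne (by rw [← e, h, mod_two_add_self])

theorem perp_R {v : V} (h1 : B v (θ s) = 0) (h2 : B v (A ρ (θ s)) = 0) :
    B (A ρ v) (θ s) = 0 ∧ B (A ρ v) (A ρ (θ s)) = 0 :=
  ⟨by rw [← C.toFp.cube (θ s), C.L.A_B C.rz, C.toFp.sq, map_add, h1, h2, add_zero],
    (C.L.A_B C.rz _ _).trans h1⟩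

theorem cent_R0 {c y : G} (hc : c ∈ R0 C.st P) (hy : y ∈ Q) (h1 : B (θ y) (θ s) = 0)
    (h2 : B (θ y) (A ρ (θ s)) = 0) :
    c * y * c⁻¹ * y⁻¹ ∈ P ⊓ centralizer (R0 C.st P : Set G) := by
  have k : ∀ y ∈ Q, B (θ y) (θ s) = 0 → c * y * c⁻¹ * y⁻¹ ∈ Q ⊓ P := fun y hy h =>
    comm_mem_E C.hp hy ((C.L.comm_iff hy C.hp.s_mem).2 h) hc.1 hc.2.1
  refine ⟨(k y hy h1).2, fun d hd => (C.N_E hd.1 hd.2.1 (k y hy h1)).resolve_right fun e => ?_⟩
  have m := C.st.norm ρ C.rz y hy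
  have h3 := k _ m (by rw [← C.L.act ρ C.rz y hy]; exact (C.perp_R h1 h2).1)
  have h4 : θ (c * (ρ * y * ρ⁻¹) * c⁻¹ * (ρ * y * ρ⁻¹)⁻¹) = A ρ (θ (c * y * c⁻¹ * y⁻¹)) := by
    rw [C.L.comm_val hc.2.1 m, C.L.comm_val hc.2.1 hy, ← C.L.act ρ C.rz y hy, map_add,
      C.st.A_cr C.L hc.2.1 C.rz hc.2.2 C.er]
  have h5 := congrArg (A ρ) e
  rw [map_add, ← C.st.A_cr C.L hd.2.1 C.rz hd.2.2 C.er, ← h4] at h5
  rcases C.N_E hd.1 hd.2.1 h3 with e' | e'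
  · rw [C.L.act d hd.2.1 _ h3.1, conj_eq_of_comm e', mod_two_add_self] at h5
    exact C.s_ne (C.L.A_inj C.rz h5.symm)
  · exact C.s_ne (C.toFp.fix (h5.symm.trans e'))

theorem exists_y [Finite G] {c : G} (hz : c * z = z * c) (h2 : π c * π c = 1) (n : π c ≠ 1)
    (hs : sign (π c).2 = 1) : ∃ y ∈ Q, B (θ y) (θ s) = 0 ∧ B (θ y) (A ρ (θ s)) = 0 ∧
      A c (θ y) + θ y ≠ 0 := by
  by_contra hh
  push Not at hh
  have X := C.st.toXS
  have c0 := X.card_mul_card_centralizer (zpowers_le.2 X.z_mem) (mem_zpowers z)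
  have c1 := X.card_step (A := zpowers z) C.hp.s_mem
  have c2 := X.card_step (A := zpowers z ⊔ zpowers s) C.s1_mem
  rw [Nat.card_zpowers, X.orderOf_z, C.st.cQ] at c0
  have k : ∀ x ∈ Q ⊓ centralizer ((zpowers z ⊔ zpowers s ⊔ zpowers (ρ * s * ρ⁻¹) : Subgroup G) :
      Set G), A c (θ x) = θ x := fun x hx => by
    obtain ⟨h1, h2⟩ := XS.mem_centralizer_sup_zpowers.1 hx.2
    exact add_eq_zero_iff'.1 (hh x hx.1 ((C.L.comm_iff hx.1 C.hp.s_mem).1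
      (XS.mem_centralizer_sup_zpowers.1 h1).2) (C.s1_val ▸ (C.L.comm_iff hx.1 C.s1_mem).1 h2))
  have := le_32 (C.st.cQ ▸ card_abelian_sq_le X inf_le_left ⟨X.z_mem, cent_step (cent_step
    (cent_zero X X.z_mem) (cmv_eq_zero.2 C.hp.sz)) (cmv_eq_zero.2 (X.z_comm _ C.s1_mem))⟩
    fun x hx y hy => (C.L.comm_iff hx.1 hy.1).2
      (C.toFp.orth hz h2 n (fun _ => hs) (k x hx) (k y hy)))
  omega

theorem b_facts : π b * π b = 1 ∧ π b ≠ 1 ∧ sign (π b).2 = 1 := by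
  rw [C.eb]
  exact ⟨Prod.ext (by simp) b1_facts.1, fun e => b1_facts.2.1 (congrArg Prod.snd e), b1_facts.2.2⟩

theorem n3 [Finite G] : ρ * s * ρ⁻¹ ∈ P ∧ ∀ c ∈ P ⊓ centralizer (R0 C.st P : Set G),
    InF (A ρ) (θ s) (θ c) := by
  obtain ⟨y, hy, h1, h2, h3⟩ := C.exists_y C.bz C.b_facts.1 C.b_facts.2.1 C.b_facts.2.2
  have L := C.L
  have X := C.st.toXS
  have m := C.st.norm ρ C.rz y hy
  have p1 := C.cent_R0 C.b_R0 hy h1 h2
  have p2 := C.cent_R0 C.b_R0 m (L.act ρ C.rz y hy ▸ (C.perp_R h1 h2).1)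
    (L.act ρ C.rz y hy ▸ (C.perp_R h1 h2).2)
  have q1 := Q.mul_mem (C.st.norm b C.bz y hy) (Q.inv_mem hy)
  have q2 := Q.mul_mem (C.st.norm b C.bz _ m) (Q.inv_mem m)
  have h4 : θ (b * (ρ * y * ρ⁻¹) * b⁻¹ * (ρ * y * ρ⁻¹)⁻¹) = A ρ (θ (b * y * b⁻¹ * y⁻¹)) := by
    rw [L.comm_val C.bz m, L.comm_val C.bz hy, ← L.act ρ C.rz y hy, map_add,
      C.st.A_cr L C.bz C.rz C.b_R0.2.2 C.er]
  rw [← L.comm_val C.bz hy] at h3
  generalize b * (ρ * y * ρ⁻¹) * b⁻¹ * (ρ * y * ρ⁻¹)⁻¹ = x2 at p2 q2 h4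
  generalize b * y * b⁻¹ * y⁻¹ = x1 at p1 q1 h3 h4
  have q0 : zpowers z ≤ Q := zpowers_le.2 X.z_mem
  obtain ⟨c1, d1⟩ := L.card_adj q0 (mem_zpowers z) (S := {0}) (fun e he =>
    (L.zero e (q0 he)).2 ((mem_zpowers_invol X.z_sq).1 he)) q1 h3
  obtain ⟨c2, d2⟩ := L.card_adj (sup_le_Q q0 q1) (mem_sup_left (mem_zpowers z))
    (S := {v | v = 0 ∨ v = θ x1}) (fun e he => (d1 e he).imp id add_eq_zero_iff'.1) q2 (by
      rw [h4]
      rintro (e | e)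
      exacts [h3 (L.A_inj C.rz e), h3 (C.toFp.fix e)])
  have c3 := C.hp.hP.toXS.card_mul_card_centralizer (A := R0 C.st P) (fun _ h => h.1)
    ⟨C.hp.hP.z_mem, C.hp.sz, by rw [C.st.mem C.hp.s_mem]; rfl⟩
  have c4 := card_R0 C.st C.hp C.cP
  rw [Nat.card_zpowers, X.orderOf_z] at c1
  have l := eq_of_le_of_card_ge (sup_le (sup_le (zpowers_le.2 (show z ∈ P ⊓ centralizer
    (R0 C.st P : Set G) from ⟨C.hp.z_mem, fun d hd => hd.2.1⟩)) (zpowers_le.2 p1)) (zpowers_le.2 p2))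
    (by rw [c2, c1]; rw [C.cP] at c3; nlinarith)
  have k : ∀ c ∈ P ⊓ centralizer (R0 C.st P : Set G), InF (A ρ) (θ x1) (θ c) := fun c hc => by
    rcases d2 c (l.ge hc) with (e | e) | e | e
    · exact Or.inl e
    · exact Or.inr (Or.inl e)
    · exact Or.inr (Or.inr (Or.inl (h4 ▸ add_eq_zero_iff'.1 e)))
    · exact Or.inr (Or.inr (Or.inr (by rw [← h4, ← e, add_assoc, mod_two_add_self, add_zero])))
  have k2 : ∀ v, InF (A ρ) (θ x1) v → ∀ x ∈ Q, θ x = v → x ∈ P := by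
    rintro v (rfl | rfl | rfl | rfl) x hx e
    · exact Eqv.mem C.hp.z_mem P.one_mem ((L.eq_iff hx Q.one_mem).1 (e.trans L.one.symm))
    · exact Eqv.mem C.hp.z_mem p1.1 ((L.eq_iff hx q1).1 e)
    · exact Eqv.mem C.hp.z_mem p2.1 ((L.eq_iff hx q2).1 (e.trans h4.symm))
    · exact Eqv.mem C.hp.z_mem (P.mul_mem p1.1 p2.1) ((L.eq_iff hx (Q.mul_mem q1 q2)).1
        (by rw [L.mul _ q1 _ q2, h4, e]))
  have ks := k s ⟨C.hp.hP.z_mem, fun d hd => C.hp.hP.z_comm d hd.1⟩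
  refine ⟨k2 _ (ks.map (C.toFp.sq _)) _ C.s1_mem C.s1_val, fun c hc => ?_⟩
  have k3 : InF (A ρ) (θ s) (θ x1) := by
    have i0 : InF (A ρ) (θ s) (θ s) := Or.inr (Or.inl rfl)
    have i1 := i0.map (C.toFp.sq _)
    rcases ks with e | e | e | e
    · exact absurd e C.s_ne
    · exact e ▸ i0
    · have := i1.map (C.toFp.sq _)
      nth_rewrite 2 [e] at this
      rwa [C.toFp.cube] at this
    · nth_rewrite 2 [e] at i1
      rwa [← C.toFp.sq, C.toFp.cube] at i1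
  rcases k c hc with e | e | e | e <;> rw [e]
  exacts [Or.inl rfl, k3, k3.map (C.toFp.sq _), k3.add (k3.map (C.toFp.sq _))]

end Cf

end Cfsg.Agent.XSC.S6
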