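import Mathlib
import Cfsg.Agent.XSC.S6C
import Cfsg.Agent.Inv.ZStarCor

/-! Involution centralisers `2^{1+8}.X` with `3 × A₆ ≤ X ≤ S₃ × S₆` do not occur in simple groups. -/

set_option autoImplicit false

namespace Cfsg.Agent.XSC.S6

open Subgroup Cfsg.Agent.TT Cfsg.Agent.LES Cfsg.Agent.XSC.WC Cfsg.Agent.XSC.O8 Equiv Equiv.Perm

variable {G : Type*} [Group G] {Q P : Subgroup G} {z s ρ b : G}
  {π : G → Perm (Fin 3) × Perm (Fin 6)} {V : Type} [AddCommGroup V] [Module (ZMod 2) V] {θ : G → V}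
  {B : V →ₗ[ZMod 2] V →ₗ[ZMod 2] ZMod 2} {q : V → ZMod 2} {A : G → V →ₗ[ZMod 2] V}
  {ρ' : G} {π' : G → Perm (Fin 3) × Perm (Fin 6)} {V' : Type} [AddCommGroup V'] [Module (ZMod 2) V']
  {θ' : G → V'} {B' : V' →ₗ[ZMod 2] V' →ₗ[ZMod 2] ZMod 2} {q' : V' → ZMod 2}
  {A' : G → V' →ₗ[ZMod 2] V'}

set_option synthInstance.maxSize 1024 in
theorem pigeon : ∀ a1 a2 c1 c2 x y : ZMod 2, ¬ (a1 = 0 ∧ a2 = 0) → ¬ (c1 = 0 ∧ c2 = 0) →
    ¬ (a1 + c1 = 0 ∧ a2 + c2 = 0) → (x = 0 ∧ y = 0) ∨ (x + a1 = 0 ∧ y + a2 = 0) ∨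
      (x + c1 = 0 ∧ y + c2 = 0) ∨ (x + (a1 + c1) = 0 ∧ y + (a2 + c2) = 0) := by decide +kernel

namespace Cf

variable [Finite G] (C : Cf Q z π θ B q A ρ P s b)
include C

theorem bb : B (θ s) (A ρ (θ s)) = 0 := C.toFp.bb ((C.L.sq_iff C.hp.s_mem).1 C.hp.hP.z_sq)

theorem A_s1 {c : G} (hc : c ∈ R0 C.st P) : A c (A ρ (θ s)) = A ρ (θ s) := by
  rw [C.st.A_cr C.L hc.2.1 C.rz hc.2.2 C.er, C.A_s hc.2.1 (C.hp.hP.z_comm c hc.1)]

theorem comm_s1 {c : G} (hc : c ∈ R0 C.st P) : c * (ρ * s * ρ⁻¹) = ρ * s * ρ⁻¹ * c :=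
  C.comm_E hc.1 hc.2.1 ⟨C.s1_mem, C.n3.1⟩ (by rw [C.s1_val, C.A_s1 hc])

theorem s1_ne : ¬ (ρ * s * ρ⁻¹ = 1 ∨ ρ * s * ρ⁻¹ = z ∨ ρ * s * ρ⁻¹ = s ∨ ρ * s * ρ⁻¹ = s * z ∨
    ρ * s * ρ⁻¹ = z * s) := by
  have h := C.s1_val
  rintro (e | e | e | e | e) <;> rw [e] at h
  · exact C.s_ne (C.L.A_inj C.rz (h.symm.trans C.L.one))
  · exact C.s_ne (C.L.A_inj C.rz (h.symm.trans C.L.at_z))
  · exact C.s_ne (C.toFp.fix h.symm)
  · rw [C.L.mul _ C.hp.s_mem _ C.st.z_mem, C.L.at_z, add_zero] at h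
    exact C.s_ne (C.toFp.fix h.symm)
  · rw [C.L.mul _ C.st.z_mem _ C.hp.s_mem, C.L.at_z, zero_add] at h
    exact C.s_ne (C.toFp.fix h.symm)

theorem n4 : ∃ t ∈ P, t * z = z * t ∧ (π t).1 ≠ 1 := by
  by_contra hh
  push Not at hh
  rcases C.hp.hP.toXS.eq_of_comm_centralizer C.hp.z_mem C.n3.1 fun c hc hz =>
    C.comm_s1 ⟨hc, hz, hh c hc hz⟩ with e | e | e | e <;> exact C.s1_ne (by simp [e])

theorem n5a (F' : Fp P s π' θ' B' q' A' ρ') {x : G} (hx : x ∈ Q) (hs : x * s = s * x)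
    (hf : ∀ c ∈ R0 C.st P, A c (θ x) = θ x) : π' x = 1 ∨ (π' x).1 = 1 ∧ sign (π' x).2 ≠ 1 := by
  by_contra hh
  push Not at hh
  have h1 := card_R0 C.st C.hp C.cP
  have h2 := card_le_two_mul_of_mul_mem (A := R0 C.st P) (B := R0 C.st P ⊓ centralizer {x})
    inf_le_left fun c hc d hd nc nd => by
      have k : ∀ c ∈ R0 C.st P, c ∉ R0 C.st P ⊓ centralizer {x} → c * x * c⁻¹ = x * z :=
        fun c hc n => ((C.L.fix_iff hc.2.1 hx).1 (hf c hc)).resolve_left fun e =>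
          n ⟨hc, mem_centralizer_singleton_iff.2 (comm_of_conj_eq e)⟩
      refine ⟨(R0 C.st P).mul_mem hc hd, mem_centralizer_singleton_iff.2 (comm_of_conj_eq ?_)⟩
      rw [show c * d * x * (c * d)⁻¹ = c * (d * x * d⁻¹) * c⁻¹ by group, k d hd nd, ← conj_mul,
        k c hc nc, conj_eq_of_comm hc.2.1, C.st.toXS.mul_z_z]
  have k : ∀ c ∈ R0 C.st P ⊓ centralizer {x}, A' x (θ' c) = θ' c := fun c hc => by
    rw [F'.L.act x hs c hc.1.1, conj_eq_of_comm (mem_centralizer_singleton_iff.1 hc.2).symm]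
  have h3 := le_32 (C.cP ▸ card_abelian_sq_le C.hp.hP.toXS (A := R0 C.st P ⊓ centralizer {x})
    (fun c hc => hc.1.1) ⟨⟨C.hp.hP.z_mem, C.hp.sz, by rw [C.st.mem C.hp.s_mem]; rfl⟩,
      mem_centralizer_singleton_iff.2 hs.symm⟩ fun c hc d hd => (F'.L.comm_iff hc.1.1 hd.1.1).2
      (F'.orth hs (R_sq F'.st C.hp.symm hx hs) hh.1 hh.2 (k c hc) (k d hd)))
  omega

theorem n5 (F' : Fp P s π' θ' B' q' A' ρ') {v : V} (hf : ∀ c ∈ R0 C.st P, A c v = v) :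
    InF (A ρ) (θ s) v := by
  obtain ⟨x, hx, rfl⟩ := C.L.surj v
  have o : ∀ x ∈ Q, (∀ c ∈ R0 C.st P, A c (θ x) = θ x) → x * s = s * x := fun x hx hf =>
    (C.L.comm_iff hx C.hp.s_mem).2 (C.toFp.orth C.bz C.b_facts.1 C.b_facts.2.1
      (fun _ => C.b_facts.2.2) (hf b C.b_R0) (C.A_s C.bz (C.hp.hP.z_comm b C.bP)))
  have k : ∀ x ∈ Q, (∀ c ∈ R0 C.st P, A c (θ x) = θ x) → π' x = 1 → InF (A ρ) (θ s) (θ x) :=
    fun x hx hf e => by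
      have hP := (F'.st.ker x (o x hx hf)).1 e
      exact C.n3.2 x ⟨hP, fun c hc => C.comm_E hc.1 hc.2.1 ⟨hx, hP⟩ (hf c hc)⟩
  have m := C.st.norm ρ C.rz x hx
  have e1 := (C.L.act ρ C.rz x hx).symm
  have hf1 : ∀ c ∈ R0 C.st P, A c (θ (ρ * x * ρ⁻¹)) = θ (ρ * x * ρ⁻¹) := fun c hc => by
    rw [e1, C.st.A_cr C.L hc.2.1 C.rz hc.2.2 C.er, hf c hc]
  have e2 := C.L.mul _ hx _ m
  have hf2 : ∀ c ∈ R0 C.st P, A c (θ (x * (ρ * x * ρ⁻¹))) = θ (x * (ρ * x * ρ⁻¹)) := fun c hc => by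
    rw [e2, map_add, hf c hc, hf1 c hc]
  rcases C.n5a F' hx (o x hx hf) hf with a | a
  · exact k x hx hf a
  rcases C.n5a F' m (o _ m hf1) hf1 with a' | a'
  · have := ((k _ m hf1 a').map (C.toFp.sq _)).map (C.toFp.sq _)
    rwa [e1, C.toFp.cube] at this
  rcases C.n5a F' (Q.mul_mem hx m) (o _ (Q.mul_mem hx m) hf2) hf2 with a'' | a''
  · have := (k _ (Q.mul_mem hx m) hf2 a'').map (C.toFp.sq _)
    rwa [e2, e1, ← C.toFp.sq, C.toFp.cube] at this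
  · refine absurd ?_ a''.2
    rw [F'.st.mul _ _ (o x hx hf) (o _ m hf1), Prod.snd_mul, map_mul, Int.units_ne_iff_eq_neg.1 a.2,
      Int.units_ne_iff_eq_neg.1 a'.2]
    rfl

theorem n6 (F' : Fp P s π' θ' B' q' A' ρ') {k : G} {u : Perm (Fin 6)} (hk : k * z = z * k)
    (e : π k = (1, u)) (h2 : u * u = 1) (hc : ∀ c ∈ R0 C.st P, ∀ d ∈ R0 C.st P,
      u * (π c).2 * u * (π d).2 = (π d).2 * (u * (π c).2 * u)) : A k (θ s) = θ s := by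
  have h := C.st
  have a1 := h.A_cr C.L hk C.rz (by rw [e]) C.er
  have a2 := h.A_sq C.L hk (by rw [e]; exact Prod.ext (by simp) h2)
  refine C.toFp.inv_fix a1 (a2 _) (C.n5 F' fun c hc' => ?_)
  have z1 := comm_mul_left (comm_mul_left hk hc'.2.1) hk
  have e1 : π (k * c * k) = (1, u * (π c).2 * u) := by
    rw [h.mul _ _ (comm_mul_left hk hc'.2.1) hk, h.mul _ _ hk hc'.2.1, e]
    exact Prod.ext (by simpa using hc'.2.2) rfl
  have e2 : ∀ v, A (k * c * k) v = A k (A c (A k v)) := fun v => by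
    rw [C.L.A_mul (comm_mul_left hk hc'.2.1) hk, C.L.A_mul hk hc'.2.1]
  have := C.toFp.inv_fix (T := A (k * c * k)) (u := θ s) (h.A_cr C.L z1 C.rz (by rw [e1]) C.er)
    (by rw [e2, e2, a2, h.A_sq C.L hc'.2.1 (R_sq h C.hp hc'.1 hc'.2.1), a2])
    (C.n5 F' fun d hd => by
      rw [← h.A_rel C.L z1 hd.2.1 hd.2.1 z1 (by
        rw [e1]; exact Prod.ext (by simp) (hc c hc' d hd)), C.A_s hd.2.1 (C.hp.hP.z_comm d hd.1)])
  rw [← a2 (A c _), ← e2, this]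

theorem phi {c : G} (hc : c ∈ R0 C.st P) (n : π c ≠ 1) (hs : sign (π c).2 = 1) {v : V}
    (h1 : B v (θ s) = 0) (h2 : B v (A ρ (θ s)) = 1) : ¬ InF (A ρ) (θ s) (A c v + v) := by
  intro hv
  have L := C.L
  have sq := R_sq C.st C.hp hc.1 hc.2.1
  obtain ⟨y, hy, a1, a2, a3⟩ := C.exists_y hc.2.1 sq n hs
  have k0 : ∀ w, B w (θ s) = 0 → B w (A ρ (θ s)) = 0 → InF (A ρ) (θ s) (A c w + w) :=
    fun w b1 b2 => by
      obtain ⟨x, hx, rfl⟩ := L.surj w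
      exact L.comm_val hc.2.1 hx ▸ C.n3.2 _ (C.cent_R0 hc hx b1 b2)
  have k1 : ∀ w, B w (θ s) = 0 → InF (A ρ) (θ s) (A c w + w) := fun w b1 => by
    rcases zmod2_cases (B w (A ρ (θ s))) with e | e
    · exact k0 w b1 e
    · have := (k0 (w + v) (by rw [map_add, LinearMap.add_apply, b1, h1, add_zero])
        (by rw [map_add, LinearMap.add_apply, e, h2, zmod2_add_self])).add hv
      rwa [map_add, add_add_add_comm (A c w), add_assoc, mod_two_add_self, add_zero] at this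
  refine a3 (L.nondeg fun w => ?_)
  rw [OS.B_N (iso L hc.2.1) (C.st.A_sq L hc.2.1 sq)]
  refine InF.orth ?_ a1 a2
  rcases zmod2_cases (B w (θ s)) with e | e
  · exact k1 w e
  · have := (k1 (w + A ρ v) (by
      rw [map_add, LinearMap.add_apply, e, ← C.toFp.cube (θ s), L.A_B C.rz, C.toFp.sq, map_add, h1,
        h2, zero_add, zmod2_add_self])).add (hv.map (C.toFp.sq _))
    rwa [map_add, map_add, C.st.A_cr L hc.2.1 C.rz hc.2.2 C.er, add_add_add_comm (A c w), add_assoc,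
      mod_two_add_self, add_zero] at this

theorem e32 {c : G} (hc : c ∈ R0 C.st P) (n : π c ≠ 1) (hs : sign (π c).2 = 1)
    (n' : π b * π c ≠ 1) : ∃ e1 ∈ Q ⊓ P, ∃ e2 ∈ Q ⊓ P, ∀ d ∈ R0 C.st P, cmv d e1 = 0 →
      cmv d e2 = 0 → π d = 1 := by
  have L := C.L
  have X := C.st.toXS
  obtain ⟨y, hy, ys, ny⟩ : ∃ y ∈ Q, y * s = s * y ∧ y * (ρ * s * ρ⁻¹) ≠ ρ * s * ρ⁻¹ * y := by
    by_contra hh
    push Not at hh
    rcases X.eq_of_comm_centralizer C.hp.s_mem C.s1_mem hh with e | e | e | e <;>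
      exact C.s1_ne (by simp [e])
  have a1 := (L.comm_iff hy C.hp.s_mem).1 ys
  have a2 := (zmod2_cases _).resolve_left (C.s1_val ▸ mt (L.comm_iff hy C.s1_mem).2 ny)
  have p1 := comm_mem_E C.hp hy ys C.bP C.bz
  have p2 := comm_mem_E C.hp hy ys hc.1 hc.2.1
  have f1 := C.phi C.b_R0 C.b_facts.2.1 C.b_facts.2.2 a1 a2
  have f2 := C.phi hc n hs a1 a2
  have f3 := C.phi ((R0 C.st P).mul_mem C.b_R0 hc) (by rwa [C.st.mul _ _ C.bz hc.2.1])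
    (by rw [C.st.mul _ _ C.bz hc.2.1, Prod.snd_mul, map_mul, hs, C.b_facts.2.2, mul_one]) a1 a2
  have f4 : A (b * c) (θ y) + θ y = A b (A c (θ y) + θ y) + (A c (θ y) + θ y) +
      (A c (θ y) + θ y + (A b (θ y) + θ y)) := by
    rw [L.A_mul C.bz hc.2.1, map_add]
    refine v2 ?_
    match_scalars <;> decide
  rw [f4, ← L.comm_val hc.2.1 hy, ← L.comm_val C.bz hy] at f3
  rw [← L.comm_val C.bz hy] at f1
  rw [← L.comm_val hc.2.1 hy] at f2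
  generalize b * y * b⁻¹ * y⁻¹ = e1 at p1 f1 f3
  generalize c * y * c⁻¹ * y⁻¹ = e2 at p2 f2 f3
  have f5 : ¬ InF (A ρ) (θ s) (θ e2 + θ e1) := fun e => f3 (InF.add (by
    rcases C.N_E C.bP C.bz p2 with e | e
    · rw [L.act b C.bz _ p2.1, conj_eq_of_comm e]; exact Or.inl (mod_two_add_self _)
    · exact Or.inr (Or.inl e)) e)
  have q0 : zpowers z ≤ Q := zpowers_le.2 X.z_mem
  have q1 := sup_le_Q q0 C.hp.s_mem
  have q2 := sup_le_Q q1 C.s1_mem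
  have z0 := mem_zpowers z
  obtain ⟨c1, d1⟩ := L.card_adj q0 z0 (S := {0}) (fun e he =>
    (L.zero e (q0 he)).2 ((mem_zpowers_invol X.z_sq).1 he)) C.hp.s_mem C.s_ne
  obtain ⟨c2, d2⟩ := L.card_adj q1 (mem_sup_left z0)
    (S := {v | v = 0 ∨ v = θ s}) (fun e he => (d1 e he).imp id add_eq_zero_iff'.1) C.s1_mem (by
      rw [C.s1_val]
      rintro (e | e)
      exacts [C.s_ne (L.A_inj C.rz e), C.s_ne (C.toFp.fix e)])
  obtain ⟨c3, d3⟩ := L.card_adj q2 (mem_sup_left (mem_sup_left z0))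
    (S := {v | InF (A ρ) (θ s) v}) (fun e he => by
      rcases d2 e he with (e | e) | e | e
      · exact Or.inl e
      · exact Or.inr (Or.inl e)
      · exact Or.inr (Or.inr (Or.inl (C.s1_val ▸ add_eq_zero_iff'.1 e)))
      · exact Or.inr (Or.inr (Or.inr (by
          rw [← C.s1_val, ← e, add_assoc, mod_two_add_self, add_zero])))) p1.1 f1
  obtain ⟨c4, -⟩ := L.card_adj (sup_le_Q q2 p1.1) (mem_sup_left (mem_sup_left (mem_sup_left z0)))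
    (S := {v | InF (A ρ) (θ s) v ∨ InF (A ρ) (θ s) (v + θ e1)}) d3 p2.1 fun e => e.elim f2 f5
  have l : zpowers z ⊔ zpowers s ⊔ zpowers (ρ * s * ρ⁻¹) ⊔ zpowers e1 ⊔ zpowers e2 ≤ Q ⊓ P :=
    sup_le (sup_le (sup_le (sup_le (zpowers_le.2 ⟨X.z_mem, C.hp.z_mem⟩) (zpowers_le.2
      ⟨C.hp.s_mem, C.hp.hP.z_mem⟩)) (zpowers_le.2 ⟨C.s1_mem, C.n3.1⟩)) (zpowers_le.2 p1))
      (zpowers_le.2 p2)
  have c5 := C.hp.hP.toXS.card_mul_card_centralizer (l.trans inf_le_right)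
    (mem_sup_left (mem_sup_left (mem_sup_left (mem_sup_right (mem_zpowers s)))))
  rw [Nat.card_zpowers, X.orderOf_z] at c1
  have l2 := eq_of_le_of_card_ge (K := P ⊓ centralizer _) (fun x hx =>
    ⟨(l hx).2, fun w hw => E_comm C.hp (l hw) (l hx)⟩) (by
      rw [c4, c3, c2, c1, C.cP] at c5
      rw [c4, c3, c2, c1]; omega)
  refine ⟨e1, p1, e2, p2, fun d hd b1 b2 => C.st.mem (l (l2.ge ⟨hd.1, ?_⟩)).1⟩
  rw [cmv_comm] at b1 b2
  refine cent_step (cent_step (cent_step (cent_step ?_ (cmv_eq_zero.2 (C.hp.hP.z_comm d hd.1).symm))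
    (cmv_eq_zero.2 (C.comm_s1 hd).symm)) b1) b2
  rw [centralizer_zpowers_eq]
  exact mem_centralizer_singleton_iff.2 hd.2.1

theorem four {c : G} (hc : c ∈ R0 C.st P) (n : π c ≠ 1) (hs : sign (π c).2 = 1)
    (n' : π b * π c ≠ 1) : (∃ b', b' * z = z * b' ∧ π b' = π b ∧ b' * b' = 1) ∧
      ∀ d ∈ R0 C.st P, π d = 1 ∨ π d * π b = 1 ∨ π d * π c = 1 ∨ π d * (π b * π c) = 1 := by
  obtain ⟨e1, p1, e2, p2, h⟩ := C.e32 hc n hs n'
  have Y := C.hp.hP.toXS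
  have k : ∀ x ∈ R0 C.st P, ∀ y ∈ R0 C.st P, cmv x e1 + cmv y e1 = 0 ∧ cmv x e2 + cmv y e2 = 0 →
      π x * π y = 1 := fun x hx y hy e => by
    rw [← C.st.mul _ _ hx.2.1 hy.2.1]
    exact h _ ((R0 C.st P).mul_mem hx hy) ((cmv_mul_left Y hx.1 hy.1 p1.2).trans e.1)
      ((cmv_mul_left Y hx.1 hy.1 p2.2).trans e.2)
  have n1 : ¬ (cmv b e1 = 0 ∧ cmv b e2 = 0) := fun e => C.b_facts.2.1 (h b C.b_R0 e.1 e.2)
  refine ⟨?_, fun d hd => ?_⟩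
  · have k2 : ∀ e ∈ Q ⊓ P, cmv b e ≠ 0 → ∃ b', b' * z = z * b' ∧ π b' = π b ∧ b' * b' = 1 := by
      intro e he ne
      rcases zmod2_cases (sqv b) with a | a
      · exact ⟨b, C.bz, rfl, sqv_eq_zero.1 a⟩
      · refine ⟨b * e, comm_mul_left C.bz (C.st.z_comm e he.1), by
          rw [C.st.mul _ _ C.bz (C.st.z_comm e he.1), C.st.mem he.1, mul_one], sqv_eq_zero.1 ?_⟩
        rw [sqv_mul Y C.bP he.2, a, sqv_eq_zero.2 (E_sq C.hp he), (zmod2_cases _).resolve_left ne,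
          add_zero, zmod2_add_self]
    exact (not_and_or.1 n1).elim (k2 e1 p1) (k2 e2 p2)
  · rcases pigeon _ _ _ _ (cmv d e1) (cmv d e2) n1 (fun e => n (h c hc e.1 e.2))
      (fun e => n' (k b C.b_R0 c hc e)) with e | e | e | e
    · exact Or.inl (h d hd e.1 e.2)
    · exact Or.inr (Or.inl (k d hd b C.b_R0 e))
    · exact Or.inr (Or.inr (Or.inl (k d hd c hc e)))
    · rw [← cmv_mul_left Y C.bP hc.1 p1.2, ← cmv_mul_left Y C.bP hc.1 p2.2] at e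
      exact Or.inr (Or.inr (Or.inr (C.st.mul _ _ C.bz hc.2.1 ▸
        k d hd _ ((R0 C.st P).mul_mem C.b_R0 hc) e)))

theorem last (F' : Fp P s π' θ' B' q' A' ρ') {σ t f : G} (hs : σ * s = s * σ) (h2 : σ * σ = 1)
    (n : π' σ ≠ 1) (e1 : (π' σ).1 = 1) (e2 : sign (π' σ).2 = 1) (ht : t * s = s * t)
    (hc : t * σ = σ * t) (hf : f ∈ P) (hf1 : σ * f = f * σ) (hf2 : t * f * t⁻¹ = f * s) : False := by
  have L := F'.L
  have X := F'.st.toXS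
  have sq : π' σ * π' σ = 1 := by rw [← F'.st.mul _ _ hs hs, h2, F'.st.mem P.one_mem]
  have k : ∀ x ∈ P, Eqv s (σ * x * σ⁻¹) x → ∃ y ∈ P, Eqv s x (σ * y * σ⁻¹ * y⁻¹) := fun x hx e => by
    obtain ⟨w, hw⟩ := F'.free hs sq n (fun _ => e2) ((L.fix_iff hs hx).2 e)
    obtain ⟨y, hy, rfl⟩ := L.surj w
    exact ⟨y, hy, (L.eq_iff hx (P.mul_mem (L.norm σ hs y hy) (P.inv_mem hy))).1
      (by rw [L.comm_val hs hy, hw])⟩
  obtain ⟨y, hy, e⟩ := k f hf (Or.inl (conj_eq_of_comm hf1))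
  have a1 : t * (σ * y * σ⁻¹ * y⁻¹) * t⁻¹ = σ * y * σ⁻¹ * y⁻¹ * s := by
    rcases e.symm X.z_sq with e | e <;> rw [e]
    · exact hf2
    · rw [← conj_mul, hf2, conj_eq_of_comm ht]
  have a2 : σ * (y⁻¹ * (t * y * t⁻¹)) * σ⁻¹ = y⁻¹ * (t * y * t⁻¹) * s := by
    calc σ * (y⁻¹ * (t * y * t⁻¹)) * σ⁻¹ = y⁻¹ * (σ * y * σ⁻¹ * y⁻¹)⁻¹ * (σ * t * y * (σ * t)⁻¹) := by
          group
      _ = y⁻¹ * (σ * y * σ⁻¹ * y⁻¹)⁻¹ * (t * (σ * y * σ⁻¹ * y⁻¹) * t⁻¹) * (t * y * t⁻¹) := by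
          rw [← hc]; group
      _ = y⁻¹ * (s * (t * y * t⁻¹)) := by rw [a1]; group
      _ = _ := by rw [← X.z_comm _ (L.norm t ht y hy), mul_assoc y⁻¹]
  have hw := P.mul_mem (P.inv_mem hy) (L.norm t ht y hy)
  obtain ⟨u, hu, e'⟩ := k _ hw (Or.inr a2)
  have a3 := (L.sq_iff (P.mul_mem (L.norm σ hs u hu) (P.inv_mem hu))).2 (by
    rw [L.comm_val hs hu]; exact F'.q_N hs sq e1 _)
  have a4 : σ * (σ * u * σ⁻¹ * u⁻¹) * σ⁻¹ = σ * u * σ⁻¹ * u⁻¹ := by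
    calc σ * (σ * u * σ⁻¹ * u⁻¹) * σ⁻¹ = σ * σ * u * (σ * σ)⁻¹ * u⁻¹ * (σ * u * σ⁻¹ * u⁻¹)⁻¹ := by
          group
      _ = _ := by rw [h2, inv_eq_of_mul_eq_one_right a3]; group
  refine X.z_ne ?_
  rcases e' with e' | e' <;> rw [e'] at a2
  · rwa [a4, eq_comm, mul_eq_left] at a2
  · rwa [← conj_mul, a4, conj_eq_of_comm hs, eq_comm, mul_eq_left] at a2

theorem no_cs (hn : ρ * (ρ * s * ρ⁻¹) * ρ⁻¹ = s * (ρ * s * ρ⁻¹)) {b2 j : Perm (Fin 6)}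
    (hj : Cs b2 j) (hb2 : ∀ c ∈ R0 C.st P, (π c).2 * b2 = b2 * (π c).2) : False := by
  have h := C.st
  have X := h.toXS
  have F := C.toFp
  obtain ⟨p0, hp0, ep⟩ := C.hp.symm.exists_q
  obtain ⟨q0, hq0, eq⟩ := C.hp.exists_q
  have ea : q0 * p0 * z * (q0 * p0)⁻¹ = s := by
    rw [show q0 * p0 * z * (q0 * p0)⁻¹ = q0 * (p0 * z * p0⁻¹) * q0⁻¹ by group, ep, ← conj_mul, eq,
      conj_eq_of_comm (X.z_comm q0 hq0), C.hp.sz, ← mul_assoc, X.z_sq, one_mul]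
  have eP : Q.map (MulAut.conj (q0 * p0)).toMonoidHom = P := by
    ext x
    constructor
    · rintro ⟨y, hy, rfl⟩; exact (C.hp.compat _ ea y).1 hy
    · exact fun hx => ⟨(q0 * p0)⁻¹ * x * (q0 * p0), (C.hp.compat _ ea _).2 (by
        rwa [show q0 * p0 * ((q0 * p0)⁻¹ * x * (q0 * p0)) * (q0 * p0)⁻¹ = x by group]),
        by simp [mul_assoc]⟩
  have h' := h.map_conj (q0 * p0)
  rw [eP, ea] at h'
  obtain ⟨V', _, _, θ', B', q', A', ρ', F'⟩ := exists_fp h' C.hp.symm h.cQ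
  have hb1 : ∀ c ∈ P, c * z = z * c → (π c).2 * b1 = b1 * (π c).2 := fun c hc hz => by
    have := congrArg Prod.snd (R_comm h C.hp hc hz C.bP C.bz)
    rwa [C.eb] at this
  obtain ⟨j0, z0, e0⟩ := h.big 1 j (map_one _) hj.sj
  obtain ⟨k, kz, ek, kr⟩ := F.lift_c z0 (by rw [e0])
  rw [e0] at ek
  have sz := comm_mul_left kz kz
  have sr := comm_mul_left kr kr
  have es : π (k * k) = (1, j * j) := by rw [h.mul _ _ kz kz, ek]; simp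
  have cs : ∀ x, x * ρ = ρ * x → ∀ y, x * (ρ * y * ρ⁻¹) * x⁻¹ = ρ * (x * y * x⁻¹) * ρ⁻¹ :=
    fun x e y => by
      calc x * (ρ * y * ρ⁻¹) * x⁻¹ = x * ρ * y * (x * ρ)⁻¹ := by group
        _ = _ := by rw [e]; group
  have ss : k * k * s = s * (k * k) := by
    rcases (C.L.fix_iff sz C.hp.s_mem).1 (C.n6 F' sz es hj.jj.1 fun c hc d hd =>
      hj.nx _ (hb1 c hc.1 hc.2.1) (hb2 c hc) _ (hb1 d hd.1 hd.2.1) (hb2 d hd)) with e | e
    · exact comm_of_conj_eq e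
    · have e1 := cs _ sr s
      rw [e, ← conj_mul (a := s), conj_eq_of_comm C.rz] at e1
      have e2 := cs _ sr (ρ * s * ρ⁻¹)
      rw [e1, ← conj_mul (a := ρ * s * ρ⁻¹), conj_eq_of_comm C.rz, hn, ← conj_mul, e, e1,
        mul_assoc s z, ← mul_assoc z, ← X.z_comm _ C.s1_mem, X.mul_z_z, eq_comm, mul_eq_left] at e2
      exact absurd e2 X.z_ne
  have s1 : k * k * (ρ * s * ρ⁻¹) = ρ * s * ρ⁻¹ * (k * k) :=
    comm_of_conj_eq (by rw [cs _ sr, conj_eq_of_comm ss])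
  have ec : π (k * k * b * (k * k)⁻¹) = (1, b2) := by
    rw [h.conj sz C.bz, es, C.eb]; exact Prod.ext (by simp) hj.xb
  have hc : k * k * b * (k * k)⁻¹ ∈ R0 C.st P :=
    ⟨C.hp.hP.norm _ ss b C.bP, conj_comm_of sz C.bz, by rw [ec]⟩
  generalize k * k * b * (k * k)⁻¹ = c at ec hc
  obtain ⟨⟨b', bz', eb', bb'⟩, h4⟩ := C.four hc (by
    rw [ec]; exact fun e => hj.f2.2.1 (congrArg Prod.snd e)) (by rw [ec]; exact hj.f2.2.2)
    (by rw [ec, C.eb]; exact fun e => hj.f3.2 (congrArg Prod.snd e))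
  have sg : sign (j * j) = 1 := by rw [map_mul, hj.sj, mul_one]
  have h2 : k * k * (k * k) = 1 := by
    obtain ⟨y, ey, sy⟩ := conj_b1 _ hj.jj.1 hj.jj.2.1 sg
    obtain ⟨l, lz, el⟩ := h.big 1 y (map_one _) sy
    refine F.sq_one sz (conj_comm_of (comm_inv_left lz) bz') sr ?_
      (by rw [conj_mul, bb', mul_one, mul_inv_cancel])
      (by rw [es]; exact fun e => hj.jj.2.1 (congrArg Prod.snd e)) (by rw [es]; exact sg)
    rw [h.conj (comm_inv_left lz) bz', h.inv lz, eb', C.eb, el, es]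
    refine Prod.ext (by simp) ?_
    simp only [Prod.snd_mul, Prod.snd_inv, inv_inv]
    rw [mul_assoc, ← ey, inv_mul_cancel_left]
  obtain ⟨t0, tP, tz, tn⟩ := C.n4
  obtain ⟨u, hu, hu'⟩ := hj.ad _ (hb1 t0 tP tz) (by
    have := congrArg Prod.snd (R_comm h C.hp tP tz hc.1 hc.2.1)
    rwa [ec] at this)
  obtain ⟨d, hd, ed⟩ : ∃ d ∈ R0 C.st P, (π d).2 = u := by
    rcases hu with rfl | rfl | rfl | rfl
    · exact ⟨1, one_mem _, by rw [h.mem Q.one_mem]; rfl⟩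
    · exact ⟨b, C.b_R0, by rw [C.eb]⟩
    · exact ⟨c, hc, by rw [ec]⟩
    · exact ⟨b * c, mul_mem C.b_R0 hc, by rw [h.mul _ _ C.bz hc.2.1, C.eb, ec]; rfl⟩
  have t1 := P.mul_mem tP hd.1
  have t2 := comm_mul_left tz hd.2.1
  obtain ⟨t, hz, et, ti⟩ := F.lift_i t2 (congrArg Prod.fst (R_sq h C.hp t1 t2))
    (by rwa [h.mul _ _ tz hd.2.1, Prod.fst_mul, hd.2.2, mul_one])
  have r1 : ρ⁻¹ = ρ * ρ := inv_eq_of_mul_eq_one_left C.r3
  have ci : ∀ y, t * (ρ * (ρ * y * ρ⁻¹) * ρ⁻¹) * t⁻¹ = ρ * (t * y * t⁻¹) * ρ⁻¹ := fun y => by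
    calc t * (ρ * (ρ * y * ρ⁻¹) * ρ⁻¹) * t⁻¹ = t * (ρ * ρ) * t⁻¹ * (t * y * t⁻¹) *
          (t * (ρ * ρ) * t⁻¹)⁻¹ := by group
      _ = _ := by rw [← r1, ti]
  have r2 : ∀ y, ρ * (ρ * (ρ * y * ρ⁻¹) * ρ⁻¹) * ρ⁻¹ = y := fun y => by
    calc ρ * (ρ * (ρ * y * ρ⁻¹) * ρ⁻¹) * ρ⁻¹ = ρ * ρ * ρ * y * (ρ * ρ * ρ)⁻¹ := by group
      _ = y := by rw [C.r3]; group
  have ci2 : t * (ρ * s * ρ⁻¹) * t⁻¹ = ρ * (ρ * (t * s * t⁻¹) * ρ⁻¹) * ρ⁻¹ := by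
    rw [← ci, ← ci, r2]
  have ts : t * s = s * t := by
    rcases (C.L.fix_iff hz C.hp.s_mem).1 ((h.A_eq C.L hz t2 et _).trans
      (C.A_s t2 (C.hp.hP.z_comm _ t1))) with e | e
    · exact comm_of_conj_eq e
    · have e2 := ci s
      rw [hn, ← conj_mul, ci2, e, ← conj_mul (a := s), conj_eq_of_comm C.rz,
        ← conj_mul (a := ρ * s * ρ⁻¹), conj_eq_of_comm C.rz, hn, mul_assoc s z, ← mul_assoc z,
        ← X.z_comm _ (Q.mul_mem C.hp.s_mem C.s1_mem), X.mul_z_z, ← mul_assoc s, C.hp.hP.z_sq, one_mul,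
        eq_comm, mul_eq_left] at e2
      exact absurd e2 X.z_ne
  rw [conj_eq_of_comm ts, hn, ← C.hp.hP.z_comm _ C.n3.1] at ci2
  have tk : t * (k * k) = k * k * t := by
    have c1 : t * k * t⁻¹ * ρ = ρ * (t * k * t⁻¹) := by
      rw [← ti, conj_mul, conj_mul, (comm_inv_left kr.symm)]
    have c2 : π (t * k * t⁻¹) = (1, (π t0).2 * u * j * ((π t0).2 * u)⁻¹) := by
      rw [h.conj hz kz, et, ek, h.mul _ _ tz hd.2.1, ← ed]
      exact Prod.ext (by simp) rfl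
    have c3 : ∀ l, l * z = z * l → Eqv z (t * k * t⁻¹) l → t * (k * k) * t⁻¹ = l * l := by
      rintro l hl (e | e) <;> rw [← conj_mul, e]
      rw [mul_assoc l z, ← mul_assoc z, ← hl, X.mul_z_z]
    refine comm_of_conj_eq ?_
    rcases hu' with e | e
    · exact c3 k kz (F.K_eqv (conj_comm_of hz kz) kz c1 kr (by rw [c2, ek, e, mul_inv_cancel_right]))
    · rw [c3 k⁻¹ (comm_inv_left kz) (F.K_eqv (conj_comm_of hz kz) (comm_inv_left kz) c1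
        (comm_inv_left kr) (by rw [c2, h.inv kz, ek, e, mul_inv_cancel_right]; simp)), ← mul_inv_rev,
        inv_eq_of_mul_eq_one_right h2]
  generalize k * k = σ at sz sr es ss s1 h2 tk
  have i1 := comm_inv_left sz
  have m1 := h.norm _ i1 _ (Q.inv_mem hq0)
  have m2 : σ⁻¹ * q0⁻¹ * σ⁻¹⁻¹ * q0⁻¹⁻¹ ∈ Q := Q.mul_mem m1 (Q.inv_mem (Q.inv_mem hq0))
  have m3 := comm_mul_left ss (cmt_comm X (Q.inv_mem hq0) m1 C.hp.s_mem (comm_inv_left ss))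
  have m4 := comm_mul_left s1 (cmt_comm X (Q.inv_mem hq0) m1 C.s1_mem (comm_inv_left s1))
  have m5 := comm_mul_left sz (X.z_comm _ m2)
  have m6 : π (σ * (σ⁻¹ * q0⁻¹ * σ⁻¹⁻¹ * q0⁻¹⁻¹)) = (1, j * j) := by
    rw [h.mul _ _ sz (X.z_comm _ m2), h.mem m2, mul_one, es]
  have m7 : (q0 * p0)⁻¹ * σ * (q0 * p0) = p0⁻¹ * (σ * (σ⁻¹ * q0⁻¹ * σ⁻¹⁻¹ * q0⁻¹⁻¹)) * p0 := by group
  have m8 : (q0 * p0)⁻¹ * σ * (q0 * p0) * z = z * ((q0 * p0)⁻¹ * σ * (q0 * p0)) := by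
    calc (q0 * p0)⁻¹ * σ * (q0 * p0) * z = (q0 * p0)⁻¹ * (σ * (q0 * p0 * z * (q0 * p0)⁻¹)) *
          (q0 * p0) := by group
      _ = _ := by rw [ea, ss, ← ea]; group
  generalize σ * (σ⁻¹ * q0⁻¹ * σ⁻¹⁻¹ * q0⁻¹⁻¹) = l at m3 m4 m5 m6 m7
  have n1 := C.hp.hP.norm _ (comm_inv_left m3) _ (P.inv_mem hp0)
  have n2 : l⁻¹ * p0⁻¹ * l⁻¹⁻¹ * p0⁻¹⁻¹ ∈ P := P.mul_mem n1 (P.inv_mem (P.inv_mem hp0))
  have n3 := cmt_comm C.hp.hP.toXS (P.inv_mem hp0) n1 C.n3.1 (comm_inv_left m4)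
  have n4 : (q0 * p0)⁻¹ * σ * (q0 * p0) = l * (l⁻¹ * p0⁻¹ * l⁻¹⁻¹ * p0⁻¹⁻¹) := by rw [m7]; group
  generalize l⁻¹ * p0⁻¹ * l⁻¹⁻¹ * p0⁻¹⁻¹ = p at n2 n3 n4
  have n5 : p * z = z * p := by
    have := comm_mul_left (comm_inv_left m5) m8
    rwa [n4, inv_mul_cancel_left] at this
  have n6 : (π p).1 = 1 := by
    by_contra n
    have := h.A_ir C.L n5 C.rz (congrArg Prod.fst (R_sq h C.hp n2 n5)) n C.er (θ s)
    rw [C.A_s n5 (C.hp.hP.z_comm p n2), ← C.s1_val, C.L.act p n5 _ C.s1_mem, conj_eq_of_comm n3,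
      C.s1_val] at this
    exact C.s_ne (C.L.A_inj C.rz (F.fix this.symm))
  have n7 : π ((q0 * p0)⁻¹ * σ * (q0 * p0)) = (1, j * j * (π p).2) := by
    rw [n4, h.mul _ _ m5 n5, m6]; exact Prod.ext (by simpa using n6) rfl
  have n8 : j * j * (π p).2 ≠ 1 ∧ sign (π p).2 = 1 := by
    have k : ∀ {x y : Perm (Fin 6)}, x * y = 1 → y * y = 1 → x = y := fun e e' =>
      mul_right_cancel (e.trans e'.symm)
    rcases h4 p ⟨n2, n5, n6⟩ with e | e | e | e <;> replace e := congrArg Prod.snd e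
    · rw [e]; exact ⟨by simpa using hj.jj.2.1, map_one _⟩
    · rw [C.eb] at e
      rw [k e b1_facts.1]; exact ⟨hj.jj.2.2.1, b1_facts.2.2⟩
    · rw [ec] at e
      rw [k e hj.f2.1]; exact ⟨hj.jj.2.2.2.1, hj.f2.2.2⟩
    · rw [C.eb, ec] at e
      rw [k e hj.f3.1]; exact ⟨hj.jj.2.2.2.2, by rw [Prod.snd_mul, map_mul, b1_facts.2.2, hj.f2.2.2, mul_one]⟩
  exact C.last F' ss h2 (fun e => n8.1 (congrArg Prod.snd (n7.symm.trans e)))
    (congrArg Prod.fst n7) (by rw [n7, map_mul, sg, n8.2, mul_one]) ts tk C.n3.1 s1 ci2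

theorem no_cf (hn : ρ * (ρ * s * ρ⁻¹) * ρ⁻¹ = s * (ρ * s * ρ⁻¹)) : False := by
  have hb1 : ∀ c ∈ R0 C.st P, (π c).2 * b1 = b1 * (π c).2 := fun c hc => by
    have := congrArg Prod.snd (R_comm C.st C.hp hc.1 hc.2.1 C.bP C.bz)
    rwa [C.eb] at this
  have sq : ∀ c ∈ R0 C.st P, (π c).2 * (π c).2 = 1 := fun c hc =>
    congrArg Prod.snd (R_sq C.st C.hp hc.1 hc.2.1)
  refine C.no_cs hn cs_b fun c hc => (dich _ (sq c hc) (hb1 c hc)).resolve_right fun e => ?_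
  exact C.no_cs hn cs_a fun d hd => e _ (sq d hd) (hb1 d hd)
    (congrArg Prod.snd (R_comm C.st C.hp hd.1 hd.2.1 hc.1 hc.2.1))

end Cf

theorem no_pair [Finite G] (h : St Q z π) {g : G} (hg : g * z * g⁻¹ ∈ Q) (hne : g * z * g⁻¹ ≠ z) :
    False := by
  have pr : ∀ g : G, g * z * g⁻¹ ∈ Q → g * z * g⁻¹ ≠ z → LXPair Q _ z (g * z * g⁻¹) :=
    fun g hg hne => h.toLX.pair hg hne (h.toLX.mem_map_conj_of_card (by rw [h.cQ]; norm_num) hg)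
  have cP := fun g => (card_map_conj Q g).trans h.cQ
  obtain ⟨V, _, _, θ, B, q, A, ρ, F⟩ := exists_fp h (pr g hg hne) (cP g)
  have k : ∀ g : G, g * z * g⁻¹ ∈ Q → g * z * g⁻¹ ≠ z → ρ * (ρ * (g * z * g⁻¹) * ρ⁻¹) * ρ⁻¹ ≠
      g * z * g⁻¹ * (ρ * (g * z * g⁻¹) * ρ⁻¹) := fun g hg hne e => by
    obtain ⟨b, hb, hz, y, eb⟩ := exists_b h (pr g hg hne) (cP g)
    exact Cf.no_cf ⟨F.twist y, pr g hg hne, cP g, hb, hz, eb⟩ e
  have m1 := h.norm ρ F.rz _ hg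
  have e := ((F.L.eq_iff (h.norm ρ F.rz _ m1) (Q.mul_mem hg m1)).1 (by
    rw [F.L.mul _ hg _ m1, ← F.L.act ρ F.rz _ m1, ← F.L.act ρ F.rz _ hg, F.sq])).resolve_left
    (k g hg hne)
  obtain ⟨x, hx, ex⟩ := (pr g hg hne).exists_q
  have e1 : x * g * z * (x * g)⁻¹ = g * z * g⁻¹ * z := by rw [← ex]; group
  refine k (x * g) (e1 ▸ Q.mul_mem hg h.z_mem) (fun e => ?_) ?_
  · rw [e1, mul_eq_right] at e
    exact (pr g hg hne).hP.z_ne e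
  · rw [e1]
    generalize g * z * g⁻¹ = s at e m1
    rw [← conj_mul (a := s), conj_eq_of_comm F.rz, ← conj_mul (a := ρ * s * ρ⁻¹),
      conj_eq_of_comm F.rz, e, h.toXS.mul_z_z, mul_assoc s z, ← mul_assoc z, ← h.z_comm _ m1,
      h.toXS.mul_z_z]

theorem not_simple [Finite G] (h : St Q z π) : ¬ IsSimpleGroup G := by
  intro hs
  obtain ⟨g, h1, h2⟩ : ∃ g : G, Commute z (g * z * g⁻¹) ∧ g * z * g⁻¹ ≠ z := by
    by_contra hh
    push Not at hh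
    obtain ⟨x, hx, y, hy, e⟩ := h.toXS.exists_noncomm_pair
    rw [Inv.ZStar.comm_of_simple_of_isolated ⟨h.toXS.orderOf_z, hh⟩ x y, eq_comm, mul_eq_left] at e
    exact h.z_ne e
  obtain ⟨k, k1, k2⟩ := not_weakly_closed' h.toLX h.cQ h.sm h1 h2
  exact no_pair h k1 k2

theorem st_of [Finite G] {z : G} (Q : Subgroup (centralizer ({z} : Set G)))
    (hL : LX (Q.map (centralizer ({z} : Set G)).subtype) z) (hc : Nat.card Q = 2 ^ 9)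
    (f : centralizer ({z} : Set G) →* Perm (Fin 3) × Perm (Fin 6)) (hk : ∀ a, f a = 1 ↔ a ∈ Q)
    (hb : ∀ x y, sign x = 1 → sign y = 1 → ∃ a, f a = (x, y)) : ¬ IsSimpleGroup G := by
  classical
  have m := fun {a : G} => @mem_centralizer_singleton_iff G _ z a
  refine not_simple (π := fun a => if h : a * z = z * a then f ⟨a, m.2 h⟩ else 1)
    ⟨hL, (card_map_subtype Q).trans hc, fun a b ha hb => ?_, fun a ha => ?_, fun x y hx hy => ?_⟩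
  · rw [dif_pos ha, dif_pos hb, dif_pos (comm_mul_left ha hb), ← map_mul]; rfl
  · rw [dif_pos ha, hk, ← coe_mem_map_subtype]
  · obtain ⟨a, e⟩ := hb x y hx hy
    exact ⟨a, m.1 a.2, by rw [dif_pos (m.1 a.2)]; exact e⟩

end Cfsg.Agent.XSC.S6
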