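import Cfsg.Agent.XSC.CoTab
import Cfsg.Agent.XSC.E8

set_option autoImplicit false
set_option Elab.async false
set_option maxRecDepth 100000

namespace Cfsg.Agent.XSC.CoU

open Cfsg.Agent.Comp.BN Cfsg.Agent.C1M Cfsg.Spor Cfsg.Agent.XSC.CoO Cfsg.Agent.TT Cfsg.Agent.LES Subgroup

theorem c1 : frameC (valP va vb) 14 8 cm8 = true :=
  by decide +kernel

theorem c2 : liftC (valP va vb) Y0.I 14 8 [[[3, 4, 5, 6, 7], [1], [0, 1, 2, 6, 7, 8], [1, 4, 5, 8], [1, 3, 5], [0, 3, 4, 6, 7], [1, 3, 4, 5, 6], [0, 3, 4, 5, 6, 8], [8]], [[1, 6, 7, 8], [1], [1, 2, 3, 4, 5, 8], [0, 4, 5, 6, 7, 8], [0, 3, 5, 6, 7], [0, 1, 5, 6, 7, 8], [0, 3, 4, 5, 7], [0, 1, 6], [8]], [[0, 1, 2, 7, 8], [2, 7, 8], [1, 2, 3, 4, 5, 8], [2, 4, 5, 7, 8], [2, 3, 5, 7], [5], [2, 3, 4, 5, 6, 7], [7], [8]], [[0, 2, 3, 4, 5, 7], [1, 2, 3, 4, 5, 7], [1,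 7, 8], [1, 4, 5, 8], [1, 3, 5], [5], [1, 3, 4, 5, 6], [7], [8]], [[0, 1, 2, 7], [0, 2, 4, 6, 8], [0, 1, 4, 6], [0, 3, 4, 6, 7], [4], [0, 4, 5, 6, 7], [6], [0, 4, 6, 8], [8]], [[4, 6, 7, 8], [2, 7, 8], [1, 7], [0, 1, 2, 3, 4, 6], [4], [0, 1, 2, 4, 5, 6], [6], [0, 1, 2, 4, 6, 7, 8], [8]], [[0, 1, 2, 7], [0, 2], [0, 1, 8], [3], [4], [5], [6], [0], [8]], [[7], [2, 7, 8], [1, 7], [3], [4], [5], [6], [0, 1, 2, 7], [8]], [[4, 6, 7], [0, 1, 2, 4, 5, 7, 8], [2], [0, 3, 4, 6, 7], [4], [2, 6, 8], [0, 2, 4, 5, 6, 7], [0, 4, 6, 8], [8]], [[2, 4, 5, 7], [1, 2, 5, 6], [2], [0, 2, 3, 4, 5, 7], [4], [0, 4, 5, 6, 7, 8], [2, 5, 8], [0, 2, 4, 5, 8], [8]], [[1, 6, 7, 8], [1], [0, 1, 2, 6, 7], [3], [0, 1, 3, 4, 5, 7], [3, 6], [0, 1, 3, 5, 6, 7], [0, 1, 6], [8]], [[1, 3, 5, 7], [1], [0, 1, 2, 3, 5, 7, 8], [3], [3, 4, 5, 6], [0,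 1, 5, 6, 7], [3, 5], [0, 1, 3, 5, 8], [8]], [[0], [2, 6], [1, 6, 8], [3], [1, 2, 3, 4, 5, 8], [3, 6], [1, 2, 3, 5, 6, 8], [7], [8]], [[0], [2, 3, 5, 8], [1, 3, 5], [3], [3, 4, 5, 6], [1, 2, 5, 6, 8], [3, 5], [7], [8]]] = true :=
  by decide +kernel

theorem c3 : twC va vb 14 8 E8.W [] = true :=
  by decide +kernel

theorem c3a : transC va Y0.I [14 + 8] [21] (frL 14 8) [[2, 1], [3, 0], [], [], [], [], [13, 0], [12, 11, 0], [], [], [2, 9, 7], [2, 9, 2, 6], [], [], [11, 8, 7, 4], [11, 9, 6], [], [], [13, 6, 8, 0], [13, 6, 5, 0], [7, 5, 0], [7, 8, 0], [], [], [13, 10, 8, 3, 0], [1, 13, 8, 3, 0], [], [], [1, 12, 10, 9, 3, 0], [1, 12, 10, 4, 9, 0], [], [], [], [], [9, 6, 2, 0], [9, 6, 1], [13, 8, 7, 1], [13, 7, 9, 1], [], [], [2, 4], [5], [], [], [2, 11], [12, 3, 0], [], [], [], [], [10, 9, 0], [10, 8, 5, 0],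 [12, 10, 8, 3, 0], [12, 10, 3, 9, 0], [], [], [12, 7, 5, 0], [11, 7, 5, 0], [], [], [7], [2, 6], [], [], [], [], [11, 7, 4], [11, 8, 6], [1, 12, 10, 7, 5, 0], [1, 12, 10, 7, 8, 0], [], [], [8, 3, 10, 0], [3, 10, 9, 0], [], [], [9, 3, 0], [4, 9, 0], [], [], [1, 12, 2, 10, 0], [1, 12, 10, 3, 0], [], [], [], [], [16, 11], [11], [], [], [12, 6, 9, 3, 10, 0], [12, 6, 1, 10, 9, 3, 0], [], [], [13, 9, 0, 6], [13, 9, 7, 0], [9, 2, 11], [12, 9, 3, 0], [], [], [], [], [0, 12, 2, 10, 9, 3, 0], [0, 12, 2, 10, 4, 9, 0], [], [], [10, 0, 6], [10, 7, 0], [], [], [8, 6, 1], [7, 4, 1], [9, 7], [9, 2, 6], [], [], [], [], [6, 0, 13, 4, 9, 0], [6, 0, 13, 9, 3, 0], [], [], [1], [2, 0], [], [], [10, 5, 0], [10, 8, 0], [], [], [13, 10, 7, 0], [10, 13, 7, 0], [3, 6], [1, 7], [], [], [13, 4, 9, 0], [13, 9, 3, 0], [], [], [12, 8,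 3, 10, 0], [12, 3, 10, 9, 0], [], [], [1, 5], [3, 4], [], [], [], [], [10, 13, 5, 0], [13, 10, 5, 0], [], [], [9, 0, 6], [9, 7, 0], [], [], [6, 1, 10, 9, 3, 0], [6, 9, 3, 10, 0], [0, 13, 3, 9, 0], [0, 13, 8, 3, 0], [], [], [], [], [15, 9], [9], [], [], [13, 7, 4, 1], [13, 8, 6, 1], [], [], [12, 10, 0, 6], [12, 10, 7, 0], [4, 0, 12, 6, 1, 10, 9, 3, 0], [4, 0, 12, 6, 9, 3, 10, 0], [], [], [], [], [12, 9, 7, 0], [11, 9, 7, 0], [], [], [12, 10, 5, 0], [12, 10, 8, 0], [], [], [13, 2, 0], [13, 1], [], [], [17, 0], [0], [13, 2, 1], [13, 3, 0], [], [], [9, 3, 6], [9, 1, 7], [], [], [11, 7, 9], [11, 8, 7], [], [], [13, 7, 5, 0], [13, 7, 8, 0], [], [], [], [], [6, 5, 0], [6, 8, 0], [], [], [10, 13, 9, 0], [13, 10, 9, 0], [], [], [1, 12, 2, 10, 9, 3, 0], [5, 1, 12, 10, 8, 3, 0], [7, 9, 1], [8, 7, 1], [], [], [], [],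 [13, 9, 6, 2, 0], [13, 9, 6, 1], [], [], [17, 4], [4], [], [], [11, 0], [12, 0], [10, 8, 3, 0], [10, 3, 9, 0], [], [], [], [], [12, 10, 8, 5, 0], [12, 10, 9, 0], [], [], [12, 6, 5, 0], [11, 6, 5, 0], [], [], [6], [21, 6], [], [], [], [], [13, 7, 0], [13, 0, 6], [1, 10, 7, 5, 0], [3, 10, 6, 5, 0], [6, 9, 1, 7], [6, 9, 3, 6], [1, 12, 10, 8, 3, 0], [1, 12, 10, 3, 9, 0], [14, 11, 9], [11, 9], [1, 13, 9, 3, 0], [13, 10, 9, 3, 0], [13, 8, 0], [13, 5, 0], [3, 10, 0], [1, 10, 3, 0], [], [], [], [], [], [], [], [], [], [], [], [], [9, 2, 0], [9, 1], [12, 10, 4, 9, 0], [12, 10, 9, 3, 0], [], [], [], [], [], [], [], [], [], [], [], [], [10, 9, 7, 0], [10, 9, 0, 6], [13, 9, 0, 7], [13, 9, 7, 1], [], [], [], [], [], [], [], [], [], [], [], [], [14, 11, 4], [11, 4], [13, 10, 3, 0], [1, 13, 3, 0], [], [], [], [], [], [],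 [], [], [], [], [], [], [], [], [], [], [11, 6], [14, 11, 6], [1, 13, 7, 5, 0], [13, 10, 7, 5, 0], [12, 2, 10, 9, 3, 0], [12, 2, 10, 4, 9, 0], [8, 3, 0], [3, 9, 0], [13, 9, 0], [13, 8, 5, 0], [1, 10, 9, 3, 0], [9, 3, 10, 0], [], [], [], [], [0, 12, 6, 1, 10, 9, 3, 0], [0, 12, 6, 9, 3, 10, 0], [8, 7], [7, 9], [10, 0], [14, 10, 0], [13, 5, 1], [13, 0, 5], [4, 1], [4, 2, 0], [12, 2, 10, 0], [12, 10, 3, 0], [], [], [], [], [7, 0, 13, 9, 3, 0], [5, 0, 13, 8, 3, 0], [8, 2, 11], [2, 11, 9], [6, 2, 0], [6, 1], [12, 10, 7, 5, 0], [12, 10, 7, 8, 0], [10, 6, 8, 0], [10, 6, 5, 0], [13, 0, 7], [13, 7, 1], [10, 13, 0], [13, 10, 0], [11, 2, 4], [11, 5], [], [], [], [], [], [], [], [], [], [], [], [], [], [], [], [], [13, 10, 6, 5, 0], [10, 13, 6, 5, 0], [11, 7], [11, 2, 6], [9, 0], [8, 5, 0], [12, 1, 10, 9, 3, 0], [12,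 9, 3, 10, 0], [2, 10, 4, 9, 0], [2, 10, 9, 3, 0], [13, 3, 9, 0], [13, 8, 3, 0], [], [], [], [], [9, 6], [8, 7, 4], [7, 0, 12, 2, 10, 4, 9, 0], [7, 0, 12, 2, 10, 9, 3, 0], [13, 4, 2, 0], [13, 4, 1], [10, 3, 0], [2, 10, 0], [12, 10, 0], [14, 12, 10, 0], [5, 1], [0, 5], [], [], [], [], [11, 9, 0], [12, 9, 0], [0, 13, 9, 3, 0], [0, 13, 4, 9, 0], [12, 10, 6, 8, 0], [12, 10, 6, 5, 0], [0, 7], [7, 1], [13, 6, 1], [13, 6, 2, 0], [10, 7, 8, 0], [10, 7, 5, 0], [0, 6], [7, 0], [12, 3, 10, 6, 5, 0], [12, 1, 10, 7, 5, 0], [], [], [], [], [], [], [], [], [], [], [], [], [], [], [], [], [5, 0], [8, 0], [12, 1, 10, 3, 0], [12, 3, 10, 0], [10, 13, 9, 7, 0], [13, 10, 9, 7, 0], [11, 9, 7], [11, 9, 2, 6], [6, 1, 12, 10, 9, 3, 0], [6, 1, 12, 10, 4, 9, 0], [8, 3, 6], [3, 9, 6], [], [], [], [], [13, 9, 2, 0], [13, 9, 1], [10,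 4, 9, 0], [10, 9, 3, 0], [8, 6], [7, 4], [8, 7, 0, 12, 2, 10, 9, 3, 0], [8, 7, 0, 12, 2, 10, 4, 9, 0], [11, 7, 0], [12, 7, 0], [0, 13, 7, 5, 0], [0, 13, 7, 8, 0], [], [], [], [], [12, 10, 9, 0, 6], [12, 10, 9, 7, 0], [9, 7, 1], [9, 0, 7], [12, 5, 0], [11, 5, 0], [3, 10, 13, 0], [0, 13, 3, 0], [], [14], [], []] = true :=
  by decide +kernel

theorem c4a : meetC va Y0.I [14 + 8] [21] [14] [[15], [16], [17], [18], [19], [20], [21]] [[2], [12], [4, 6, 8]] = true :=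
  by decide +kernel

theorem c6a : all2 (relAC va Y0.I 14 [14 + 8] [21] [14] [[15], [16], [17], [18], [19], [20], [21]]) E8.P7.rels [([], [], []), ([], [], []), ([], [], []), ([], [], []), ([], [], []), ([], [], []), ([], [], []), ([8, 4, 7], [2, 1, 6, 9, 3, 11, 13, 0], [14, 16, 19, 20, 21, 22]), ([8, 4], [0, 2, 4, 9, 11, 13, 0], [15, 16, 20, 21, 22]), ([8, 4, 2], [0, 9, 3, 11, 13, 0], [14, 15, 17, 18]), ([8, 4, 2, 0], [4, 9, 11, 13, 0], [14, 15, 16, 17, 18, 19, 20, 21, 22]), ([8, 4, 2, 0, 10], [4, 9, 13, 0], [14, 18, 20, 21]), ([8, 4, 2, 0, 10, 12], [4, 0, 9], [16, 18, 20, 22]), ([6, 5], [8, 2, 1, 6, 9, 3, 11, 13, 0], [15, 16, 17, 19, 21]), ([6, 2], [1, 5, 7, 11, 13, 0], [22]), ([6, 2, 0], [5, 7, 11, 13, 0], [15, 16, 17, 19]), ([6, 2, 0, 10], [5, 7, 13, 0], [22]), ([6, 2, 0, 10, 12], [5, 0, 6], [14, 15,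 17, 19]), ([4, 2], [0, 3, 11, 13, 0], []), ([4, 2, 0], [2, 11, 13, 0], [21]), ([4, 2, 0, 10], [2, 12, 11], [15, 16, 17, 19]), ([4, 2, 0, 10, 12], [2, 1], [14, 18]), ([2, 0], [5, 11, 13, 0], [21, 22]), ([2, 0, 10], [5, 13, 0], [15, 16, 17, 19, 21, 22]), ([2, 0, 10, 12], [0, 4], [14, 16, 21]), ([0, 10], [5, 12, 11], [15, 16, 17, 19]), ([0, 10, 12], [0, 5], [14, 16, 21]), ([10, 12], [1, 5], [15, 16, 20, 22])] = true :=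
  by decide +kernel

theorem c9a : rsC val1 Y1 (14 + 8 + 1) Ua [[14], [15], [16], [17], [18], [19], [20], [21], [22], [8, 6, 0, 12, 11, 2, 9, 7, 4, 0, 12, 7, 8, 2, 10, 8, 7, 3, 9, 1, 7, 4, 1, 10, 7, 2, 9, 5, 0, 3, 14, 15, 16, 17, 20, 22], [3, 9, 6, 0, 13, 4, 0, 6, 9, 3, 6, 4, 0, 12, 1, 7, 8, 2, 10, 8, 7, 3, 4, 1, 7, 8, 2, 10, 6, 4, 14, 15, 16, 18, 22], [5, 0, 13, 7, 3, 9, 1, 7, 4, 0, 12, 7, 9, 5, 3, 6, 1, 10, 5, 1, 7, 8, 2, 10, 7, 3, 9, 1, 5, 7, 16, 18, 19, 20, 21, 22], [2, 1, 13, 6, 9, 1, 7, 4, 0, 12, 11, 8, 7, 3, 9, 1, 7, 5, 2, 10, 0, 7, 3, 9, 5, 1, 7, 1, 5, 1, 15, 16, 20], [12, 8, 3, 10, 0, 6, 9, 3, 6, 4, 0, 12, 1, 7, 8, 2, 10, 9, 5, 2, 7, 2, 9, 5, 1, 7, 0, 5, 3, 0, 14, 17, 20, 21], [4, 6, 0, 13, 8, 7, 3, 9, 1, 7, 4, 0, 12, 2, 10, 8, 7, 3, 9, 1, 5, 7, 2, 10, 5, 2, 8, 7, 0, 3, 15, 16, 17, 19, 21, 22],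 [13, 1, 7, 4, 0, 12, 10, 1, 7, 4, 1, 10, 7, 4, 0, 15, 18, 20, 21], [0, 12, 2, 10, 4, 0, 6, 9, 3, 6, 4, 0, 12, 10, 2, 9, 5, 1, 7, 5, 2, 10, 2, 8, 7, 1, 5, 8, 1, 7, 14, 18, 19, 21, 22], [6, 0, 13, 4, 0, 6, 9, 3, 6, 4, 0, 12, 10, 1, 7, 4, 1, 10, 8, 7, 2, 9, 5, 1, 7, 1, 5, 18, 19, 22], [13, 3, 9, 1, 7, 4, 0, 12, 6, 0, 11, 8, 7, 3, 9, 1, 7, 4, 1, 10, 5, 1, 7, 2, 9, 5, 1, 7, 4, 0, 15, 16, 17, 18, 19]] [14 + 8] [21] [14] [[15], [16], [17], [18], [19], [20], [21]] [8] [7] [0] [[1], [2], [3], [4], [5], [6], [7]] = true :=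
  by decide +kernel

theorem c3b : transC vb Y0.I [14 + 8] [21] (frL 14 8) [[2, 1], [3, 0], [], [], [], [], [13, 0], [12, 11, 0], [], [], [2, 9, 7], [2, 9, 2, 6], [], [], [11, 8, 7, 4], [11, 9, 6], [], [], [13, 6, 8, 0], [13, 6, 5, 0], [7, 5, 0], [7, 8, 0], [], [], [13, 10, 8, 3, 0], [1, 13, 8, 3, 0], [], [], [1, 12, 10, 9, 3, 0], [1, 12, 10, 4, 9, 0], [], [], [], [], [9, 6, 2, 0], [9, 6, 1], [13, 8, 7, 1], [13, 7, 9, 1], [], [], [2, 4], [5], [], [], [2, 11], [12, 3, 0], [], [], [], [], [10, 9, 0], [10, 8, 5, 0], [12, 10, 8, 3, 0], [12, 10, 3, 9, 0], [], [], [12, 7, 5, 0], [11, 7, 5, 0], [], [], [7], [2, 6], [], [], [], [], [11, 7, 4], [11, 8, 6], [1, 12, 10, 7, 5, 0], [1, 12, 10, 7, 8, 0], [], [], [8, 3, 10, 0], [3, 10, 9, 0], [], [], [9, 3, 0], [4, 9, 0], [], [], [1, 12, 2, 10, 0], [1, 12, 10, 3, 0], [],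 [], [], [], [16, 11], [11], [], [], [12, 6, 9, 3, 10, 0], [12, 6, 1, 10, 9, 3, 0], [], [], [13, 9, 0, 6], [13, 9, 7, 0], [9, 2, 11], [12, 9, 3, 0], [], [], [], [], [0, 12, 2, 10, 9, 3, 0], [0, 12, 2, 10, 4, 9, 0], [], [], [10, 0, 6], [10, 7, 0], [], [], [8, 6, 1], [7, 4, 1], [9, 7], [9, 2, 6], [], [], [], [], [6, 0, 13, 4, 9, 0], [6, 0, 13, 9, 3, 0], [], [], [1], [2, 0], [], [], [10, 5, 0], [10, 8, 0], [], [], [13, 10, 7, 0], [10, 13, 7, 0], [3, 6], [1, 7], [], [], [13, 4, 9, 0], [13, 9, 3, 0], [], [], [12, 8, 3, 10, 0], [12, 3, 10, 9, 0], [], [], [1, 5], [3, 4], [], [], [], [], [10, 13, 5, 0], [13, 10, 5, 0], [], [], [9, 0, 6], [9, 7, 0], [], [], [6, 1, 10, 9, 3, 0], [6, 9, 3, 10, 0], [0, 13, 3, 9, 0], [0, 13, 8, 3, 0], [], [], [], [], [15, 9], [9], [], [], [13, 7, 4, 1], [13, 8, 6, 1], [], [], [12, 10,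 0, 6], [12, 10, 7, 0], [4, 0, 12, 6, 1, 10, 9, 3, 0], [4, 0, 12, 6, 9, 3, 10, 0], [], [], [], [], [12, 9, 7, 0], [11, 9, 7, 0], [], [], [12, 10, 5, 0], [12, 10, 8, 0], [], [], [13, 2, 0], [13, 1], [], [], [17, 0], [0], [13, 2, 1], [13, 3, 0], [], [], [9, 3, 6], [9, 1, 7], [], [], [11, 7, 9], [11, 8, 7], [], [], [13, 7, 5, 0], [13, 7, 8, 0], [], [], [], [], [6, 5, 0], [6, 8, 0], [], [], [10, 13, 9, 0], [13, 10, 9, 0], [], [], [1, 12, 2, 10, 9, 3, 0], [5, 1, 12, 10, 8, 3, 0], [7, 9, 1], [8, 7, 1], [], [], [], [], [13, 9, 6, 2, 0], [13, 9, 6, 1], [], [], [17, 4], [4], [], [], [11, 0], [12, 0], [10, 8, 3, 0], [10, 3, 9, 0], [], [], [], [], [12, 10, 8, 5, 0], [12, 10, 9, 0], [], [], [12, 6, 5, 0], [11, 6, 5, 0], [], [], [6], [21, 6], [], [], [], [], [13, 7, 0], [13, 0, 6], [1, 10, 7, 5, 0], [3, 10, 6, 5, 0],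 [6, 9, 1, 7], [6, 9, 3, 6], [1, 12, 10, 8, 3, 0], [1, 12, 10, 3, 9, 0], [14, 11, 9], [11, 9], [1, 13, 9, 3, 0], [13, 10, 9, 3, 0], [13, 8, 0], [13, 5, 0], [3, 10, 0], [1, 10, 3, 0], [], [], [], [], [], [], [], [], [], [], [], [], [9, 2, 0], [9, 1], [12, 10, 4, 9, 0], [12, 10, 9, 3, 0], [], [], [], [], [], [], [], [], [], [], [], [], [10, 9, 7, 0], [10, 9, 0, 6], [13, 9, 0, 7], [13, 9, 7, 1], [], [], [], [], [], [], [], [], [], [], [], [], [14, 11, 4], [11, 4], [13, 10, 3, 0], [1, 13, 3, 0], [], [], [], [], [], [], [], [], [], [], [], [], [], [], [], [], [11, 6], [14, 11, 6], [1, 13, 7, 5, 0], [13, 10, 7, 5, 0], [12, 2, 10, 9, 3, 0], [12, 2, 10, 4, 9, 0], [8, 3, 0], [3, 9, 0], [13, 9, 0], [13, 8, 5, 0], [1, 10, 9, 3, 0], [9, 3, 10, 0], [], [], [], [], [0, 12, 6, 1, 10, 9, 3, 0], [0, 12, 6, 9, 3, 10, 0], [8,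 7], [7, 9], [10, 0], [14, 10, 0], [13, 5, 1], [13, 0, 5], [4, 1], [4, 2, 0], [12, 2, 10, 0], [12, 10, 3, 0], [], [], [], [], [7, 0, 13, 9, 3, 0], [5, 0, 13, 8, 3, 0], [8, 2, 11], [2, 11, 9], [6, 2, 0], [6, 1], [12, 10, 7, 5, 0], [12, 10, 7, 8, 0], [10, 6, 8, 0], [10, 6, 5, 0], [13, 0, 7], [13, 7, 1], [10, 13, 0], [13, 10, 0], [11, 2, 4], [11, 5], [], [], [], [], [], [], [], [], [], [], [], [], [], [], [], [], [13, 10, 6, 5, 0], [10, 13, 6, 5, 0], [11, 7], [11, 2, 6], [9, 0], [8, 5, 0], [12, 1, 10, 9, 3, 0], [12, 9, 3, 10, 0], [2, 10, 4, 9, 0], [2, 10, 9, 3, 0], [13, 3, 9, 0], [13, 8, 3, 0], [], [], [], [], [9, 6], [8, 7, 4], [7, 0, 12, 2, 10, 4, 9, 0], [7, 0, 12, 2, 10, 9, 3, 0], [13, 4, 2, 0], [13, 4, 1], [10, 3, 0], [2, 10, 0], [12, 10, 0], [14, 12, 10, 0], [5, 1], [0, 5], [], [], [], [], [11, 9, 0], [12,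 9, 0], [0, 13, 9, 3, 0], [0, 13, 4, 9, 0], [12, 10, 6, 8, 0], [12, 10, 6, 5, 0], [0, 7], [7, 1], [13, 6, 1], [13, 6, 2, 0], [10, 7, 8, 0], [10, 7, 5, 0], [0, 6], [7, 0], [12, 3, 10, 6, 5, 0], [12, 1, 10, 7, 5, 0], [], [], [], [], [], [], [], [], [], [], [], [], [], [], [], [], [5, 0], [8, 0], [12, 1, 10, 3, 0], [12, 3, 10, 0], [10, 13, 9, 7, 0], [13, 10, 9, 7, 0], [11, 9, 7], [11, 9, 2, 6], [6, 1, 12, 10, 9, 3, 0], [6, 1, 12, 10, 4, 9, 0], [8, 3, 6], [3, 9, 6], [], [], [], [], [13, 9, 2, 0], [13, 9, 1], [10, 4, 9, 0], [10, 9, 3, 0], [8, 6], [7, 4], [8, 7, 0, 12, 2, 10, 9, 3, 0], [8, 7, 0, 12, 2, 10, 4, 9, 0], [11, 7, 0], [12, 7, 0], [0, 13, 7, 5, 0], [0, 13, 7, 8, 0], [], [], [], [], [12, 10, 9, 0, 6], [12, 10, 9, 7, 0], [9, 7, 1], [9, 0, 7], [12, 5, 0], [11, 5, 0], [3, 10, 13, 0], [0, 13, 3, 0], [], [14],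 [], []] = true :=
  by decide +kernel

theorem c4b : meetC vb Y0.I [14 + 8] [21] [14] [[15], [16], [17], [18], [19], [20], [21]] [[2], [12], [4, 6, 8]] = true :=
  by decide +kernel

theorem c6b : all2 (relAC vb Y0.I 14 [14 + 8] [21] [14] [[15], [16], [17], [18], [19], [20], [21]]) E8.P7.rels [([], [], []), ([], [], []), ([], [], []), ([], [], []), ([], [], []), ([], [], []), ([], [], []), ([8, 4, 7], [2, 1, 6, 9, 3, 11, 13, 0], [14, 16, 19, 20, 22]), ([8, 4], [0, 2, 4, 9, 11, 13, 0], [15, 16, 20]), ([8, 4, 2], [0, 9, 3, 11, 13, 0], [14, 15, 17, 18, 21]), ([8, 4, 2, 0], [4, 9, 11, 13, 0], [14, 15, 16, 17, 18, 19, 20, 22]), ([8, 4, 2, 0, 10], [4, 9, 13, 0], [14, 18, 20]), ([8, 4, 2, 0, 10, 12], [4, 0, 9], [16, 18, 20, 21]), ([6, 5], [8, 2, 1, 6, 9, 3, 11, 13, 0], [15, 16, 17, 19, 22]), ([6, 2], [1, 5, 7,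 11, 13, 0], [21]), ([6, 2, 0], [5, 7, 11, 13, 0], [15, 16, 17, 19, 21, 22]), ([6, 2, 0, 10], [5, 7, 13, 0], [21]), ([6, 2, 0, 10, 12], [5, 0, 6], [14, 15, 17, 19, 21]), ([4, 2], [0, 3, 11, 13, 0], [21, 22]), ([4, 2, 0], [2, 11, 13, 0], [22]), ([4, 2, 0, 10], [2, 12, 11], [15, 16, 17, 19, 21, 22]), ([4, 2, 0, 10, 12], [2, 1], [14, 18, 21]), ([2, 0], [5, 11, 13, 0], []), ([2, 0, 10], [5, 13, 0], [15, 16, 17, 19]), ([2, 0, 10, 12], [0, 4], [14, 16]), ([0, 10], [5, 12, 11], [15, 16, 17, 19, 21, 22]), ([0, 10, 12], [0, 5], [14, 16]), ([10, 12], [1, 5], [15, 16, 20, 21])] = true :=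
  by decide +kernel

theorem c9b : rsC val1 Y1 (14 + 8 + 1) Ub [[14], [16], [15], [17], [18], [19], [20], [21], [22], [12, 2, 10, 4, 0, 6, 9, 3, 6, 4, 0, 12, 7, 8, 2, 10, 7, 9, 5, 0, 7, 3, 9, 7, 0, 5, 0, 7, 5, 0, 14, 16, 17, 21], [13, 1, 7, 4, 0, 12, 8, 7, 1, 10, 5, 1, 7, 8, 2, 10, 0, 7, 9, 5, 0, 7, 3, 9, 5, 1, 7, 5, 3, 1, 14, 15, 19, 20, 21, 22], [1, 6, 1, 12, 10, 4, 0, 6, 9, 3, 6, 4, 0, 12, 10, 3, 8, 1, 7, 5, 2, 10, 2, 8, 7, 0, 3, 9, 5, 3, 15, 16, 17, 18, 19, 20], [7, 4, 0, 13, 8, 7, 3, 9, 1, 7, 4, 0, 12, 7, 8, 2, 10, 7, 3, 4, 1, 7, 8, 2, 10, 9, 4, 6, 4, 0, 14, 15, 16, 21], [7, 4, 0, 13, 8, 7, 3, 9, 1, 7, 4, 0, 12, 1, 7, 9, 2, 10, 4, 6, 3, 4, 1, 7, 8, 2, 10, 6, 4, 1, 14, 15, 17, 21], [7, 4, 0, 13, 8, 7, 3, 9, 1, 7, 4, 0, 12, 2, 10, 8, 7, 3, 4, 1, 7, 8, 2, 10, 6, 9, 5, 0, 7, 0, 15, 16, 17, 21, 22], [13,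 1, 7, 4, 0, 12, 10, 1, 7, 4, 1, 10, 7, 4, 0, 15, 18, 20, 21], [6, 0, 13, 4, 0, 6, 9, 3, 6, 4, 0, 12, 7, 9, 2, 10, 5, 7, 3, 9, 1, 5, 7, 2, 10, 0, 3, 9, 3, 4, 14, 15, 16, 17, 19, 20], [6, 0, 13, 4, 0, 6, 9, 3, 6, 4, 0, 12, 10, 1, 7, 4, 1, 10, 8, 7, 2, 9, 5, 1, 7, 1, 5, 18, 19, 22], [6, 0, 13, 4, 0, 6, 9, 3, 6, 4, 0, 12, 6, 8, 3, 6, 1, 10, 5, 1, 7, 8, 2, 10, 7, 3, 9, 2, 5, 2, 14, 18, 21]] [14 + 8] [21] [14] [[15], [16], [17], [18], [19], [20], [21]] [8] [7] [0] [[1], [2], [3], [4], [5], [6], [7]] = true :=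
  by decide +kernel

theorem st0 {G : Type*} [Group G] [Finite G] {Q : Subgroup G} {z : G} (h : LX Q z)
    (hQ : Nat.card Q = 2 ^ 9) (hC : Nat.card (centralizer ({z} : Set G)) = 89181388800) {g : G}
    (hg : g * z * g⁻¹ ∈ Q) (hne : g * z * g⁻¹ ≠ z) : ∃ (t : ℕ → G × Co1) (P R : Subgroup G),
      Ov t m val X.I ∧ CG Q P R z t (ones 19) [8] [7] [0] [[1], [2], [3], [4], [5], [6], [7]] := by
  have := E8.B.simple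
  obtain ⟨t, P, R, o, c⟩ : ∃ (t : ℕ → G × Co1) (P R : Subgroup G), Ov t (cut m2 Y1.inv.length) val1 Y1.I ∧
      CG Q P R z t (ones Y1.inv.length) [8] [7] [0] [[1], [2], [3], [4], [5], [6], [7]] := by
    rcases exists_tw h hQ (type_co1 h hQ hC) (X := Y0) (by decide) orca orcb c1 c2 c3 with h | h
    · exact Fr.core (hQ ▸ by norm_num) hg hne h orc1 rfl (by decide) c3a c4a (by decide +kernel) c6a
        E8.B.link (E8.B.model.not_comm E8.B.spec [0] [2] 1 (by decide +kernel))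
        (by rw [hC, hQ, E8.B.card]; norm_num) (k0 := 0) (i0 := 14) (by decide +kernel) (by decide +kernel) c9a
    · exact Fr.core (hQ ▸ by norm_num) hg hne h orc1 rfl (by decide) c3b c4b (by decide +kernel) c6b
        E8.B.link (E8.B.model.not_comm E8.B.spec [0] [2] 1 (by decide +kernel))
        (by rw [hC, hQ, E8.B.card]; norm_num) (k0 := 0) (i0 := 14) (by decide +kernel) (by decide +kernel) c9b
  exact ⟨_, P, R, o.pad orc2 (by decide +kernel), c.congr (pad_on t _ 19)⟩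

end Cfsg.Agent.XSC.CoU
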