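import Cfsg.Agent.XSC.CoA

set_option autoImplicit false
set_option Elab.async false
set_option maxRecDepth 100000

namespace Cfsg.Agent.XSC.CoU

open Cfsg.Agent.Comp.BN Cfsg.Agent.C1M Cfsg.Spor Cfsg.Agent.XSC.CoO Cfsg.Agent.TT Cfsg.Agent.LES Subgroup

theorem b1 : usC val X.I (ones 19) 19 [8] [7] [[1], [2], [3], [4], [5], [6], [7]] [[18, 10, 13, 18, 13, 10, 1], [15, 12, 15, 12, 7], [17, 14, 17, 14, 3], [14, 15, 14, 7], [17, 5], [15, 14, 15, 14, 7]] = true :=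
  by decide +kernel

theorem b2 : lsC val X.I (ones 19) 19 [7] [[18, 10, 13, 18, 13, 10, 1], [15, 12, 15, 12, 7], [17, 14, 17, 14, 3], [14, 15, 14, 7], [17, 5], [15, 14, 15, 14, 7]] [[12, 13, 18, 13, 3, 16, 12], [14, 17, 16, 14, 10, 13]] [(3, [[4, 1], [5, 3, 0], [3, 2], [5, 1], [5], [6, 3, 4, 2, 1]]), (3, [[6, 5, 4, 3, 1], [4], [5, 4, 1, 0], [4, 2], [5, 4], [6, 2]])] = true :=
  by decide +kernel

theorem b3 : asC val X.I 19 [8] [7] [0] [[1], [2], [3], [4], [5], [6], [7]] [[18, 10, 13, 18, 13, 10, 1], [15, 12, 15, 12, 7], [17, 14, 17, 14, 3], [14, 15, 14, 7], [17, 5], [15, 14, 15, 14, 7]] [[12, 13, 18, 13, 3, 16, 12], [14, 17, 16, 14, 10, 13]] [([18, 10, 13, 18, 13, 10, 1], [1, 1, 0, 1], 0), ([15, 12, 15, 12, 7], [0], 0), ([17, 14, 17, 14, 3], [1, 0, 1, 0, 1, 1, 0, 0, 1, 1], 0), ([14, 15, 14, 7], [0], 0), ([17, 5], [1, 0, 0, 1, 1, 0, 1, 0, 1, 1], 0), ([15, 14, 15, 14, 7],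 [0, 1, 1, 0, 1, 0, 0], 0), ([], [], 0)] = true :=
  by decide +kernel

theorem b4 : kC val X.I 19 [8] [7] [0] ([8] :: ([[1], [2], [3], [4], [5], [6], [7]] ++ [[18, 10, 13, 18, 13, 10, 1], [15, 12, 15, 12, 7], [17, 14, 17, 14, 3], [14, 15, 14, 7], [17, 5], [15, 14, 15, 14, 7]] ++ [[12, 13, 18, 13, 3, 16, 12], [14, 17, 16, 14, 10, 13]])) [[0], [1], [2], [3], [4], [5], [6], [7, 0], [8, 1], [9, 2], [10, 3], [11, 4], [12, 5], [13, 6], [14], [15]] = true :=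
  by decide +kernel

theorem b5 : subWC val X.I [524287] 1046015 21 [[0], [19], [8], [1], [2], [3], [4], [5], [6], [7], [18, 10, 13, 18, 13, 10, 1], [15, 12, 15, 12, 7], [17, 14, 17, 14, 3], [14, 15, 14, 7], [17, 5], [15, 14, 15, 14, 7], [12, 13, 18, 13, 3, 16, 12], [14, 17, 16, 14, 10, 13]] [[0], [3], [4], [5], [6], [7], [8], [9], [2], [], [17, 16, 16, 17, 16, 17, 16, 16, 17, 17, 16, 17, 17, 16, 17, 17, 16, 17, 16, 16, 17, 17, 0, 13, 15, 0], [], [17, 16, 16, 17, 16, 17, 16, 16, 17, 16, 17, 16, 17, 16, 16, 17, 16, 4, 8, 9, 15], [17, 16, 16, 17, 16, 17, 16, 16, 17, 17, 16, 17, 16, 16, 17, 16, 0, 13, 15, 0], [16, 17, 16, 17, 16, 17, 17, 16, 17, 16, 17, 16, 16, 0, 9, 11, 0], [13, 15], [16, 17, 16, 16, 17, 16, 17, 16, 16, 17, 16, 17, 16, 16, 17, 16, 17, 7, 14], [7, 14], [16, 16, 17, 16, 16, 17, 16, 17, 17, 16, 17, 16, 17, 17, 16, 16, 17, 17, 16, 5, 7, 9, 12], [1]] = true :=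
  by decide +kernel

/-- the state after the construction of the graph over the normaliser of the four-group -/
def StB {G : Type*} [Group G] (z : G) (t : ℕ → G × Co1) (Ss : List ℕ) : Prop :=
  St t m val X.I Ss [] ∧ Nat.card (centralizer ({z} : Set G)) = 89181388800 ∧
    ∃ Q P R, CG Q P R z t 524287 [8] [7] [0] [[1], [2], [3], [4], [5], [6], [7]]

theorem stB {G : Type*} [Group G] [Finite G] {Q : Subgroup G} {z : G} (h : LX Q z)
    (hQ : Nat.card Q = 2 ^ 9) (hC : Nat.card (centralizer ({z} : Set G)) = 89181388800) {g : G}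
    (hg : g * z * g⁻¹ ∈ Q) (hne : g * z * g⁻¹ ≠ z) : ∃ t, StB z t [1046015, 524287] := by
  obtain ⟨t, P, R, o, c⟩ := st0 h hQ hC hg hne
  obtain ⟨t, o, c, h1⟩ := c.stepB o (by decide +kernel) (fixI_spec (by decide +kernel)) b1 b2 b3 b4
  have o1 : St t m val X.I [524287] [] := ⟨o, ⟨c.gr, trivial⟩, trivial⟩
  exact ⟨t, o1.addS (h1.mono (o1.le_genW b5)), hC, Q, P, R, c⟩

end Cfsg.Agent.XSC.CoU
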