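import Mathlib
import Cfsg.Agent.XSC.Steps
import Cfsg.Agent.C1M.Rep
import Cfsg.Agent.Comp.KronRep
import Cfsg.Agent.Spor.Co0Simple

/-! Equality of words in `Co1` through the images of six vectors. -/

set_option autoImplicit false

namespace Cfsg.Agent.XSC.CoO

open Cfsg.Spor Cfsg.Agent.Comp.BN Cfsg.Agent.C1M Cfsg.Agent.Comp.Dig Cfsg.Agent.Comp.Kron
open Cfsg.Agent.Spor.ModelCo1
open scoped Matrix

theorem fin : Finite Co1 := Nat.finite_of_card_ne_zero (by rw [Spor.Leech.card_Co1]; norm_num)

theorem simple : IsSimpleGroup Co1 := Spor.Leech.simple_co1

noncomputable def bs (i : ℕ) : ℕ := nth 0 [0, 29, 38, 150, 5, 1] i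

theorem bs_lt (i : ℕ) : bs i < 98280 := nth_prop (· < 98280) _ _ (by norm_num) (by simp) i

theorem base {g : Co1} (h : ∀ i < 6, rho g *ᵥ pt (bs i) = pt (bs i)) : g = 1 := by
  have e : ∀ i < 6, sg g (bs i) = bs i := fun i hi =>
    pt_inj (sg_lt g (bs_lt i)) (bs_lt i) ((rho_pt g (bs_lt i)).symm.trans (h i hi))
  have h0 := G_st5.stab _ (G_st4.stab _ (G_st3.stab _ (G_st2.stab _ (G_st1.stab _ (G_st0.stab _
    (G_eq.le (Comp.pm_mem equiv g)) (e 0 (by norm_num))) (e 1 (by norm_num))) (e 2 (by norm_num)))
    (e 3 (by norm_num))) (e 4 (by norm_num))) (e 5 (by norm_num))
  apply Comp.pm_inj equiv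
  rw [map_one]
  exact Subgroup.mem_bot.1 (Comp.cgrp_nil ns ▸ h0)

theorem top : ∀ g : Co1, g ∈ genW X0 [[0], [2], [4], [6], [8], [10], [12], [14], [16]] := by
  intro g
  have : Comp.gen ns G_ss0 ≤ (genW X0 [[0], [2], [4], [6], [8], [10], [12], [14], [16]]).map sg := by
    refine (Subgroup.closure_le _).2 ?_
    rintro _ ⟨u, hu, rfl⟩
    exact ⟨_, mem_genW hu, sg_ev u⟩
  obtain ⟨a, ha, e⟩ := this (Comp.pm_mem equiv g)
  rwa [← Comp.pm_inj equiv e]

def bt (x i : ℕ) : ℕ := Nat.land (Nat.shiftRight x i) 1

theorem bt_lt (x i : ℕ) : bt x i < 2 := lt_of_le_of_lt Nat.and_le_right (by norm_num)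

theorem bt_cast (x i : ℕ) : (bt x i : ZMod 2) = bz x i := by
  have h := bt_lt x i
  rw [bz, ← tb_eq, tb]
  change _ = if Nat.beq (bt x i) 1 = true then _ else _
  generalize bt x i = a at h
  interval_cases a <;> rfl

/-- the bits `f 0, f 1, …` of `x` as digits -/
noncomputable def spr (f : ℕ → ℕ) (x n : ℕ) : ℕ :=
  sumR n fun q => Nat.shiftLeft (bt x (f q)) (Nat.mul 6 q)

theorem spr_eq (f : ℕ → ℕ) (x n : ℕ) : spr f x n = ∑ q ∈ Finset.range n, bt x (f q) * (2 ^ 6) ^ q := by
  simp only [spr, sumR_eq]
  refine Finset.sum_congr rfl fun k _ => ?_
  rw [← pow_mul, ← Nat.shiftLeft_eq]; rfl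

theorem dig_spr (f : ℕ → ℕ) (x n q : ℕ) : dig 6 (spr f x n) q = if q < n then bt x (f q) else 0 := by
  rw [spr_eq, dig_sum_range 6 _ _ fun q _ => (bt_lt _ _).trans (by norm_num)]

theorem dig_spr_lt (f : ℕ → ℕ) (x n q : ℕ) : dig 6 (spr f x n) q < 2 := by
  rw [dig_spr]; split_ifs
  exacts [bt_lt _ _, two_pos]

def bv (k : ℕ) : V := fun j => if (j : ℕ) = k then 1 else 0

theorem sum_bv (c : ℕ → ℕ) (j : Fin 24) : (∑ k ∈ Finset.range 24, c k • bv k) j = c j := by
  rw [Finset.sum_apply, Finset.sum_eq_single (j : ℕ)]
  · simp [bv]
  · intro k _ hk; simp [bv, hk.symm]
  · intro h; exact absurd (Finset.mem_range.2 j.2) h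

theorem indep : Indep bv 24 2 := fun c c' h h' e k hk => by
  have := congrFun e ⟨k, hk⟩
  rw [sum_bv, sum_bv, ZMod.natCast_eq_natCast_iff'] at this
  rwa [Nat.mod_eq_of_lt (h _), Nat.mod_eq_of_lt (h' _)] at this

noncomputable def hatM (s : ℕ) : ℕ :=
  hat 6 6 24 (spr (fun q => Nat.add (Nat.mul 24 (Nat.mod q 24)) (Nat.div q 24)) s 576)

def MASK : ℕ := nat_lit 0x40000000000000000000000000000000000040000000000000000000000000000000000040000000000000000000000000000000000040000000000000000000000000000000000040000000000000000000000000000000000040000000000000000000000000000000000001000000000000000000000000000000000001000000000000000000000000000000000001000000000000000000000000000000000001000000000000000000000000000000000001000000000000000000000000000000000001000000000000000000000000000000000000040000000000000000000000000000000000040000000000000000000000000000000000040000000000000000000000000000000000040000000000000000000000000000000000040000000000000000000000000000000000040000000000000000000000000000000000001000000000000000000000000000000000001000000000000000000000000000000000001000000000000000000000000000000000001000000000000000000000000000000000001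0000000000000000000000000000000000010000000000000000000000000000000000000400000000000000000000000000000000000400000000000000000000000000000000000400000000000000000000000000000000000400000000000000000000000000000000000400000000000000000000000000000000000400000000000000000000000000000000000010000000000000000000000000000000000010000000000000000000000000000000000010000000000000000000000000000000000010000000000000000000000000000000000010000000000000000000000000000000000010000000000000000000000000000000000000400000000000000000000000000000000000400000000000000000000000000000000000400000000000000000000000000000000000400000000000000000000000000000000000400000000000000000000000000000000000400000000000000000000000000000000000010000000000000000000000000000000000010000000000000000000000000000000000010000000000000000000000000000000000010000000000000000000000000000000000010000000000000000000000000000000000010000000000000000000000000000000000000400000000000000000000000000000000000400000000000000000000000000000000000400000000000000000000000000000000000400000000000000000000000000000000000400000000000000000000000000000000000400000000000000000000000000000000000010000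0000000000000000000000000000000100000000000000000000000000000000000100000000000000000000000000000000000100000000000000000000000000000000000100000000000000000000000000000000000100000000000000000000000000000000000004000000000000000000000000000000000004000000000000000000000000000000000004000000000000000000000000000000000004000000000000000000000000000000000004000000000000000000000000000000000004000000000000000000000000000000000000100000000000000000000000000000000000100000000000000000000000000000000000100000000000000000000000000000000000100000000000000000000000000000000000100000000000000000000000000000000000100000000000000000000000000000000000004000000000000000000000000000000000004000000000000000000000000000000000004000000000000000000000000000000000004000000000000000000000000000000000004000000000000000000000000000000000004000000000000000000000000000000000000100000000000000000000000000000000000100000000000000000000000000000000000100000000000000000000000000000000000100000000000000000000000000000000000100000000000000000000000000000000000100000000000000000000000000000000000004000000000000000000000000000000000004000000000000000000000000000000000004000000000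0000000000000000000000000040000000000000000000000000000000000040000000000000000000000000000000000040000000000000000000000000000000000001000000000000000000000000000000000001000000000000000000000000000000000001000000000000000000000000000000000001000000000000000000000000000000000001000000000000000000000000000000000001000000000000000000000000000000000000040000000000000000000000000000000000040000000000000000000000000000000000040000000000000000000000000000000000040000000000000000000000000000000000040000000000000000000000000000000000040000000000000000000000000000000000001000000000000000000000000000000000001000000000000000000000000000000000001000000000000000000000000000000000001000000000000000000000000000000000001000000000000000000000000000000000001000000000000000000000000000000000000040000000000000000000000000000000000040000000000000000000000000000000000040000000000000000000000000000000000040000000000000000000000000000000000040000000000000000000000000000000000040000000000000000000000000000000000001000000000000000000000000000000000001000000000000000000000000000000000001000000000000000000000000000000000001000000000000000000000000000000000001000000000000000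000000000000000000001000000000000000000000000000000000000040000000000000000000000000000000000040000000000000000000000000000000000040000000000000000000000000000000000040000000000000000000000000000000000040000000000000000000000000000000000040000000000000000000000000000000000001000000000000000000000000000000000001000000000000000000000000000000000001000000000000000000000000000000000001000000000000000000000000000000000001000000000000000000000000000000000001000000000000000000000000000000000000040000000000000000000000000000000000040000000000000000000000000000000000040000000000000000000000000000000000040000000000000000000000000000000000040000000000000000000000000000000000040000000000000000000000000000000000001000000000000000000000000000000000001000000000000000000000000000000000001000000000000000000000000000000000001000000000000000000000000000000000001000000000000000000000000000000000001000000000000000000000000000000000000000000000000000000000000000000000000000000000000000000000000000000000000000000000000000000000000000000000000000000000000000000000000000000000000000000000000000000000000000000000000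

def MOD : ℕ := nat_lit 0xffffffffffffffffffffffffffffffffffffffffffffffffffffffffffffffffffffffffffffffffffffffffffffffffffffffffffffffffffffffffffffffffffffffffffffffffffffffffffffffffffffffffffffffffffffffffffffffffffffffffffffffffffffffff

def ORG : ℕ := nat_lit 0x1000000041000000041001041001041000041001000040040001001040040040041001040041041040000001040000000041041001001041041001001041041041001041041041040000040000000040000000000000000041041000001041001001000000000000000000

theorem MASK_eq : MASK = mask 6 6 24 1 := by decide +kernel

theorem MOD_eq : MOD = modu 6 6 24 := by decide +kernel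

theorem ORG_eq : ORG = spr (fun q => Nat.add (Nat.mul 131072 (Nat.mod q 24)) (bs (Nat.div q 24))) P 144 := by
  decide +kernel

def Rp (s : ℕ) (g : Co1) : Prop :=
  Valid 6 6 24 2 s ∧ ∀ i < 6, Comp.Kron.row bv 6 24 s i = rho g *ᵥ pt (bs i)

theorem rp_one : Rp ORG 1 := by
  rw [ORG_eq]
  refine ⟨⟨?_, dig_spr_lt _ _ _⟩, fun i hi => funext fun j => ?_⟩
  · rw [spr_eq]; exact sum_lt_pow _ _ fun q _ => (bt_lt _ _).trans (by norm_num)
  · rw [Comp.Kron.row, sum_bv, dig_spr, if_pos (by omega), bt_cast, map_one, Matrix.one_mulVec, pt]
    congr 1
    change 131072 * ((i * 24 + j) % 24) + bs ((i * 24 + j) / 24) = _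
    rw [show (i * 24 + j) % 24 = j by omega, show (i * 24 + j) / 24 = i by omega]

theorem rp_step {a s : ℕ} {g h : Co1} (ha : mat a = rho h) (hs : Rp s g) :
    Rp (raw MASK MOD (hatM a) s) (h * g) := by
  rw [MASK_eq, MOD_eq, hatM]
  obtain ⟨h1, h2⟩ := raw_two (bv := bv) (fun k => by funext j; simp [CharTwo.two_eq_zero])
    (by norm_num) (by norm_num) (by norm_num) (Matrix.mulVecLin (rho h)).toAddMonoidHom hs.1
    (dig_spr_lt (fun q => Nat.add (Nat.mul 24 (Nat.mod q 24)) (Nat.div q 24)) a 576) (fun k hk => by
      funext j
      rw [Comp.Kron.row, sum_bv, dig_spr, if_pos (by omega), bt_cast, ← ha]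
      change bz a (24 * ((k * 24 + j) % 24) + (k * 24 + j) / 24) = (mat a *ᵥ bv k) j
      rw [show (k * 24 + j) % 24 = j by omega, show (k * 24 + j) / 24 = k by omega,
        show bv k = Pi.single ⟨k, hk⟩ 1 from funext fun l => by simp [bv, Pi.single_apply, Fin.ext_iff],
        Matrix.mulVec_single_one]
      rfl)
  exact ⟨h1, fun i hi => by rw [h2 i hi, hs.2 i hi, map_mul, ← Matrix.mulVec_mulVec]; rfl⟩

noncomputable def tabC (L : List ℕ) (n : ℕ) (T : FT) : Bool :=
  allN (fun k => Nat.beq (T.get k) (hatM (Comp.getL one L k))) n

noncomputable def op (n : ℕ) (T : FT) (k s : ℕ) : ℕ := bif' (Nat.blt k n) (raw MASK MOD (T.get k) s) s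

noncomputable def valK (n : ℕ) (T : FT) : List ℕ → ℕ := run (op n T) ORG

theorem orc {L : List ℕ} {x : ℕ → Co1} (h : Ml rho L x) {n : ℕ} {T : FT} (c : tabC L n T = true)
    {n' : ℕ} (hn : n' ≤ n) : Orc (cut x n') (valK n' T) := by
  refine orc_run (Rep := Rp) rp_one (fun k s g hs => ?_) (fun s g g' h1 h2 => ?_) fun s s' g h1 h2 => ?_
  · rw [op, bif'_eq]
    split_ifs with hk
    · have hk' := Nat.blt_eq.mp hk
      rw [cut_lt _ hk', Nat.eq_of_beq_eq_true ((allN_eq _ _).1 c k (by omega))]
      exact rp_step (h k) hs
    · rwa [cut_le _ (by simpa [Nat.blt_eq] using hk), one_mul]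
  · refine (inv_mul_eq_one.1 (base fun i hi => ?_))
    rw [map_mul, ← Matrix.mulVec_mulVec, ← h2.2 i hi, h1.2 i hi, Matrix.mulVec_mulVec, ← map_mul,
      inv_mul_cancel, map_one, Matrix.one_mulVec]
  · exact eq_of_row_eq (by norm_num) indep h1.1 h2.1 fun i hi => by rw [h1.2 i hi, h2.2 i hi]

theorem ml_cut {L : List ℕ} {x : ℕ → Co1} (h : Ml rho L x) {n : ℕ} (hn : L.length ≤ n) :
    cut x n = x := by
  funext k
  by_cases hk : k < n
  · exact cut_lt _ hk
  · rw [cut_le _ (not_lt.1 hk)]
    apply rho_inj
    rw [← h k, Comp.getL_eq, List.getD_eq_default _ _ (by omega), mat_one, map_one]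

/-! ### Stabilisers of vectors -/

/-- the elements fixing the row `u` and the pair `v, v + u` -/
def Kv (u v : V) : Subgroup Co1 where
  carrier := {g | u ᵥ* rho g = u ∧ (v ᵥ* rho g = v ∨ v ᵥ* rho g = v + u)}
  one_mem' := by simp
  mul_mem' := by
    have e : ∀ w : V, w + u + u = w := fun w => by rw [add_assoc, CharTwo.add_self_eq_zero, add_zero]
    rintro a b ⟨a1, a2⟩ ⟨b1, b2⟩
    simp only [Set.mem_setOf_eq, map_mul, ← Matrix.vecMul_vecMul]
    refine ⟨by rw [a1, b1], ?_⟩
    rcases a2 with a2 | a2 <;> rcases b2 with b2 | b2 <;> simp [a2, b2, b1, Matrix.add_vecMul, e]
  inv_mem' := by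
    have e : ∀ w : V, w + u + u = w := fun w => by rw [add_assoc, CharTwo.add_self_eq_zero, add_zero]
    rintro a ⟨a1, a2⟩
    have k : ∀ w : V, (w ᵥ* rho a) ᵥ* rho a⁻¹ = w := fun w => by
      rw [Matrix.vecMul_vecMul, ← map_mul, mul_inv_cancel, map_one, Matrix.vecMul_one]
    have h1 : u ᵥ* rho a⁻¹ = u := by rw [← a1, k, a1]
    refine ⟨h1, a2.imp (fun h => by rw [← h, k, h]) fun h => ?_⟩
    have := k v
    rw [h, Matrix.add_vecMul, h1] at this
    exact (e _).symm.trans (by rw [this])

noncomputable def eqV (a b : ℕ) : Bool := Nat.beq (Nat.land (Nat.xor a b) (ones 24)) 0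

theorem eqV_iff (a b : ℕ) : eqV a b = true ↔ fn a = fn b := by
  rw [eqV, Nat.beq_eq, Nat.eq_iff_testBit_eq, funext_iff]
  have k : ∀ j, (Nat.land (Nat.xor a b) (ones 24)).testBit j = Nat.testBit 0 j ↔
      (j < 24 → bz a j = bz b j) := fun j => by
    rw [← bz_inj, bz_land, bz_xor, bz_zero, show ones 24 = Comp.ones 24 from rfl, bz_ones]
    split_ifs with h
    · simp only [h, forall_const]; generalize bz a j = x, bz b j = y; revert x y; decide
    · simp [h]
  simp only [k]
  exact ⟨fun h j => h j j.2, fun h j hj => h ⟨j, hj⟩⟩

noncomputable def kvC (L : List ℕ) (u v : ℕ) (W : List ℕ) : Bool :=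
  band (eqV (evR L W u) u) (force (evR L W v) fun w => bor (eqV w v) (eqV w (Nat.xor v u)))

theorem kv_iff {L : List ℕ} {x : ℕ → Co1} (h : Ml rho L x) (u v : ℕ) (W : List ℕ) :
    kvC L u v W = true ↔ ev x W ∈ Kv (fn u) (fn v) := by
  simp only [kvC, band_eq, force_eq, bor_eq, eqV_iff, h.evR, fn_xor]
  rfl

end Cfsg.Agent.XSC.CoO
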