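import Cfsg.Agent.XSC.CoB

set_option autoImplicit false
set_option Elab.async false
set_option maxRecDepth 100000

namespace Cfsg.Agent.XSC.CoU

open Cfsg.Agent.Comp.BN Cfsg.Agent.C1M Cfsg.Spor Cfsg.Agent.XSC.CoO Cfsg.Agent.TT Cfsg.Agent.LES Subgroup

theorem levT_0 : levC val X.I 524287 [] [7] [[9], [10], [11], [12], [13], [14], [15], [16], [17], [18], [0]] [[0, 5, 7, 2, 0], [5, 7, 4, 0], [0, 7, 4, 0], [0, 1, 5, 7, 4, 0], [5, 1, 2], [10, 6, 0, 7, 2, 1, 0], [1, 10, 0], [9, 1, 0, 7, 1, 0], [0, 4, 9, 7, 1, 0], [9, 1, 0, 7, 2, 0], [8, 5, 7, 4, 0], [7, 5, 2], [10, 5, 2], [9, 8, 0, 7, 4, 1, 0], [9, 0, 7, 0], [0, 5, 2, 9, 7, 1, 0], [7, 5, 1, 2], [5, 7, 1, 4, 0], [1, 10, 7, 0], [2, 5, 2, 9, 7, 1, 0], [5, 7, 1, 0, 7, 2, 0], [7, 5, 7, 4, 0], [1, 0, 4, 9, 7, 0], [5, 6, 0, 7, 2, 1, 0], [10, 5, 7, 2, 1, 0], [9, 0, 7, 4, 1, 0], [7, 0], [8, 1, 0, 7, 2, 1, 0], [7, 5, 7, 2, 1, 0], [10, 1, 0, 7,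 2, 1, 0], [10, 0], [0, 5, 4, 9, 7, 0], [3, 10, 5, 2], [6, 0, 7, 2, 1, 0], [0, 4, 10, 7, 0], [2, 5, 4, 9, 7, 1, 0], [0, 5, 10, 7, 2, 0], [10, 5, 7, 4, 0], [7, 1, 0, 7, 2, 0], [9, 0, 7, 4, 0], [1, 0], [9, 7, 0, 7, 1, 0], [5, 2], [0, 7, 3, 2, 1, 0], [5, 7, 4, 1, 0], [5, 9, 7, 0], [9, 7, 0, 7, 4, 1, 0], [10, 9, 0, 7, 0], [5, 9, 7, 1, 0], [8, 5, 7, 2, 1, 0], [5, 9, 1, 0, 7, 2, 0], [9, 8, 0, 7, 0], [1, 0, 7, 3, 2, 1, 0], [7, 1, 0], [5, 7, 2, 1, 0], [0, 4, 9, 7, 0], [8, 5, 1, 0, 7, 2, 1, 0], [9, 2, 5, 7, 2, 1, 0], [1, 0, 7, 5, 2], [0, 5, 9, 7, 4, 1, 0], [0], [1, 0, 7, 2, 1, 0], [10, 7, 0], [6, 0, 7, 1, 4, 0], [5, 7, 1, 2, 0], [9, 2, 5, 7, 2, 0], [9, 7, 2, 1, 0], [], [9, 7, 1, 2, 0], [6, 1, 0, 7, 1, 0], [1, 7, 2, 5, 7, 4, 0], [9, 8, 1, 0, 7, 0], [1, 4, 0], [0, 5, 7, 4, 1, 0], [7, 2, 0], [6, 0, 7, 3, 2, 1, 0], [8, 5, 7, 1, 2, 0], [7, 5, 1, 0, 7, 2, 0], [1, 2, 9, 7, 0], [5, 9, 10, 7, 2,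 0], [0, 7, 0], [2, 9, 7, 1, 0], [4, 9, 1, 0, 7, 0], [0, 5, 4, 9, 7, 1, 0], [9, 1, 0, 7, 0], [6, 0, 7, 5, 2], [4, 10, 7, 0], [2, 9, 0, 7, 1, 0], [4, 0], [7, 5, 7, 2, 0], [2, 9, 0, 7, 4, 0], [4, 9, 7, 4, 0], [1, 0, 7, 4, 0], [9, 7, 0], [2, 1, 0, 7, 5, 2], [7, 0, 7, 0], [5, 2, 9, 7, 0], [10, 7, 1, 2, 0], [5, 2, 9, 7, 1, 0], [0, 7, 4, 1, 0], [7, 3, 2, 1, 0], [7, 2, 5, 7, 4, 0], [10, 7, 4, 1, 0], [8, 2, 5, 7, 2, 0], [5, 10, 7, 2, 0], [5, 1, 2, 9, 7, 0], [7, 1, 0, 7, 0], [1, 2, 0], [2, 5, 7, 1, 4, 0], [1, 0, 7, 1, 0], [5, 10, 1, 2, 0], [10, 0, 5, 7, 4, 0], [6, 5, 7, 2, 0], [7, 3, 4, 1, 0], [7, 0, 5, 7, 4, 0], [4, 1, 0], [2, 1, 0], [10, 1, 0, 7, 0], [5, 9, 7, 1, 2, 0], [10], [9, 10, 7, 1, 2, 0], [8, 1, 0, 7, 1, 0], [1, 4, 9, 7, 0], [5, 8, 2, 5, 7, 2, 0], [9, 0, 5, 7, 4, 0], [10, 7, 2, 0], [1, 5, 0, 7, 4, 0], [7, 1, 5, 7, 4, 0], [10, 1, 4, 0], [8, 1, 0, 7, 4, 0], [5, 10, 7, 1, 2, 0], [5,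 9, 7, 2, 0], [10, 0, 7, 0], [9, 7, 1, 4, 0], [5, 9, 7, 2, 1, 0], [2, 1, 5, 7, 4, 0], [2, 9, 7, 4, 0], [10, 9, 1, 0, 7, 0], [1, 2, 9, 0, 7, 0], [1, 5, 7, 4, 0], [7, 4, 0], [9, 0, 7, 1, 0], [0, 7, 5, 2], [4, 10, 0], [8, 0, 7, 4, 1, 0], [9, 0, 7, 1, 4, 0], [10, 1, 0, 7, 4, 0], [9, 7, 1, 0], [8, 0, 7, 0], [4, 1, 0, 7, 0], [10, 9, 7, 0], [7, 2, 5, 7, 2, 1, 0], [4, 5, 9, 7, 1, 0], [5, 0, 7, 4, 0], [10, 0, 7, 4, 1, 0], [5, 9, 7, 1, 4, 0], [5, 7, 2, 0], [7, 4, 1, 0], [2, 6, 5, 7, 2, 0], [7, 1, 2, 0], [0, 5, 7, 4, 0], [3, 2, 1, 0], [8, 2, 5, 7, 2, 1, 0], [7, 0, 7, 1, 0], [1, 0, 7, 0], [5, 9, 10, 7, 1, 2, 0], [10, 4, 1, 0], [2, 1, 10, 0], [8, 5, 7, 2, 0], [9, 2, 9, 7, 0], [8, 0, 5, 7, 4, 0], [2, 0, 5, 7, 4, 0], [8, 1, 0, 7, 0], [10, 1, 2, 0], [4, 2, 5, 7, 4, 0], [9, 4, 2, 5, 7, 4, 0], [8, 6, 0, 7, 2, 1, 0], [1, 10, 0, 7, 2, 0], [7, 0, 5, 7, 2, 0], [10, 0, 7, 1, 2, 0], [7, 0, 7, 4, 0], [0,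 7, 2, 1, 0], [8, 0, 7, 2, 1, 0], [7, 0, 4, 9, 7, 0], [6, 2, 5, 7, 2, 0], [0, 5, 7, 1, 4, 0], [7, 9, 0, 7, 2, 1, 0], [0, 5, 7, 2, 1, 0], [7, 0, 7, 2, 1, 0], [3, 6, 0, 7, 4, 0], [3, 7, 0, 7, 2, 1, 0], [5, 1, 0, 7, 2, 1, 0], [7, 0, 7, 1, 2, 0], [1, 0, 7, 2, 0], [2, 0, 1, 10, 7, 0], [0, 7, 1, 2, 0], [9, 0, 7, 1, 2, 0], [0, 5, 9, 7, 2, 0], [7, 9, 0, 7, 4, 1, 0], [9, 0, 7, 2, 1, 0], [1, 7, 0, 7, 2, 1, 0], [6, 0, 7, 1, 2, 0], [8, 0, 5, 7, 2, 1, 0], [0, 8, 5, 7, 2, 1, 0], [9, 5, 1, 0, 7, 2, 0], [2, 1, 0, 7, 1, 0], [2, 5, 7, 2, 0], [10, 6, 0, 7, 4, 0], [6, 0, 7, 4, 1, 0], [7, 6, 0, 7, 4, 0], [0, 8, 5, 7, 2, 0], [0, 7, 1, 0], [3, 10, 4, 1, 0], [2, 1, 10, 7, 0], [7, 5, 0, 7, 4, 0], [5, 4, 9, 7, 1, 0], [5, 9, 7, 4, 1, 0], [2, 0], [1, 2], [7, 1, 4, 0], [9, 7, 2, 0], [9, 7, 5, 2], [8, 0, 7, 2, 0], [8, 0, 7, 1, 0], [2, 9, 0, 7, 0], [4, 9, 7, 0], [0, 5, 2, 9, 7, 0], [0, 7, 1, 4, 0], [10, 2, 5,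 7, 2, 1, 0], [5, 1, 0, 7, 2, 0], [2, 9, 1, 0, 7, 0], [4, 9, 7, 1, 0], [2], [0, 5, 7, 1, 2, 0], [0, 8, 0, 7, 0], [10, 2, 9, 7, 0], [8, 5, 1, 0, 7, 2, 0], [10, 0, 7, 2, 0], [0, 1, 10, 7, 0], [6, 0, 7, 4, 0], [2, 5, 10, 7, 2, 0], [0, 6, 5, 7, 2, 0], [10, 6, 0, 7, 4, 1, 0], [8, 6, 0, 7, 4, 0], [5, 9, 7, 4, 0], [7, 2, 1, 0], [2, 5, 7, 4, 0], [3, 4, 1, 0], [10, 7, 1, 4, 0], [9, 10, 7, 2, 0], [9, 5, 9, 7, 0], [10, 2, 0], [1, 10, 2], [5, 4, 9, 7, 0], [9, 5, 0, 7, 4, 0], [9, 7, 4, 1, 0], [7, 0, 7, 2, 0], [6, 0, 7, 1, 0], [7, 2, 5, 7, 2, 0], [7, 0, 7, 4, 1, 0], [0, 6, 0, 7, 4, 1, 0], [5, 1, 10, 0, 7, 2, 0], [2, 5, 7, 2, 1, 0], [9, 7, 4, 0], [0, 7, 2, 0], [1, 2, 5, 7, 4, 0], [0, 5, 10, 7, 1, 2, 0], [2, 9, 7, 2, 0], [2, 9, 7, 0], [10, 2]] 1 270 = true :=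
  by decide +kernel

theorem levT_1 : levC val X.I 524287 [[7]] [5] [[18], [13], [4, 1], [13, 14], [14, 13, 12], [10, 13, 10], [16, 1, 14, 16, 3, 1]] [[5, 3, 1, 6], [4], [3, 5, 2, 4], [4, 0, 4, 6], [5, 4, 6, 4], [6, 1], [2, 4, 1], [5, 3, 6, 3], [6], [4, 1, 6], [0, 6, 2, 4], [5, 1, 6, 3], [4, 6, 1, 6], [0, 6, 4, 1], [6, 2, 4, 3], [5, 2, 4, 3], [2, 4], [5, 4, 6, 4, 1], [3, 5, 4], [6, 4, 3, 1], [4, 1], [4, 0, 6, 4], [6, 6, 6, 1], [3, 6, 5, 4], [6, 6, 6], [4, 3, 6, 4], [5, 6, 3, 6], [0, 6, 4], [4, 1, 6, 1], [6, 4, 3], [5, 4, 3], [5, 4, 6, 3], [4, 6], [5, 6, 2, 4], [0, 1, 6, 1], [3, 5, 6], [6, 1, 2, 4], [4, 3, 1], [5, 6, 1], [0, 4, 6], [1, 0, 6, 1], [0, 3, 6, 3], [0, 5, 3, 6, 3], [5, 6, 4, 1], [3, 6, 3], [6, 3, 1], [6, 5, 4], [0, 1, 6, 4], [1, 5, 4, 3], [6, 5, 2, 4, 1], [6, 2, 4], [6, 4, 1], [5, 1, 0, 6, 3], [0, 1, 6, 3], [6, 1, 6], [1, 6, 3], [1, 6], [0, 1, 6, 4, 1], [4, 0, 1, 6, 4],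 [4, 0, 6, 1], [0, 6, 3], [3, 1], [3, 5, 6, 1], [1, 2, 4], [5, 6, 5, 4], [5, 6], [1, 3, 5, 4], [4, 3], [4, 4, 0, 6, 1], [4, 2, 0, 6], [1, 0, 6], [0, 6, 4, 3], [5, 6, 4], [0, 5, 0, 6], [6, 3], [2, 4, 3, 1], [0, 4, 6, 1], [1, 0, 6, 3], [5, 0, 1, 6, 3], [4, 6, 4, 3], [4, 3, 6], [0, 1, 6], [4, 3, 1, 6], [4, 6, 1], [0, 3, 6], [6, 5, 2, 4], [6, 5, 4, 1], [1, 5, 2, 4, 3], [6, 4], [5, 0, 3, 6, 3], [6, 5, 0, 6], [6, 2, 4, 1], [3, 6, 4], [6, 3, 6], [4, 0, 3, 6], [6, 5, 6], [1, 6, 1], [3], [0, 6, 4, 3, 1], [0, 6, 3, 1], [4, 0, 6], [6, 5, 3, 6, 3], [2, 4, 3], [1, 0, 6, 4, 3], [6, 6, 5, 6], [6, 1, 0, 6], [4, 4, 0, 6], [1, 2, 4, 1], [1, 6, 5, 4, 1], [5, 2, 4], [4, 6, 3], [4, 6, 4, 1], [1, 4, 6], [5, 4, 1], [], [5, 0, 6, 4], [0, 5, 6, 1], [0, 6, 1], [0, 6, 5, 4, 1], [1, 6, 4, 1], [1, 6, 4], [1], [0, 6], [0, 5, 6], [0, 6, 5, 4], [3, 1, 6], [3, 4, 1, 6], [5, 4], [4, 6, 3, 1], [5, 0, 6], [2, 0, 6,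 1], [5, 2, 4, 1], [6, 6], [4, 6, 4], [3, 6, 1], [1, 6, 5, 4], [3, 6], [2, 0, 6], [5, 0, 6, 1], [6, 6, 1]] 270 37800 = true :=
  by decide +kernel

theorem levT_2 : levC val X.I 524287 [[5], [7]] [17] [[1], [7], [13, 12], [8, 4], [18, 8, 5], [13, 18, 13], [12, 15, 13, 10], [12, 10, 7, 2], [1, 16, 13, 18, 16, 13, 2]] [[6], []] 37800 75600 = true :=
  by decide +kernel

theorem levT_3 : levC val X.I 524287 [[17], [5], [7]] [1] [[1], [7], [13, 12], [8, 4], [18, 8, 5], [13, 18, 13], [12, 4, 10, 7], [16, 13, 18, 16, 13, 2]] [[6, 2, 2], [3, 2, 2, 6], [2, 4, 7, 2], [2, 2], [4, 7, 2, 2], [4, 2, 7, 2], [5, 2, 7, 2], [2, 6, 2], [6, 3, 2, 2], [2, 2, 6], [3, 2, 2], [5, 7, 2, 2], [2, 2, 4, 7], [4, 2, 7, 3, 2], [2, 6, 3, 2], [2, 4, 2, 7], [2, 7, 6], [7, 7, 7], [3, 2], [4, 7, 6, 2], [5, 7, 4, 7], [7, 3, 2], [7, 4, 7, 6], [2, 2, 6, 3, 2], [2, 7, 2], [5, 4, 2, 7, 2], [4, 7], [5, 7], [5, 7, 6], [2,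 6, 2, 2], [], [4, 7, 3, 2, 6], [6], [6, 2, 6], [7], [7, 6, 2, 6], [4, 2, 7], [2], [7, 2], [5, 4, 7], [4, 7, 6], [2, 2, 6, 2], [2, 7, 3, 2], [7, 2, 2, 6], [7, 5, 7], [7, 5, 7, 6], [7, 4, 7], [7, 7], [7, 7, 6], [6, 3, 2, 6], [4, 7, 2, 6], [7, 5, 4, 7], [3, 2, 6], [2, 4, 7], [6, 3, 2], [4, 7, 2], [7, 6, 2], [2, 7, 2, 6], [5, 4, 7, 6], [7, 7, 7, 6], [7, 2, 2], [7, 3, 2, 6], [4, 2, 7, 6], [2, 6], [4, 7, 3, 2], [2, 7], [7, 6, 2, 2], [6, 2], [2, 2, 7, 2], [7, 6], [7, 3, 2, 2], [7, 2, 6]] 75600 5443200 = true :=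
  by decide +kernel

theorem levT_4 : levC val X.I 524287 [[1], [17], [5], [7]] [3] [[17], [4], [7], [8, 7], [4, 1], [5, 1], [3, 1], [18, 8], [13, 18, 5, 13, 1], [18, 12, 18, 12, 7], [13, 12, 18, 12, 13, 3], [12, 13, 18, 13, 12, 8, 3], [13, 12, 15, 12, 3, 13, 18, 15], [15, 12, 15, 13, 12, 10, 13, 1, 10]] [[13, 1], [], [13, 12], [12], [13], [1], [13, 12, 1], [12, 1]] 5443200 43545600 = true :=
  by decide +kernel

theorem levT_5 : levC val X.I 524287 [[3], [1], [17], [5], [7]] [2] [[17], [18], [1], [8], [7], [7, 5], [7, 3], [12, 18, 12], [13, 18, 5, 13, 1], [12, 13, 18, 13, 12], [13, 12, 18, 1, 12, 13]] [[7], [1], [10, 9, 7], [10], [7, 2], [9], [10, 7, 1], [10, 2], [10, 7, 2], [10, 1], [10, 7], [10, 9], [7, 1], [], [9, 7], [2]] 43545600 696729600 = true :=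
  by decide +kernel

theorem levT_6 : levC val X.I 524287 [[2], [3], [1], [17], [5], [7]] [4] [[8], [17], [3], [5], [7], [18, 12, 13, 18, 13, 12, 1], [13, 18, 3, 13, 12, 18, 12]] [[2], [6, 5, 2], [], [6, 5], [6, 2], [5], [6], [5, 2]] 696729600 5573836800 = true :=
  by decide +kernel

theorem levT {G : Type*} [Group G] [Finite G] {t : ℕ → G × Co1} (o : Ov t m val X.I) (h : Gr (genOn t 524287)) :
    Lev t 524287 [[4], [2], [3], [1], [17], [5], [7]] 5573836800 :=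
  (((((((lev_nil t 524287).step o h levT_0).step o h levT_1).step o h levT_2).step o h levT_3).step o h levT_4).step o h levT_5).step o h levT_6

def PW : Pres := ⟨[0, 1, 2, 3, 4, 5, 6, 7, 8, 9, 10, 11],
  [[0, 2, 0, 2],
   [0, 4, 0, 4],
   [0, 6, 0, 6],
   [0, 7, 0, 7],
   [0, 9, 0, 9],
   [0, 10, 0, 10],
   [1, 5, 1, 5],
   [1, 6, 1, 6],
   [1, 8, 1, 8],
   [1, 10, 1, 10],
   [2, 6, 2, 6],
   [2, 9, 2, 9],
   [2, 10, 2, 10],
   [3, 4, 3, 4],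
   [3, 6, 3, 6],
   [3, 9, 3, 9],
   [3, 10, 3, 10],
   [4, 7, 4, 7],
   [4, 9, 4, 9],
   [4, 10, 4, 10],
   [4, 11, 4, 11],
   [5, 6, 5, 6],
   [5, 9, 5, 9],
   [5, 10, 5, 10],
   [6, 7, 6, 7],
   [6, 9, 6, 9],
   [6, 10, 6, 10],
   [7, 9, 7, 9],
   [7, 10, 7, 10],
   [8, 10, 8, 10],
   [9, 10, 9, 10],
   [9, 11, 9, 11],
   [0, 4, 11, 0, 11],
   [3, 4, 11, 3, 11],
   [4, 6, 4, 6, 10],
   [8, 9, 8, 9, 10],
   [9, 10, 11, 10, 11],
   [0, 1, 0, 1, 0, 1],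
   [0, 1, 3, 0, 1, 3],
   [0, 1, 3, 4, 1, 4],
   [0, 1, 4, 3, 1, 4],
   [0, 2, 5, 0, 2, 5],
   [0, 2, 5, 2, 0, 5],
   [0, 3, 0, 3, 0, 3],
   [0, 3, 5, 3, 0, 5],
   [0, 3, 8, 3, 0, 8],
   [0, 3, 11, 3, 0, 11],
   [0, 4, 5, 0, 4, 5],
   [0, 4, 5, 4, 0, 5],
   [0, 4, 8, 0, 4, 8],
   [0, 4, 8, 4, 0, 8],
   [0, 5, 0, 5, 9, 10],
   [0, 5, 0, 5, 10, 9],
   [0, 9, 0, 11, 9, 11],
   [1, 2, 1, 2, 1, 2],
   [1, 2, 3, 1, 2, 3],
   [1, 3, 1, 3, 1, 3],
   [1, 5, 1, 9, 5, 9],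
   [1, 6, 1, 7, 6, 7],
   [1, 6, 1, 9, 6, 9],
   [2, 3, 2, 3, 2, 3],
   [2, 3, 5, 3, 2, 5],
   [2, 4, 5, 4, 2, 5],
   [2, 5, 2, 5, 9, 10],
   [2, 5, 2, 5, 10, 9],
   [2, 6, 2, 7, 6, 7],
   [2, 9, 2, 11, 9, 11],
   [3, 4, 3, 7, 4, 7],
   [3, 4, 5, 3, 4, 5],
   [3, 4, 5, 4, 3, 5],
   [3, 4, 8, 3, 4, 8],
   [3, 4, 8, 4, 3, 8],
   [3, 5, 3, 5, 9, 10],
   [3, 5, 3, 5, 10, 9],
   [3, 6, 3, 7, 6, 7],
   [3, 9, 3, 11, 9, 11],
   [4, 5, 4, 5, 9, 10],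
   [4, 5, 4, 5, 10, 9],
   [5, 6, 5, 7, 6, 7],
   [5, 6, 8, 5, 6, 8],
   [5, 6, 8, 6, 5, 8],
   [5, 6, 11, 5, 6, 11],
   [5, 6, 11, 6, 5, 11],
   [5, 9, 5, 11, 9, 11],
   [6, 9, 6, 11, 9, 11],
   [7, 9, 7, 11, 9, 11],
   [8, 9, 8, 11, 10, 11],
   [8, 11, 8, 11, 8, 11],
   [0, 6, 0, 8, 5, 11, 5, 11, 8],
   [0, 8, 7, 8, 0, 8, 7, 9, 8],
   [1, 2, 1, 8, 2, 1, 8, 2, 8],
   [1, 2, 7, 2, 1, 8, 2, 7, 2, 8],
   [2, 3, 2, 4, 2, 11, 3, 2, 4, 11],
   [2, 4, 2, 7, 2, 4, 2, 11, 7, 11],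
   [1, 4, 1, 11, 1, 4, 1, 11, 1, 4, 1, 11, 1, 4, 1, 11, 1, 4, 1, 11],
   [1, 3, 8, 11, 1, 3, 8, 11, 1, 3, 8, 11, 1, 3, 8, 11, 1, 3, 8, 11, 1, 3, 8, 11, 1, 3, 8, 11, 1, 3, 8, 11]]⟩

noncomputable def sAW_t : FT := (.node (.node (.node (.node (.node (.node (.node (.node (.leaf (nat_lit 0x3000000000120000000000001000000)) (.leaf (nat_lit 0x10d0001f10000d5000000000120000043000000000015))) (.node (.leaf (nat_lit 0x41000004000028)) (.leaf (nat_lit 0xc1000004000057)))) (.node (.node (.leaf (nat_lit 0x7500006d00002d00001500002e00004100006e00007600000200010800001e00000700001e)) (.leaf (nat_lit 0x27200027e00027500013d00014e000004000060000053000000000054))) (.node (.leaf (nat_lit 0x61000001000036)) (.leaf (nat_lit 0x31200037d0000000001200000580000090000c3))))) (.node (.node (.node (.leaf (nat_lit 0x2d00001500002900000100001900000100002900002e00000700010800000c00000600000c)) (.leaf (nat_lit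 0x1b600023d000181000000000120000039000000000036))) (.node (.leaf (nat_lit 0x13d0000ad0000c90000cd0000ae00000200008700005000000400002c)) (.leaf (nat_lit 0x33d0002b50002f20000010000180000d00000020000bd)))) (.node (.node (.leaf (nat_lit 0xb900005100003900003500005200000100007300002f000004000015)) (.leaf (nat_lit 0x2bd00028900013d00014a0002b20000040000750000ae0000050000ad))) (.leaf (nat_lit 0x7100000100003e))))) (.node (.node (.node (.node (.leaf (nat_lit 0x1600000200001600000200001e00000500009900000000000a000000)) (.leaf (nat_lit 0x1ba00021d00000000012000003a00000900003a))) (.node (.leaf (nat_lit 0x4900000500002b)) (.leaf (nat_lit 0xc90000040000a4)))) (.node (.node (.leaf (nat_lit 0x9d00009100009e000001000000000028000001000028)) (.leaf (nat_lit 0x1890001aa00029a00029e00000000006300006100000c0000a6))) (.leaf (nat_lit 0x19d0000d900009500009e0000fe0000000000a5000068000004000040)))) (.node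 (.node (.node (.leaf (nat_lit 0x19000008000015)) (.leaf (nat_lit 0x259000129000121000116000256000000000076000097000001000096))) (.node (.leaf (nat_lit 0x5900000100002e)) (.leaf (nat_lit 0x33500035d0002aa0000000001200000cc0000000000ab)))) (.node (.node (.leaf (nat_lit 0x39000009000019)) (.leaf (nat_lit 0x2d10001550000b100013e0002760000050000750000b500000200009c))) (.leaf (nat_lit 0x1dd0001010000a10000fe0001a2000000000073000078000001000068)))))) (.node (.node (.node (.node (.node (.leaf (nat_lit 0x13000000000120000000000005000000)) (.leaf (nat_lit 0x1fe0001f60001fd000000000120000061000009000061))) (.node (.leaf (nat_lit 0x4500000300002a)) (.leaf (nat_lit 0xc5000009000058)))) (.node (.node (.leaf (nat_lit 0x7600008d00000000012000001c00000100001c)) (.leaf (nat_lit 0x28d00013d0001460000010000000000a4000001000052))) (.node (.leaf (nat_lit 0x1390000a90000560000d60001820001860001810000d50000aa00000700010800004f00000000002b))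 (.leaf (nat_lit 0x15e00038d00012100000000012000002d00000000002b))))) (.node (.node (.node (.leaf (nat_lit 0x1500000200000c)) (.leaf (nat_lit 0x24d0001150000c900011600024e00000000006f000094000002000094))) (.node (.leaf (nat_lit 0x5500000100002d)) (.leaf (nat_lit 0x2fd0002ca00034600034d00031d00032a0000000000870000be0000000000cb)))) (.node (.node (.leaf (nat_lit 0xc10000510000450000390000520000020000a600002f000003000015)) (.leaf (nat_lit 0xb5000005000055))) (.leaf (nat_lit 0x75000003000040))))) (.node (.node (.node (.node (.leaf (nat_lit 0x2d00001100002e00000100003c00000c00000500000c)) (.leaf (nat_lit 0x6600022900000000012000001500000a000015))) (.node (.leaf (nat_lit 0x11d0000ce0000a90000d20000c50000d20000c10000d200012e00012100000800011400004800000000002b)) (.leaf (nat_lit 0x32d0002b900031a0000010000000000cc0000010000c7)))) (.node (.node (.leaf (nat_lit 0x2d00000200002c)) (.leaf (nat_lit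 0xad000002000053))) (.leaf (nat_lit 0x1a90000d50000aa0000ae00014e00000100010500006b000009000054)))) (.node (.node (.node (.leaf (nat_lit 0x6d00002d00002900002e00006e00000000010500001c00000c00001c)) (.leaf (nat_lit 0x26d0001210000c90000ae00014a00000100009300009c000001000053))) (.node (.leaf (nat_lit 0x16d0000bd00016e00000100001800005c00000200005c)) (.leaf (nat_lit 0x36e00034d00036500036a00033e0000000001200000550000000000d0)))) (.node (.node (.leaf (nat_lit 0xe50000690000650000550000ba00000200009900003a00000600002f)) (.leaf (nat_lit 0xbd000009000055))) (.leaf (nat_lit 0x1d20001e90001ee00019d000000000120000040000000000036))))))) (.node (.node (.node (.node (.node (.node (.leaf (nat_lit 0xb000000000120000000000003000000)) (.leaf (nat_lit 0x19e0001fd000000000120000036000003000061))) (.node (.leaf (nat_lit 0x4300000200002a)) (.leaf (nat_lit 0xc3000002000058)))) (.node (.node (.leaf (nat_lit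 0x7d00007100007e00000000003c00001e00000c00001e)) (.leaf (nat_lit 0xa3000002000050))) (.node (.leaf (nat_lit 0x1810000d90000950000910000da000001000073000061000004000036)) (.leaf (nat_lit 0x26d00012a00025a00026a0002e60002d900030a0003860003820002da0002e100027e00026d00012a00025a00026a0002e60002d900030a0003860003820002da0002e100027e00026d00012a00025a00026a0002e60002d900030a00038600000300011d00009c0000000000c3))))) (.node (.node (.node (.leaf (nat_lit 0x2d00000900001100000900002500000900001100000900002e00000900011700000c00000800000c)) (.leaf (nat_lit 0x62000245000000000120000015000008000015))) (.node (.leaf (nat_lit 0x5300000500002c)) (.leaf (nat_lit 0x3450002c90002f600033a0003310000020000730000d20000020000c7)))) (.node (.node (.leaf (nat_lit 0xa90000ba0000c50000aa00000200006100002b00000100002b)) (.leaf (nat_lit 0x2c500015100015a0000010000000000b2000001000057))) (.leaf (nat_lit 0x73000001000040)))))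 (.node (.node (.node (.node (.leaf (nat_lit 0x23000000000120000000000009000000)) (.leaf (nat_lit 0xe60002260000b900000000012000001a000000000015))) (.node (.leaf (nat_lit 0x1210000cd000122000001000027000049000004000049)) (.leaf (nat_lit 0xcb0000010000ab)))) (.node (.node (.leaf (nat_lit 0x2b00000c000015)) (.leaf (nat_lit 0xab000002000052))) (.leaf (nat_lit 0x6b00000c000036)))) (.node (.node (.node (.leaf (nat_lit 0x6500005d00006600000000005a00001a00000b00001a)) (.leaf (nat_lit 0x25d00026600025e00000000003c00009700000c000097))) (.node (.leaf (nat_lit 0x1650000b500015e00000000003c00005a00000c000058)) (.leaf (nat_lit 0x32e0003610002fa0000000001200000ae0000000000be)))) (.node (.node (.leaf (nat_lit 0xe50000650000ba00000000000c00003a00000a00002f)) (.leaf (nat_lit 0x2de0002e50002690002e60002dd000001000105000059000009000059))) (.leaf (nat_lit 0x1da0001e20001e50001da0001a10001ca000000000087000075000000000073))))))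 (.node (.node (.node (.node (.node (.leaf (nat_lit 0x1b000000000120000000000007000000)) (.leaf (nat_lit 0x16e00021500000000012000002f00000900002f))) (.node (.leaf (nat_lit 0x1150000ae0000b200000000001800004600000900002d)) (.leaf (nat_lit 0xc70000030000a3)))) (.node (.node (.leaf (nat_lit 0x7e00008d00000000012000001c00000500001c)) (.leaf (nat_lit 0x29500013d00014a0002860001ad0000020000940000a600000500006b))) (.node (.leaf (nat_lit 0x1210000ca00019600012200012500000000008d000049000006000049)) (.leaf (nat_lit 0x11600039600000000012000002b00000200002c))))) (.node (.node (.node (.leaf (nat_lit 0x5100004d000052000000000015000015000007000015)) (.leaf (nat_lit 0x97000002000049))) (.node (.leaf (nat_lit 0x5700000300002d)) (.leaf (nat_lit 0x34d0003320003390002fd0003020000010000870000d20000010000c1)))) (.node (.node (.leaf (nat_lit 0xd500005100006e00000100001800003600000200001c)) (.leaf (nat_lit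 0x2d100015500015e0000010000270000b5000004000058))) (.leaf (nat_lit 0x1d60001d10000fd0000a600017d0000a50000fe0001d200000400010e000068000009000075))))) (.node (.node (.node (.node (.leaf (nat_lit 0x2d00001100000d00002e00000400006300000c00000400000c)) (.leaf (nat_lit 0x1c600023500000000012000006100000a000061))) (.node (.leaf (nat_lit 0x4f00000600002b)) (.leaf (nat_lit 0x32d0002b500015500015a0002f60000000000a50000cc0000040000be)))) (.node (.node (.leaf (nat_lit 0x2f000001000015)) (.leaf (nat_lit 0x2b50001510000b100013e00028a00000100006f0000ae0000010000a3))) (.leaf (nat_lit 0x6f00000900003a)))) (.node (.node (.node (.leaf (nat_lit 0x7500006d00003500003900006e00000200008700001e00000400001c)) (.leaf (nat_lit 0x26d0001210000cd0000ae00014a0000010000d200009c000004000053))) (.node (.leaf (nat_lit 0x11100010a0001760001720001750001090000000000a200004500000000002a)) (.leaf (nat_lit 0x2f20003750000000001200000550000090000ae))))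 (.node (.node (.leaf (nat_lit 0xf50000690000650000d600000200006900003e00000a000036)) (.leaf (nat_lit 0x2f50001590000b10001460002aa0000000000a20000be0000030000ab))) (.leaf (nat_lit 0xfe0001f10000d900000000012000002800000000001c)))))))) (.node (.node (.node (.node (.node (.node (.node (.leaf (nat_lit 0x7000000000120000000000002000000)) (.leaf (nat_lit 0x9e0001f900000000012000001c00000300001c))) (.node (.leaf (nat_lit 0x10100009d00009500009e0001020000010000b4000041000003000041)) (.leaf (nat_lit 0x3010002ca0002cd0002ad0002920000020000730000c10000020000a4)))) (.node (.node (.leaf (nat_lit 0x7600008200007500000000000600001c00000700001c)) (.leaf (nat_lit 0x1b100028200000000012000006b000009000053))) (.node (.leaf (nat_lit 0x1810000dd000182000000000006000061000007000061)) (.leaf (nat_lit 0x37e00031600037d0000000001200000c300000c0000c3))))) (.node (.node (.node (.leaf (nat_lit 0x3a00002d00000900001100000900000d00000900002e00003100000800011400000c00000300000c))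 (.leaf (nat_lit 0xe20002410000d5000000000120000019000000000015))) (.node (.leaf (nat_lit 0x5200000300002c)) (.leaf (nat_lit 0xd20000040000b2)))) (.node (.node (.leaf (nat_lit 0xb900005100003900003100005200000100007600002f000005000015)) (.leaf (nat_lit 0xb2000003000055))) (.leaf (nat_lit 0x1c10000f900018200000000000c00007100000a000061))))) (.node (.node (.node (.node (.leaf (nat_lit 0x1f000000000120000000000008000000)) (.leaf (nat_lit 0xb900005a0000ba00021a00012e00019a00012d0000f200022200000300010800002f00000000003a))) (.node (.leaf (nat_lit 0x1210000c9000122000001000003000049000001000049)) (.leaf (nat_lit 0x32100028d0001410001460002ae0000010000b40000c90000030000ac)))) (.node (.node (.leaf (nat_lit 0x2a000009000028)) (.leaf (nat_lit 0x29e0002a200020a00018e00020a00018a00020a0001aa00029a0000080001140000a60000030000a6))) (.leaf (nat_lit 0x19d0000d900006d00004500004900004500006e0000da00019e000003000111000068000008000068))))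 (.node (.node (.node (.leaf (nat_lit 0x1a00000a000015)) (.leaf (nat_lit 0x25200025e00025900012d0000bd0000c500005100002d00000500001100000500002e0000520000c60000bd00012e00025a00025d00025100000000011a00009400000c000094))) (.node (.leaf (nat_lit 0x5a00000500002e)) (.leaf (nat_lit 0x3320003610003550000000001200000c70000000000be)))) (.node (.node (.leaf (nat_lit 0x3a00000100001a)) (.leaf (nat_lit 0x2d100015100011a0002560002620000000000930000b5000009000097))) (.leaf (nat_lit 0x1dd0001050001010000fe0001d20000010000a6000078000004000075)))))) (.node (.node (.node (.node (.node (.leaf (nat_lit 0x17000000000120000000000006000000)) (.leaf (nat_lit 0x1750002010000d200000000012000005c00000000002f))) (.node (.leaf (nat_lit 0x4600000200002b)) (.leaf (nat_lit 0x31100016a0002ed0001690003120000000001050000c500000c0000c5)))) (.node (.node (.leaf (nat_lit 0x7a00008d00000000012000001c00000400001c)) (.leaf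 (nat_lit 0xa6000009000050))) (.node (.leaf (nat_lit 0x13a00019100000000012000002b00000600002b)) (.leaf (nat_lit 0xb200039100011600000000012000002c000000000046))))) (.node (.node (.node (.leaf (nat_lit 0x51000041000052000000000012000015000006000015)) (.leaf (nat_lit 0x96000005000046))) (.node (.leaf (nat_lit 0x1510000b100014200013d0000b200000100007300005500000400002d)) (.leaf (nat_lit 0x32a0003520000000001200000ab0000010000be)))) (.node (.node (.leaf (nat_lit 0x36000009000015)) (.leaf (nat_lit 0x2d100015100015e0000010000030000b5000001000058))) (.leaf (nat_lit 0x1d10000fd00009d0000da00019e0000010000a2000075000002000068))))) (.node (.node (.node (.node (.leaf (nat_lit 0x2d00001100000100002e00000400006000000c00000100000c)) (.leaf (nat_lit 0x1c100022d000182000000000120000071000000000061))) (.node (.leaf (nat_lit 0x11e00013100000000012000002b00000300002b)) (.leaf (nat_lit 0x32d0002b50002c60002cd0003260000010000a20000cc0000020000c9))))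 (.node (.node (.leaf (nat_lit 0x2e00000c00002d)) (.leaf (nat_lit 0xae000002000055))) (.leaf (nat_lit 0x6e000001000039)))) (.node (.node (.node (.leaf (nat_lit 0x1e00000100001c)) (.leaf (nat_lit 0x26d0001250001210000ae00013e00000200009400009c000005000050))) (.node (.leaf (nat_lit 0x16d0000bd0000d100005100006e00009e0000a600010a00000500010e00005c000003000043)) (.leaf (nat_lit 0x3420003720002b60000000001200000bd0000000000ae)))) (.node (.node (.leaf (nat_lit 0x3e00000900001a)) (.leaf (nat_lit 0xbe000002000057))) (.leaf (nat_lit 0x1d90001e90001ee000000000120000068000009000068))))))) (.node (.node (.node (.node (.node (.node (.leaf (nat_lit 0xf000000000120000000000004000000)) (.leaf (nat_lit 0x1fe0001a60001fd000000000120000061000008000061))) (.node (.leaf (nat_lit 0x1090000a50000fe000000000018000043000009000040)) (.leaf (nat_lit 0x3090002d60002e10002710002b200000100006f0000c30000010000ad))))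 (.node (.node (.leaf (nat_lit 0x7500007200007600008a00007d00000100006000001e00000000001c)) (.leaf (nat_lit 0xa4000003000050))) (.node (.leaf (nat_lit 0x1810000d90000950000990000da000001000076000061000005000036)) (.leaf (nat_lit 0x38100038a00026d000000000120000058000000000049))))) (.node (.node (.node (.leaf (nat_lit 0x4200002d00001900001500002e0000020000f300000c00000700000c)) (.leaf (nat_lit 0x94000001000046))) (.node (.leaf (nat_lit 0x5400000c00002c)) (.leaf (nat_lit 0x3490003190002890002960002a500029500028a00031a00000400010e0000d20000090000c7)))) (.node (.node (.leaf (nat_lit 0xa90000c20000c50000aa00000200006400002b00000400002b)) (.leaf (nat_lit 0x2c50001550000b10001460002ae0000000000a60000b20000020000ac))) (.leaf (nat_lit 0x1c90000fd0000a10000fe0001ca00000000006f000073000002000073))))) (.node (.node (.node (.node (.leaf (nat_lit 0xc00000c000000)) (.leaf (nat_lit 0xf50002290000d600000000012000003e000000000036)))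 (.node (.leaf (nat_lit 0x1210000a90000c600000000003c00004900000c00002f)) (.leaf (nat_lit 0xcc0000030000ae)))) (.node (.node (.leaf (nat_lit 0x2c00000900002b)) (.leaf (nat_lit 0xac000004000052))) (.leaf (nat_lit 0x1a900018e0001810001aa00000400006000006b00000100006b)))) (.node (.node (.node (.leaf (nat_lit 0x1c00000900000c)) (.leaf (nat_lit 0x9c000009000049))) (.node (.leaf (nat_lit 0x5c00000900002f)) (.leaf (nat_lit 0x34900036500036a0002b50000000001200000d2000000000055)))) (.node (.node (.leaf (nat_lit 0xe50000690000e600000000000f00003a00000b00003a)) (.leaf (nat_lit 0x1650001620002ea00016100016600000300009600005a00000900005a))) (.leaf (nat_lit 0x1d60001e90001cd000000000120000068000000000073)))))) (.node (.node (.node (.node (.node (.leaf (nat_lit 0x1a00001200001a00001100000000006600000000000b000000)) (.leaf (nat_lit 0x1bd0002150000ea00000000012000006f00000000003a))) (.node (.leaf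 (nat_lit 0x4800000300002b)) (.leaf (nat_lit 0x3190002890001410001460002aa0000000000a50000c70000040000ab)))) (.node (.node (.leaf (nat_lit 0x2800000300001c)) (.leaf (nat_lit 0x29500027600027900028600029a0000010000d20000a60000040000a6))) (.leaf (nat_lit 0x68000003000036)))) (.node (.node (.node (.leaf (nat_lit 0x5100003d00005200000000001b00001500000b000015)) (.leaf (nat_lit 0x2590001210000cd00011600024e000000000075000097000005000094))) (.node (.leaf (nat_lit 0x5800000500002d)) (.leaf (nat_lit 0x33600033100034a00035900030500029100000000006f0000c9000000000052)))) (.node (.node (.leaf (nat_lit 0xd90000850000da000000000015000036000007000036)) (.leaf (nat_lit 0x2d10001510000b60001620000030000600000b500000c000059))) (.leaf (nat_lit 0x78000002000041))))) (.node (.node (.node (.node (.leaf (nat_lit 0x2d00001d00002100002e00000400006c00000c00000b00000c)) (.leaf (nat_lit 0x1b50000e10000610000d600018200021200023a00020d00021100000500010b00006e000000000061)))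 (.node (.leaf (nat_lit 0x5000000100002c)) (.leaf (nat_lit 0xd00000090000ae)))) (.node (.node (.leaf (nat_lit 0xb90000510000350000520000ba00000000006f00002f00000200002f)) (.leaf (nat_lit 0x2b50001510001560002b60002b90000000000720000ae0000040000a3))) (.leaf (nat_lit 0x1b90000ed0000e900016e00000200006900006f00000a00005c)))) (.node (.node (.node (.leaf (nat_lit 0x7500006d00003100003500006e00000200009300001e00000500001c)) (.leaf (nat_lit 0x26d00012d00021900012e00026e00000000010500009c00000c00009c))) (.node (.leaf (nat_lit 0x11200017900000000012000002a00000300002a)) (.leaf (nat_lit 0x31100015d0001520003790002c100030e0000000000930000c50000000000c3)))) (.node (.node (.leaf (nat_lit 0x40000002000028)) (.leaf (nat_lit 0x2f50001590000b10000ad0001350000ae0000b200015a00000400010e0000be000009000057))) (.leaf (nat_lit 0x1a10001f100018a000000000120000068000000000061)))))))))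

theorem sAW_s0 : stepsC Cfsg.Agent.XSC.CoU.PW [[0], [1], [2], [3], [4], [5], [6], [7], [8], [9], [10]] sAW_t 231 0 = true :=
  by decide +kernel

theorem sAW_ok : SeqOK Cfsg.Agent.XSC.CoU.PW [[0], [1], [2], [3], [4], [5], [6], [7], [8], [9], [10]] sAW_t 231 :=
  (seqOK_zero Cfsg.Agent.XSC.CoU.PW [[0], [1], [2], [3], [4], [5], [6], [7], [8], [9], [10]] sAW_t).step 231 sAW_s0

theorem sAW_0 : InSub Cfsg.Agent.XSC.CoU.PW [[0], [1], [2], [3], [4], [5], [6], [7], [8], [9], [10]] [11, 1, 7, 1, 11] :=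
  sAW_ok.inSub (z := nat_lit 0x2e00005200024a00005100002d) (by decide +kernel)

theorem sAW_1 : InSub Cfsg.Agent.XSC.CoU.PW [[0], [1], [2], [3], [4], [5], [6], [7], [8], [9], [10]] [11, 1, 9, 1, 11] :=
  sAW_ok.inSub (z := nat_lit 0x2e00005200023200005100002d) (by decide +kernel)

theorem sAW_2 : InSub Cfsg.Agent.XSC.CoU.PW [[0], [1], [2], [3], [4], [5], [6], [7], [8], [9], [10]] [11, 8, 0, 8, 11] :=
  sAW_ok.inSub (z := nat_lit 0x2e00006e00009200006d00002d) (by decide +kernel)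

theorem sAW_3 : InSub Cfsg.Agent.XSC.CoU.PW [[0], [1], [2], [3], [4], [5], [6], [7], [8], [9], [10]] [11, 8, 2, 8, 11] :=
  sAW_ok.inSub (z := nat_lit 0x2e00006e00020600006d00002d) (by decide +kernel)

theorem sAW_4 : InSub Cfsg.Agent.XSC.CoU.PW [[0], [1], [2], [3], [4], [5], [6], [7], [8], [9], [10]] [11, 1, 11, 8, 1, 11, 1, 11] :=
  sAW_ok.inSub (z := nat_lit 0x2e0000520000aa0003990000ad0000a900005100002d) (by decide +kernel)

namespace AW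
noncomputable def m0_0 : ℕ := nat_lit 0xe4

noncomputable def m0_1 : ℕ := nat_lit 0xe04

noncomputable def m0_2 : ℕ := nat_lit 0x20

noncomputable def m0_3 : ℕ := nat_lit 0x40

noncomputable def m0_4 : ℕ := nat_lit 0x20

noncomputable def m0_5 : ℕ := nat_lit 0x4

noncomputable def m0_6 : ℕ := nat_lit 0xe4

noncomputable def net0 : Net := (.cons 8 m0_0 (.cons 4 m0_1 (.cons 2 m0_2 (.cons 1 m0_3 (.cons 2 m0_4 (.cons 4 m0_5 (.cons 8 m0_6 .nil)))))))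

theorem ok0 : Net.ok 16 net0 = true :=
  by decide +kernel

noncomputable def m1_0 : ℕ := nat_lit 0x208

noncomputable def m1_1 : ℕ := nat_lit 0x2

noncomputable def m1_2 : ℕ := nat_lit 0x114

noncomputable def m1_3 : ℕ := nat_lit 0x2

noncomputable def m1_4 : ℕ := nat_lit 0x200

noncomputable def net1 : Net := (.cons 4 m1_0 (.cons 2 m1_1 (.cons 1 m1_2 (.cons 2 m1_3 (.cons 4 m1_4 .nil)))))

theorem ok1 : Net.ok 16 net1 = true :=
  by decide +kernel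

noncomputable def m2_0 : ℕ := nat_lit 0xe4

noncomputable def m2_1 : ℕ := nat_lit 0xe04

noncomputable def m2_2 : ℕ := nat_lit 0x20

noncomputable def m2_3 : ℕ := nat_lit 0x40

noncomputable def m2_4 : ℕ := nat_lit 0x20

noncomputable def m2_5 : ℕ := nat_lit 0x4

noncomputable def m2_6 : ℕ := nat_lit 0xe4

noncomputable def net2 : Net := (.cons 8 m2_0 (.cons 4 m2_1 (.cons 2 m2_2 (.cons 1 m2_3 (.cons 2 m2_4 (.cons 4 m2_5 (.cons 8 m2_6 .nil)))))))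

theorem ok2 : Net.ok 16 net2 = true :=
  by decide +kernel

noncomputable def m3_0 : ℕ := nat_lit 0xe4

noncomputable def m3_1 : ℕ := nat_lit 0xe04

noncomputable def m3_2 : ℕ := nat_lit 0x20

noncomputable def m3_3 : ℕ := nat_lit 0x40

noncomputable def m3_4 : ℕ := nat_lit 0x20

noncomputable def m3_5 : ℕ := nat_lit 0x4

noncomputable def m3_6 : ℕ := nat_lit 0xe4

noncomputable def net3 : Net := (.cons 8 m3_0 (.cons 4 m3_1 (.cons 2 m3_2 (.cons 1 m3_3 (.cons 2 m3_4 (.cons 4 m3_5 (.cons 8 m3_6 .nil)))))))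

theorem ok3 : Net.ok 16 net3 = true :=
  by decide +kernel

noncomputable def m4_0 : ℕ := nat_lit 0xd4

noncomputable def m4_1 : ℕ := nat_lit 0xf02

noncomputable def m4_2 : ℕ := nat_lit 0x12

noncomputable def m4_3 : ℕ := nat_lit 0x4

noncomputable def m4_4 : ℕ := nat_lit 0x2

noncomputable def m4_5 : ℕ := nat_lit 0x2

noncomputable def m4_6 : ℕ := nat_lit 0xd4

noncomputable def net4 : Net := (.cons 8 m4_0 (.cons 4 m4_1 (.cons 2 m4_2 (.cons 1 m4_3 (.cons 2 m4_4 (.cons 4 m4_5 (.cons 8 m4_6 .nil)))))))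

theorem ok4 : Net.ok 16 net4 = true :=
  by decide +kernel

noncomputable def net5 : Net := .nil

theorem ok5 : Net.ok 16 net5 = true :=
  by decide +kernel

noncomputable def net6 : Net := .nil

theorem ok6 : Net.ok 16 net6 = true :=
  by decide +kernel

noncomputable def net7 : Net := .nil

theorem ok7 : Net.ok 16 net7 = true :=
  by decide +kernel

noncomputable def m8_0 : ℕ := nat_lit 0x704

noncomputable def m8_1 : ℕ := nat_lit 0x3102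

noncomputable def m8_2 : ℕ := nat_lit 0x4150

noncomputable def m8_3 : ℕ := nat_lit 0x2000

noncomputable def m8_4 : ℕ := nat_lit 0x4

noncomputable def net8 : Net := (.cons 4 m8_0 (.cons 2 m8_1 (.cons 1 m8_2 (.cons 2 m8_3 (.cons 4 m8_4 .nil)))))

theorem ok8 : Net.ok 16 net8 = true :=
  by decide +kernel

noncomputable def net9 : Net := .nil

theorem ok9 : Net.ok 16 net9 = true :=
  by decide +kernel

noncomputable def net10 : Net := .nil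

theorem ok10 : Net.ok 16 net10 = true :=
  by decide +kernel

noncomputable def m11_0 : ℕ := nat_lit 0xe8

noncomputable def m11_1 : ℕ := nat_lit 0x404

noncomputable def m11_2 : ℕ := nat_lit 0x3110

noncomputable def m11_3 : ℕ := nat_lit 0x5005

noncomputable def m11_4 : ℕ := nat_lit 0x404

noncomputable def m11_5 : ℕ := nat_lit 0xe8

noncomputable def net11 : Net := (.cons 8 m11_0 (.cons 4 m11_1 (.cons 2 m11_2 (.cons 1 m11_3 (.cons 4 m11_4 (.cons 8 m11_5 .nil))))))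

theorem ok11 : Net.ok 16 net11 = true :=
  by decide +kernel

noncomputable def nets : List Net := [net0, net1, net2, net3, net4, net5, net6, net7, net8, net9, net10, net11]

noncomputable def act : Act := netAct' nets
noncomputable def π : ℕ → Equiv.Perm ℕ := netPerm nets

theorem spec : act.Spec 16 π :=
  spec_fast (netAct_spec (AllP.forall (p := fun t => Net.ok 16 t = true) ⟨ok0, ok1, ok2, ok3, ok4, ok5, ok6, ok7, ok8, ok9, ok10, ok11, trivial⟩))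

theorem out : ∀ k, 12 ≤ k → π k = 1 :=
  netPerm_out nets

theorem sat_inv_0 : invC Cfsg.Agent.XSC.CoU.AW.act Cfsg.Agent.XSC.CoU.PW.I 16 4 Cfsg.Agent.XSC.CoU.PW.inv.length [0, 1, 2, 3] = true :=
  by decide +kernel

theorem sat_inv : ∀ k, Cfsg.Agent.XSC.CoU.AW.π (Cfsg.Agent.XSC.CoU.PW.I k) * Cfsg.Agent.XSC.CoU.AW.π k = 1 :=
  inv_of_checks Cfsg.Agent.XSC.CoU.AW.spec (K := 4) (by decide) Cfsg.Agent.XSC.CoU.AW.out [[0, 1, 2, 3]] (by decide) ⟨sat_inv_0, trivial⟩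

theorem sat_rel_0_0 : relsC Cfsg.Agent.XSC.CoU.AW.act Cfsg.Agent.XSC.CoU.PW.I 16 4 [[0, 2, 0, 2], [0, 4, 0, 4], [0, 6, 0, 6], [0, 7, 0, 7], [0, 9, 0, 9], [0, 10, 0, 10], [1, 5, 1, 5], [1, 6, 1, 6], [1, 8, 1, 8], [1, 10, 1, 10], [2, 6, 2, 6], [2, 9, 2, 9], [2, 10, 2, 10], [3, 4, 3, 4], [3, 6, 3, 6], [3, 9, 3, 9], [3, 10, 3, 10], [4, 7, 4, 7], [4, 9, 4, 9], [4, 10, 4, 10], [4, 11, 4, 11], [5, 6, 5, 6], [5, 9, 5, 9], [5, 10, 5, 10], [6, 7, 6, 7], [6, 9, 6, 9], [6, 10, 6, 10], [7, 9, 7, 9], [7, 10, 7, 10], [8, 10, 8, 10], [9, 10, 9, 10], [9, 11, 9, 11], [0, 4, 11, 0, 11], [3, 4, 11, 3, 11], [4, 6, 4, 6, 10], [8, 9, 8, 9, 10], [9, 10, 11, 10, 11], [0, 1, 0, 1, 0, 1], [0, 1, 3, 0, 1, 3], [0, 1, 3, 4, 1, 4], [0, 1, 4, 3, 1, 4], [0, 2, 5, 0, 2, 5], [0, 2, 5, 2, 0, 5], [0, 3, 0, 3, 0, 3], [0, 3, 5, 3, 0, 5], [0, 3, 8, 3, 0, 8], [0, 3, 11, 3, 0, 11], [0, 4, 5, 0, 4, 5], [0, 4, 5, 4, 0,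 5], [0, 4, 8, 0, 4, 8], [0, 4, 8, 4, 0, 8], [0, 5, 0, 5, 9, 10], [0, 5, 0, 5, 10, 9], [0, 9, 0, 11, 9, 11], [1, 2, 1, 2, 1, 2], [1, 2, 3, 1, 2, 3], [1, 3, 1, 3, 1, 3], [1, 5, 1, 9, 5, 9], [1, 6, 1, 7, 6, 7], [1, 6, 1, 9, 6, 9], [2, 3, 2, 3, 2, 3], [2, 3, 5, 3, 2, 5], [2, 4, 5, 4, 2, 5], [2, 5, 2, 5, 9, 10], [2, 5, 2, 5, 10, 9], [2, 6, 2, 7, 6, 7], [2, 9, 2, 11, 9, 11], [3, 4, 3, 7, 4, 7], [3, 4, 5, 3, 4, 5], [3, 4, 5, 4, 3, 5], [3, 4, 8, 3, 4, 8], [3, 4, 8, 4, 3, 8], [3, 5, 3, 5, 9, 10], [3, 5, 3, 5, 10, 9], [3, 6, 3, 7, 6, 7], [3, 9, 3, 11, 9, 11], [4, 5, 4, 5, 9, 10], [4, 5, 4, 5, 10, 9], [5, 6, 5, 7, 6, 7], [5, 6, 8, 5, 6, 8], [5, 6, 8, 6, 5, 8], [5, 6, 11, 5, 6, 11], [5, 6, 11, 6, 5, 11], [5, 9, 5, 11, 9, 11], [6, 9, 6, 11, 9, 11], [7, 9, 7, 11, 9, 11], [8, 9, 8, 11, 10, 11], [8, 11, 8, 11, 8, 11], [0, 6, 0, 8, 5, 11, 5, 11, 8], [0, 8, 7, 8, 0, 8, 7, 9, 8], [1, 2, 1, 8, 2,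 1, 8, 2, 8], [1, 2, 7, 2, 1, 8, 2, 7, 2, 8], [2, 3, 2, 4, 2, 11, 3, 2, 4, 11], [2, 4, 2, 7, 2, 4, 2, 11, 7, 11], [1, 4, 1, 11, 1, 4, 1, 11, 1, 4, 1, 11, 1, 4, 1, 11, 1, 4, 1, 11], [1, 3, 8, 11, 1, 3, 8, 11, 1, 3, 8, 11, 1, 3, 8, 11, 1, 3, 8, 11, 1, 3, 8, 11, 1, 3, 8, 11, 1, 3, 8, 11]] [0, 1, 2, 3] = true :=
  by decide +kernel

theorem sat_rel_0 : ∀ r ∈ ([[0, 2, 0, 2], [0, 4, 0, 4], [0, 6, 0, 6], [0, 7, 0, 7], [0, 9, 0, 9], [0, 10, 0, 10], [1, 5, 1, 5], [1, 6, 1, 6], [1, 8, 1, 8], [1, 10, 1, 10], [2, 6, 2, 6], [2, 9, 2, 9], [2, 10, 2, 10], [3, 4, 3, 4], [3, 6, 3, 6], [3, 9, 3, 9], [3, 10, 3, 10], [4, 7, 4, 7], [4, 9, 4, 9], [4, 10, 4, 10], [4, 11, 4, 11], [5, 6, 5, 6], [5, 9, 5, 9], [5, 10, 5, 10], [6, 7, 6, 7], [6, 9, 6, 9], [6, 10, 6, 10], [7, 9, 7, 9], [7, 10, 7, 10], [8, 10, 8, 10], [9, 10, 9, 10], [9, 11, 9, 11], [0, 4, 11, 0, 11], [3, 4, 11, 3, 11], [4, 6, 4, 6, 10], [8,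 9, 8, 9, 10], [9, 10, 11, 10, 11], [0, 1, 0, 1, 0, 1], [0, 1, 3, 0, 1, 3], [0, 1, 3, 4, 1, 4], [0, 1, 4, 3, 1, 4], [0, 2, 5, 0, 2, 5], [0, 2, 5, 2, 0, 5], [0, 3, 0, 3, 0, 3], [0, 3, 5, 3, 0, 5], [0, 3, 8, 3, 0, 8], [0, 3, 11, 3, 0, 11], [0, 4, 5, 0, 4, 5], [0, 4, 5, 4, 0, 5], [0, 4, 8, 0, 4, 8], [0, 4, 8, 4, 0, 8], [0, 5, 0, 5, 9, 10], [0, 5, 0, 5, 10, 9], [0, 9, 0, 11, 9, 11], [1, 2, 1, 2, 1, 2], [1, 2, 3, 1, 2, 3], [1, 3, 1, 3, 1, 3], [1, 5, 1, 9, 5, 9], [1, 6, 1, 7, 6, 7], [1, 6, 1, 9, 6, 9], [2, 3, 2, 3, 2, 3], [2, 3, 5, 3, 2, 5], [2, 4, 5, 4, 2, 5], [2, 5, 2, 5, 9, 10], [2, 5, 2, 5, 10, 9], [2, 6, 2, 7, 6, 7], [2, 9, 2, 11, 9, 11], [3, 4, 3, 7, 4, 7], [3, 4, 5, 3, 4, 5], [3, 4, 5, 4, 3, 5], [3, 4, 8, 3, 4, 8], [3, 4, 8, 4, 3, 8], [3, 5, 3, 5, 9, 10], [3, 5, 3, 5, 10, 9], [3, 6, 3, 7, 6, 7], [3, 9, 3, 11, 9, 11], [4, 5, 4, 5, 9, 10], [4, 5, 4, 5, 10, 9], [5, 6, 5, 7, 6, 7],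 [5, 6, 8, 5, 6, 8], [5, 6, 8, 6, 5, 8], [5, 6, 11, 5, 6, 11], [5, 6, 11, 6, 5, 11], [5, 9, 5, 11, 9, 11], [6, 9, 6, 11, 9, 11], [7, 9, 7, 11, 9, 11], [8, 9, 8, 11, 10, 11], [8, 11, 8, 11, 8, 11], [0, 6, 0, 8, 5, 11, 5, 11, 8], [0, 8, 7, 8, 0, 8, 7, 9, 8], [1, 2, 1, 8, 2, 1, 8, 2, 8], [1, 2, 7, 2, 1, 8, 2, 7, 2, 8], [2, 3, 2, 4, 2, 11, 3, 2, 4, 11], [2, 4, 2, 7, 2, 4, 2, 11, 7, 11], [1, 4, 1, 11, 1, 4, 1, 11, 1, 4, 1, 11, 1, 4, 1, 11, 1, 4, 1, 11], [1, 3, 8, 11, 1, 3, 8, 11, 1, 3, 8, 11, 1, 3, 8, 11, 1, 3, 8, 11, 1, 3, 8, 11, 1, 3, 8, 11, 1, 3, 8, 11]] : List (List ℕ)), ev Cfsg.Agent.XSC.CoU.AW.π r = 1 :=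
  rels_of_checks Cfsg.Agent.XSC.CoU.AW.spec (K := 4) (by decide) sat_inv _ [[0, 1, 2, 3]] (by decide) ⟨sat_rel_0_0, trivial⟩

theorem sat_rel : ∀ r ∈ ([[0, 2, 0, 2], [0, 4, 0, 4], [0, 6, 0, 6], [0, 7, 0, 7], [0, 9, 0, 9], [0, 10, 0, 10], [1, 5, 1, 5], [1, 6, 1, 6], [1, 8, 1, 8], [1, 10, 1, 10], [2, 6, 2, 6], [2, 9, 2, 9], [2, 10, 2, 10], [3, 4, 3, 4], [3, 6, 3, 6], [3, 9, 3, 9], [3, 10, 3, 10], [4, 7, 4, 7], [4, 9, 4, 9], [4, 10, 4, 10], [4, 11, 4, 11], [5, 6, 5, 6], [5, 9, 5, 9], [5, 10, 5, 10], [6, 7, 6, 7], [6, 9, 6, 9], [6, 10, 6, 10], [7, 9, 7, 9], [7, 10, 7, 10], [8, 10, 8, 10], [9, 10, 9, 10], [9, 11, 9, 11], [0, 4, 11, 0, 11], [3, 4, 11, 3, 11], [4, 6, 4, 6, 10], [8, 9, 8, 9, 10], [9, 10, 11, 10, 11], [0, 1, 0, 1, 0, 1], [0, 1, 3, 0, 1, 3], [0, 1, 3, 4, 1, 4], [0, 1, 4, 3, 1, 4], [0, 2, 5, 0, 2, 5], [0, 2, 5, 2, 0, 5], [0, 3, 0, 3, 0, 3], [0, 3, 5, 3, 0, 5], [0, 3, 8, 3,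 0, 8], [0, 3, 11, 3, 0, 11], [0, 4, 5, 0, 4, 5], [0, 4, 5, 4, 0, 5], [0, 4, 8, 0, 4, 8], [0, 4, 8, 4, 0, 8], [0, 5, 0, 5, 9, 10], [0, 5, 0, 5, 10, 9], [0, 9, 0, 11, 9, 11], [1, 2, 1, 2, 1, 2], [1, 2, 3, 1, 2, 3], [1, 3, 1, 3, 1, 3], [1, 5, 1, 9, 5, 9], [1, 6, 1, 7, 6, 7], [1, 6, 1, 9, 6, 9], [2, 3, 2, 3, 2, 3], [2, 3, 5, 3, 2, 5], [2, 4, 5, 4, 2, 5], [2, 5, 2, 5, 9, 10], [2, 5, 2, 5, 10, 9], [2, 6, 2, 7, 6, 7], [2, 9, 2, 11, 9, 11], [3, 4, 3, 7, 4, 7], [3, 4, 5, 3, 4, 5], [3, 4, 5, 4, 3, 5], [3, 4, 8, 3, 4, 8], [3, 4, 8, 4, 3, 8], [3, 5, 3, 5, 9, 10], [3, 5, 3, 5, 10, 9], [3, 6, 3, 7, 6, 7], [3, 9, 3, 11, 9, 11], [4, 5, 4, 5, 9, 10], [4, 5, 4, 5, 10, 9], [5, 6, 5, 7, 6, 7], [5, 6, 8, 5, 6, 8], [5, 6, 8, 6, 5, 8], [5, 6, 11, 5, 6, 11], [5, 6, 11, 6, 5, 11], [5, 9, 5, 11, 9, 11], [6, 9, 6, 11, 9, 11], [7, 9, 7, 11, 9, 11], [8, 9, 8, 11, 10, 11], [8, 11, 8, 11, 8, 11], [0, 6, 0, 8,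 5, 11, 5, 11, 8], [0, 8, 7, 8, 0, 8, 7, 9, 8], [1, 2, 1, 8, 2, 1, 8, 2, 8], [1, 2, 7, 2, 1, 8, 2, 7, 2, 8], [2, 3, 2, 4, 2, 11, 3, 2, 4, 11], [2, 4, 2, 7, 2, 4, 2, 11, 7, 11], [1, 4, 1, 11, 1, 4, 1, 11, 1, 4, 1, 11, 1, 4, 1, 11, 1, 4, 1, 11], [1, 3, 8, 11, 1, 3, 8, 11, 1, 3, 8, 11, 1, 3, 8, 11, 1, 3, 8, 11, 1, 3, 8, 11, 1, 3, 8, 11, 1, 3, 8, 11]] : List (List ℕ)), ev Cfsg.Agent.XSC.CoU.AW.π r = 1 :=
  rels_join [[[0, 2, 0, 2], [0, 4, 0, 4], [0, 6, 0, 6], [0, 7, 0, 7], [0, 9, 0, 9], [0, 10, 0, 10], [1, 5, 1, 5], [1, 6, 1, 6], [1, 8, 1, 8], [1, 10, 1, 10], [2, 6, 2, 6], [2, 9, 2, 9], [2, 10, 2, 10], [3, 4, 3, 4], [3, 6, 3, 6], [3, 9, 3, 9], [3, 10, 3, 10], [4, 7, 4, 7], [4, 9, 4, 9], [4, 10, 4, 10], [4, 11, 4, 11], [5, 6, 5, 6], [5, 9, 5, 9], [5, 10, 5, 10], [6, 7, 6, 7], [6, 9, 6, 9], [6, 10, 6, 10], [7, 9, 7, 9], [7, 10, 7, 10], [8, 10, 8, 10], [9, 10, 9, 10], [9, 11, 9, 11], [0,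 4, 11, 0, 11], [3, 4, 11, 3, 11], [4, 6, 4, 6, 10], [8, 9, 8, 9, 10], [9, 10, 11, 10, 11], [0, 1, 0, 1, 0, 1], [0, 1, 3, 0, 1, 3], [0, 1, 3, 4, 1, 4], [0, 1, 4, 3, 1, 4], [0, 2, 5, 0, 2, 5], [0, 2, 5, 2, 0, 5], [0, 3, 0, 3, 0, 3], [0, 3, 5, 3, 0, 5], [0, 3, 8, 3, 0, 8], [0, 3, 11, 3, 0, 11], [0, 4, 5, 0, 4, 5], [0, 4, 5, 4, 0, 5], [0, 4, 8, 0, 4, 8], [0, 4, 8, 4, 0, 8], [0, 5, 0, 5, 9, 10], [0, 5, 0, 5, 10, 9], [0, 9, 0, 11, 9, 11], [1, 2, 1, 2, 1, 2], [1, 2, 3, 1, 2, 3], [1, 3, 1, 3, 1, 3], [1, 5, 1, 9, 5, 9], [1, 6, 1, 7, 6, 7], [1, 6, 1, 9, 6, 9], [2, 3, 2, 3, 2, 3], [2, 3, 5, 3, 2, 5], [2, 4, 5, 4, 2, 5], [2, 5, 2, 5, 9, 10], [2, 5, 2, 5, 10, 9], [2, 6, 2, 7, 6, 7], [2, 9, 2, 11, 9, 11], [3, 4, 3, 7, 4, 7], [3, 4, 5, 3, 4, 5], [3, 4, 5, 4, 3, 5], [3, 4, 8, 3, 4, 8], [3, 4, 8, 4, 3, 8], [3, 5, 3, 5, 9, 10], [3, 5, 3, 5, 10, 9], [3, 6, 3, 7, 6, 7], [3, 9, 3, 11, 9, 11], [4, 5,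 4, 5, 9, 10], [4, 5, 4, 5, 10, 9], [5, 6, 5, 7, 6, 7], [5, 6, 8, 5, 6, 8], [5, 6, 8, 6, 5, 8], [5, 6, 11, 5, 6, 11], [5, 6, 11, 6, 5, 11], [5, 9, 5, 11, 9, 11], [6, 9, 6, 11, 9, 11], [7, 9, 7, 11, 9, 11], [8, 9, 8, 11, 10, 11], [8, 11, 8, 11, 8, 11], [0, 6, 0, 8, 5, 11, 5, 11, 8], [0, 8, 7, 8, 0, 8, 7, 9, 8], [1, 2, 1, 8, 2, 1, 8, 2, 8], [1, 2, 7, 2, 1, 8, 2, 7, 2, 8], [2, 3, 2, 4, 2, 11, 3, 2, 4, 11], [2, 4, 2, 7, 2, 4, 2, 11, 7, 11], [1, 4, 1, 11, 1, 4, 1, 11, 1, 4, 1, 11, 1, 4, 1, 11, 1, 4, 1, 11], [1, 3, 8, 11, 1, 3, 8, 11, 1, 3, 8, 11, 1, 3, 8, 11, 1, 3, 8, 11, 1, 3, 8, 11, 1, 3, 8, 11, 1, 3, 8, 11]]] ⟨sat_rel_0, trivial⟩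

theorem sat : Sat Cfsg.Agent.XSC.CoU.PW Cfsg.Agent.XSC.CoU.AW.π :=
  ⟨Cfsg.Agent.XSC.CoU.AW.out, sat_inv, sat_rel⟩

noncomputable def done_tr0 : ℕ := nat_lit 0x4fe8

noncomputable def done_tr1 : ℕ := nat_lit 0x2004

noncomputable def done_tr2 : ℕ := nat_lit 0x1512

noncomputable def done_tr3 : ℕ := nat_lit 0x50ba

noncomputable def done_t0_0 : ℕ := nat_lit 0x75a5

noncomputable def done_t0_1 : ℕ := nat_lit 0x400a

noncomputable def done_t0_2 : ℕ := nat_lit 0x3510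

noncomputable def done_t0_3 : ℕ := nat_lit 0x4000

noncomputable def done_t1_0 : ℕ := nat_lit 0xb63

noncomputable def done_t1_1 : ℕ := nat_lit 0x5cf8

noncomputable def done_t1_2 : ℕ := nat_lit 0x4600

noncomputable def done_t1_3 : ℕ := nat_lit 0x1000

noncomputable def done_t2_0 : ℕ := nat_lit 0x2c93

noncomputable def done_t2_1 : ℕ := nat_lit 0x272a

noncomputable def done_t2_2 : ℕ := nat_lit 0x7ff4

noncomputable def done_t2_3 : ℕ := nat_lit 0x5000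

noncomputable def done_t3_0 : ℕ := nat_lit 0x776d

noncomputable def done_t3_1 : ℕ := nat_lit 0x404e

noncomputable def done_t3_2 : ℕ := nat_lit 0x3fb0

noncomputable def done_t3_3 : ℕ := nat_lit 0x4000

noncomputable def done_t4_0 : ℕ := nat_lit 0x227d

noncomputable def done_t4_1 : ℕ := nat_lit 0x504e

noncomputable def done_t4_2 : ℕ := nat_lit 0x2a80

noncomputable def done_t4_3 : ℕ := nat_lit 0x5000

noncomputable def done_t5_0 : ℕ := nat_lit 0x60a5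

noncomputable def done_t5_1 : ℕ := nat_lit 0x7936

noncomputable def done_t5_2 : ℕ := nat_lit 0x39f8

noncomputable def done_t5_3 : ℕ := nat_lit 0x4600

noncomputable def done_t6_0 : ℕ := nat_lit 0x5f5b

noncomputable def done_t6_1 : ℕ := nat_lit 0x571a

noncomputable def done_t6_2 : ℕ := nat_lit 0x1fd4

noncomputable def done_t6_3 : ℕ := nat_lit 0x6020

noncomputable def done_t7_0 : ℕ := nat_lit 0x2179

noncomputable def done_t7_1 : ℕ := nat_lit 0x1fd4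

noncomputable def done_t7_2 : ℕ := nat_lit 0x2fba

noncomputable def done_t7_3 : ℕ := nat_lit 0x7620

noncomputable def done_t8_0 : ℕ := nat_lit 0x1657

noncomputable def done_t8_1 : ℕ := nat_lit 0x2900

noncomputable def done_t8_2 : ℕ := nat_lit 0x2940

noncomputable def done_t8_3 : ℕ := nat_lit 0x1400

noncomputable def done_t9_0 : ℕ := nat_lit 0x5e51

noncomputable def done_t9_1 : ℕ := nat_lit 0x605e

noncomputable def done_t9_2 : ℕ := nat_lit 0x7fa0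

noncomputable def done_t9_3 : ℕ := nat_lit 0

noncomputable def done_t10_0 : ℕ := nat_lit 0x592d

noncomputable def done_t10_1 : ℕ := nat_lit 0x760e

noncomputable def done_t10_2 : ℕ := nat_lit 0x6ff0

noncomputable def done_t10_3 : ℕ := nat_lit 0

noncomputable def done_t11_0 : ℕ := nat_lit 0x6885

noncomputable def done_t11_1 : ℕ := nat_lit 0x6808

noncomputable def done_t11_2 : ℕ := nat_lit 0x2140

noncomputable def done_t11_3 : ℕ := nat_lit 0x4e20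

noncomputable def doneC : TC := ⟨Cfsg.Agent.XSC.CoU.PW, [[0], [1], [2], [3], [4], [5], [6], [7], [8], [9], [10], [11, 1, 7, 1, 11], [11, 1, 9, 1, 11], [11, 8, 0, 8, 11], [11, 8, 2, 8, 11], [11, 1, 11, 8, 1, 11, 1, 11]], 15, 16, 4, 4, [done_tr0, done_tr1, done_tr2, done_tr3],
  [[done_t0_0, done_t0_1, done_t0_2, done_t0_3],
   [done_t1_0, done_t1_1, done_t1_2, done_t1_3],
   [done_t2_0, done_t2_1, done_t2_2, done_t2_3],
   [done_t3_0, done_t3_1, done_t3_2, done_t3_3],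
   [done_t4_0, done_t4_1, done_t4_2, done_t4_3],
   [done_t5_0, done_t5_1, done_t5_2, done_t5_3],
   [done_t6_0, done_t6_1, done_t6_2, done_t6_3],
   [done_t7_0, done_t7_1, done_t7_2, done_t7_3],
   [done_t8_0, done_t8_1, done_t8_2, done_t8_3],
   [done_t9_0, done_t9_1, done_t9_2, done_t9_3],
   [done_t10_0, done_t10_1, done_t10_2, done_t10_3],
   [done_t11_0, done_t11_1, done_t11_2, done_t11_3]]⟩

theorem done_s : doneC.structC Cfsg.Agent.XSC.CoU.AW.act = true :=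
  by decide +kernel

theorem done_c0_0 : doneC.coverC Cfsg.Agent.XSC.CoU.AW.act 0 true [] [(true, 0, 0, 0), (false, 2, 0, 6), (false, 2, 0, 9), (false, 2, 0, 11), (false, 3, 0, 8), (false, 3, 0, 14), (false, 96, 3, 0), (false, 96, 3, 2), (false, 96, 3, 7), (false, 120, 0, 10), (false, 121, 5, 10), (true, 13, 2, 0)] 0 (ones 15) = true :=
  by decide +kernel

theorem done_j0 : doneC.JustS Cfsg.Agent.XSC.CoU.AW.π 0 (ones 15) :=
  TC.cover_step Cfsg.Agent.XSC.CoU.AW.spec done_s (TC.justS_zero 0) done_c0_0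

theorem done_c1_0 : doneC.coverC Cfsg.Agent.XSC.CoU.AW.act 1 true [] [(true, 1, 0, 0), (false, 5, 0, 2), (false, 5, 0, 4), (false, 5, 0, 13), (false, 24, 0, 7), (false, 24, 0, 3), (false, 24, 0, 12), (false, 24, 0, 14), (false, 111, 1, 2), (false, 111, 1, 5), (false, 111, 1, 13), (false, 111, 1, 7), (true, 15, 4, 0)] 0 (ones 15) = true :=
  by decide +kernel

theorem done_j1 : doneC.JustS Cfsg.Agent.XSC.CoU.AW.π 1 (ones 15) :=
  TC.cover_step Cfsg.Agent.XSC.CoU.AW.spec done_s (TC.justS_zero 1) done_c1_0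

theorem done_c2_0 : doneC.coverC Cfsg.Agent.XSC.CoU.AW.act 2 true [] [(true, 2, 0, 0), (false, 165, 1, 1), (false, 165, 1, 4), (false, 165, 1, 8), (false, 165, 1, 3), (false, 166, 1, 2), (false, 166, 1, 5), (false, 166, 1, 7), (false, 166, 1, 13), (false, 276, 7, 0), (false, 276, 7, 6), (false, 276, 7, 2), (false, 276, 7, 11), (false, 276, 7, 7), (true, 14, 2, 0)] 0 (ones 15) = true :=
  by decide +kernel

theorem done_j2 : doneC.JustS Cfsg.Agent.XSC.CoU.AW.π 2 (ones 15) :=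
  TC.cover_step Cfsg.Agent.XSC.CoU.AW.spec done_s (TC.justS_zero 2) done_c2_0

theorem done_c3_0 : doneC.coverC Cfsg.Agent.XSC.CoU.AW.act 3 true [] [(true, 3, 0, 0), (false, 39, 0, 8), (false, 39, 0, 14), (false, 99, 3, 0), (false, 99, 3, 2), (false, 99, 3, 7), (false, 114, 2, 1), (false, 114, 2, 4), (false, 114, 2, 3), (false, 115, 0, 6), (false, 115, 0, 9), (false, 115, 0, 11), (false, 120, 3, 4), (false, 121, 2, 4), (false, 135, 1, 3)] 0 (ones 15) = true :=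
  by decide +kernel

theorem done_j3 : doneC.JustS Cfsg.Agent.XSC.CoU.AW.π 3 (ones 15) :=
  TC.cover_step Cfsg.Agent.XSC.CoU.AW.spec done_s (TC.justS_zero 3) done_c3_0

theorem done_c4_0 : doneC.coverC Cfsg.Agent.XSC.CoU.AW.act 4 true [] [(true, 4, 0, 0), (false, 14, 0, 8), (false, 14, 0, 10), (false, 60, 0, 1), (false, 96, 1, 3), (false, 117, 5, 6), (false, 117, 5, 9), (false, 117, 5, 11), (false, 118, 0, 6), (false, 118, 0, 11), (false, 118, 0, 9), (false, 147, 1, 12), (false, 148, 1, 9)] 0 (ones 15) = true :=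
  by decide +kernel

theorem done_j4 : doneC.JustS Cfsg.Agent.XSC.CoU.AW.π 4 (ones 15) :=
  TC.cover_step Cfsg.Agent.XSC.CoU.AW.spec done_s (TC.justS_zero 4) done_c4_0

theorem done_c5_0 : doneC.coverC Cfsg.Agent.XSC.CoU.AW.act 5 true [] [(true, 5, 0, 0), (false, 18, 1, 1), (false, 18, 1, 4), (false, 18, 1, 3), (false, 18, 1, 8), (false, 144, 2, 12), (false, 153, 1, 2), (false, 153, 1, 5), (false, 153, 1, 13), (false, 153, 1, 7), (false, 237, 0, 3), (false, 264, 6, 0), (false, 264, 6, 7), (false, 264, 6, 6), (false, 264, 6, 2)] 0 (ones 15) = true :=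
  by decide +kernel

theorem done_j5 : doneC.JustS Cfsg.Agent.XSC.CoU.AW.π 5 (ones 15) :=
  TC.cover_step Cfsg.Agent.XSC.CoU.AW.spec done_s (TC.justS_zero 5) done_c5_0

theorem done_c6_0 : doneC.coverC Cfsg.Agent.XSC.CoU.AW.act 6 true [] [(true, 6, 0, 0), (false, 6, 1, 9), (false, 6, 1, 2), (false, 6, 1, 7), (false, 6, 1, 10), (false, 21, 1, 1), (false, 21, 1, 3), (false, 102, 1, 12), (false, 243, 1, 1), (false, 243, 1, 4), (false, 243, 1, 8), (false, 243, 1, 12), (false, 264, 1, 3), (false, 264, 1, 5), (false, 264, 1, 13)] 0 (ones 15) = true :=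
  by decide +kernel

theorem done_j6 : doneC.JustS Cfsg.Agent.XSC.CoU.AW.π 6 (ones 15) :=
  TC.cover_step Cfsg.Agent.XSC.CoU.AW.spec done_s (TC.justS_zero 6) done_c6_0

theorem done_c7_0 : doneC.coverC Cfsg.Agent.XSC.CoU.AW.act 7 true [] [(true, 7, 0, 0), (false, 9, 1, 2), (false, 9, 1, 5), (false, 9, 1, 13), (false, 267, 2, 6), (false, 267, 2, 13), (false, 267, 2, 5), (false, 273, 2, 7), (false, 273, 2, 9), (false, 273, 2, 3), (false, 273, 2, 10), (false, 279, 3, 1), (false, 279, 3, 8), (false, 279, 3, 4), (true, 11, 2, 0)] 0 (ones 15) = true :=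
  by decide +kernel

theorem done_j7 : doneC.JustS Cfsg.Agent.XSC.CoU.AW.π 7 (ones 15) :=
  TC.cover_step Cfsg.Agent.XSC.CoU.AW.spec done_s (TC.justS_zero 7) done_c7_0

theorem done_c8_0 : doneC.coverC Cfsg.Agent.XSC.CoU.AW.act 8 true [] [(true, 8, 0, 0), (false, 26, 0, 3), (false, 26, 0, 7), (false, 26, 0, 5), (false, 26, 0, 14), (false, 147, 2, 5), (false, 147, 2, 4), (false, 261, 0, 12), (false, 261, 0, 10), (false, 270, 3, 1), (false, 270, 3, 3)] 0 (ones 15) = true :=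
  by decide +kernel

theorem done_j8 : doneC.JustS Cfsg.Agent.XSC.CoU.AW.π 8 (ones 15) :=
  TC.cover_step Cfsg.Agent.XSC.CoU.AW.spec done_s (TC.justS_zero 8) done_c8_0

theorem done_c9_0 : doneC.coverC Cfsg.Agent.XSC.CoU.AW.act 9 true [] [(true, 9, 0, 0), (false, 12, 1, 2), (false, 12, 1, 5), (false, 12, 1, 7), (false, 12, 1, 10), (false, 54, 1, 4), (false, 54, 1, 5), (false, 93, 0, 1), (false, 93, 0, 4), (false, 93, 0, 12), (false, 105, 1, 2), (false, 105, 1, 9), (false, 258, 1, 1), (false, 258, 1, 4), (true, 12, 2, 0)] 0 (ones 15) = true :=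
  by decide +kernel

theorem done_j9 : doneC.JustS Cfsg.Agent.XSC.CoU.AW.π 9 (ones 15) :=
  TC.cover_step Cfsg.Agent.XSC.CoU.AW.spec done_s (TC.justS_zero 9) done_c9_0

theorem done_c10_0 : doneC.coverC Cfsg.Agent.XSC.CoU.AW.act 10 true [] [(true, 10, 0, 0), (false, 15, 1, 2), (false, 15, 1, 5), (false, 15, 1, 7), (false, 27, 1, 1), (false, 27, 1, 4), (false, 27, 1, 3), (false, 27, 1, 8), (false, 57, 1, 4), (false, 57, 1, 5), (false, 87, 1, 1), (false, 87, 1, 9), (false, 108, 1, 4), (false, 108, 3, 0), (false, 258, 4, 7)] 0 (ones 15) = true :=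
  by decide +kernel

theorem done_j10 : doneC.JustS Cfsg.Agent.XSC.CoU.AW.π 10 (ones 15) :=
  TC.cover_step Cfsg.Agent.XSC.CoU.AW.spec done_s (TC.justS_zero 10) done_c10_0

theorem done_c11_0 : doneC.coverC Cfsg.Agent.XSC.CoU.AW.act 11 true [] [(false, 35, 0, 1), (false, 35, 0, 4), (false, 35, 0, 12), (false, 60, 1, 4), (false, 60, 1, 2), (false, 60, 1, 13), (false, 60, 1, 12), (false, 60, 1, 7), (false, 96, 2, 13), (false, 96, 4, 5), (false, 261, 1, 1), (false, 261, 1, 8)] 0 (ones 15) = true :=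
  by decide +kernel

theorem done_j11 : doneC.JustS Cfsg.Agent.XSC.CoU.AW.π 11 (ones 15) :=
  TC.cover_step Cfsg.Agent.XSC.CoU.AW.spec done_s (TC.justS_zero 11) done_c11_0

theorem done : doneC.Done Cfsg.Agent.XSC.CoU.AW.π :=
  TC.done_of Cfsg.Agent.XSC.CoU.AW.spec sat done_s ⟨done_j0, done_j1, done_j2, done_j3, done_j4, done_j5, done_j6, done_j7, done_j8, done_j9, done_j10, done_j11, trivial⟩

end AW

theorem AW_l : AllP (InSub Cfsg.Agent.XSC.CoU.PW [[0], [1], [2], [3], [4], [5], [6], [7], [8], [9], [10]]) AW.doneC.loops :=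
  ⟨inSub_of_mem (by decide), inSub_of_mem (by decide), inSub_of_mem (by decide), inSub_of_mem (by decide), inSub_of_mem (by decide), inSub_of_mem (by decide), inSub_of_mem (by decide), inSub_of_mem (by decide), inSub_of_mem (by decide), inSub_of_mem (by decide), inSub_of_mem (by decide), sAW_0, sAW_1, sAW_2, sAW_3, sAW_4, trivial⟩

def wsW : List (List ℕ) := [[10], [11], [12], [13], [15], [16], [17], [18], [0], [7], [8], [19]]

theorem w1 : centC val 524287 [[4], [2], [3], [1], [17], [5], [7]] [[8], [7], [5], [17]] [[1], [], [1, 0], [0], [3, 2, 1], [3, 2], [3, 2, 1, 0], [3, 2, 0], [3, 0], [2], [3], [2, 1, 0], [3, 1], [2, 0], [3, 1, 0], [2, 1]] 5573836800 89181388800 = true :=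
  by decide +kernel

theorem w2 : normC val X.I [1046015, 524287] [[8], [7], [5], [17], [1], [3], [2], [4], [12, 10], [18, 13, 18, 13], [15, 12, 15, 12], [18, 12, 18, 12], [13, 12, 10, 13], [18, 10, 13, 18, 13, 10], [16, 18, 13, 18, 13, 16], [13, 18, 12, 18, 12, 13]] [[11], [15], [19], [13], [0]] [[[0], [2, 1, 0], [2], [3], [4], [5, 4], [7, 6, 0], [7], [12], [13, 11, 5, 4, 3, 2], [12, 10, 8], [15], [8], [15, 9, 5, 3, 2], [13, 14, 7, 11, 10, 9, 8, 5, 4], [11]], [[0], [1], [2, 1, 0], [3, 0], [4], [5, 1, 0], [6], [7], [10, 8], [9], [10], [13, 11, 9, 5, 2], [12, 14, 10, 7, 9, 6], [13], [14], [15, 13, 4, 0]], [[1, 0], [1], [3], [2], [13], [13, 9, 3, 1, 0], [10, 6, 1], [14, 10, 9, 6], [14, 10, 7, 9, 8, 6], [5, 4, 2, 0], [10], [13, 11, 4, 3, 2, 1], [12, 14, 7, 9, 6, 0], [4], [7, 6, 5, 4, 2], [15, 9, 5, 4, 3, 1, 0]], [[0], [1], [2, 1, 0], [3], [5, 2, 0], [4, 2, 1], [7], [6], [12], [9],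 [14, 10, 7, 9, 6], [15], [8], [13, 9], [14], [11]], [[0], [1, 0], [2], [3, 2], [4], [5], [6], [7], [8, 7, 6], [9, 5, 4, 2, 0], [10, 6, 0], [11, 5, 4, 0], [12, 6, 0], [13, 4], [14, 7, 6, 5, 4, 2], [15, 5, 0]]] = true :=
  by decide +kernel

theorem w3 : satC val X.I [1046015, 524287] [subst [[11], [15], [19], [13], [0]] (powW [0, 3, 4, 2, 0, 3, 4, 2, 0, 3, 4, 2, 0, 3, 4, 2] 2), subst [[11], [15], [19], [13], [0]] (powW [0, 1, 0, 2] 5)] PW wsW (List.replicate 96 []) = true :=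
  by decide +kernel

theorem w4 : stepC val X.I 524287 21 wsW [[0], [1], [2], [3], [4], [5], [6], [7], [8], [9], [10]] [8] [[8, 11], [11], [], [8, 1, 11], [11, 1, 11], [0, 1, 11], [11, 0, 1, 11], [1, 11]] AW.doneC.n = true :=
  by decide +kernel

theorem w5 : subWC val X.I [524287] 1031679 21 wsW [[8], [2, 7, 1, 2, 1, 7, 2, 1], [10, 8, 3, 2, 8, 2, 3], [10, 8, 7, 8, 7], [10, 2, 8, 2, 0, 8, 0], [8, 5, 8, 5], [10, 8, 2, 8, 2], [9], [10], [], [0], [1], [2], [3], [], [4], [5], [6], [7], [11]] = true :=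
  by decide +kernel

theorem stW {G : Type*} [Group G] [Finite G] {z : G} {t : ℕ → G × Co1}
    (h : StB z t [1046015, 524287]) : StB z t [1031679, 1046015, 524287] := by
  obtain ⟨o, hC, Q, P, R, c⟩ := h
  have ct := c.ct o.toOv (levT o.toOv c.gr) hC w1 (ts := [[8], [7], [5], [17], [1], [3], [2], [4], [12, 10], [18, 13, 18, 13], [15, 12, 15, 12], [18, 12, 18, 12], [13, 12, 10, 13], [18, 10, 13, 18, 13, 10], [16, 18, 13, 18, 13, 16], [13, 18, 12, 18, 12, 13]]) (by decide +kernel)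
  have hn := o.norm w2
  have o1 := (o.addK (ct.fpf o.toOv hn [0, 1, 0, 2] 5 (by decide +kernel))).addK
    (ct.pow o.toOv hn (k := 2) (by decide +kernel) [0, 3, 4, 2, 0, 3, 4, 2, 0, 3, 4, 2, 0, 3, 4, 2] (by decide +kernel))
  have o0 : St t m val X.I [524287] [] := ⟨o.toOv, ⟨c.gr, trivial⟩, trivial⟩
  exact ⟨o.addS ((o.toOv.step AW.done (o1.sat w3) c.gr AW_l w4).mono (o0.le_genW w5)), hC, Q, P, R, c⟩

end Cfsg.Agent.XSC.CoU
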