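import Cfsg.Agent.XSC.CoW

set_option autoImplicit false
set_option Elab.async false
set_option maxRecDepth 100000

namespace Cfsg.Agent.XSC.CoU

open Cfsg.Agent.Comp.BN Cfsg.Agent.C1M Cfsg.Spor Cfsg.Agent.XSC.CoO Cfsg.Agent.TT Cfsg.Agent.LES Subgroup

def PA : Pres := ⟨[0, 1, 2, 3, 4, 5, 6, 7, 8, 9, 10, 11],
  [[0, 2, 0, 2],
   [0, 3, 0, 3],
   [0, 8, 0, 8],
   [0, 9, 0, 9],
   [0, 11, 0, 11],
   [1, 3, 1, 3],
   [1, 6, 1, 6],
   [1, 7, 1, 7],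
   [1, 8, 1, 8],
   [1, 10, 1, 10],
   [1, 11, 1, 11],
   [2, 7, 2, 7],
   [2, 9, 2, 9],
   [2, 11, 2, 11],
   [3, 5, 3, 5],
   [3, 7, 3, 7],
   [3, 10, 3, 10],
   [3, 11, 3, 11],
   [4, 6, 4, 6],
   [4, 7, 4, 7],
   [4, 10, 4, 10],
   [4, 11, 4, 11],
   [5, 10, 5, 10],
   [5, 11, 5, 11],
   [6, 8, 6, 8],
   [6, 10, 6, 10],
   [6, 11, 6, 11],
   [7, 8, 7, 8],
   [7, 10, 7, 10],
   [7, 11, 7, 11],
   [8, 10, 8, 10],
   [8, 11, 8, 11],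
   [9, 11, 9, 11],
   [10, 11, 10, 11],
   [6, 7, 6, 7, 11],
   [9, 10, 9, 10, 11],
   [0, 1, 0, 1, 0, 1],
   [0, 2, 0, 7, 2, 7],
   [0, 2, 4, 0, 2, 4],
   [0, 2, 4, 2, 0, 4],
   [0, 3, 0, 5, 3, 5],
   [0, 3, 0, 7, 3, 7],
   [0, 3, 0, 10, 3, 10],
   [0, 4, 0, 4, 2, 4],
   [0, 5, 0, 6, 3, 6],
   [0, 8, 0, 10, 8, 10],
   [1, 2, 1, 2, 1, 2],
   [1, 2, 4, 1, 2, 4],
   [1, 2, 4, 6, 2, 6],
   [1, 2, 6, 4, 2, 6],
   [1, 3, 1, 5, 3, 5],
   [1, 4, 1, 4, 1, 4],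
   [1, 4, 9, 4, 1, 9],
   [1, 6, 9, 1, 6, 9],
   [1, 6, 9, 6, 1, 9],
   [2, 3, 2, 3, 2, 3],
   [2, 3, 4, 2, 3, 4],
   [2, 7, 2, 8, 7, 8],
   [2, 7, 2, 10, 7, 10],
   [3, 4, 3, 4, 3, 4],
   [3, 7, 3, 8, 7, 8],
   [4, 5, 4, 5, 4, 5],
   [4, 6, 4, 8, 6, 8],
   [4, 6, 9, 4, 6, 9],
   [4, 6, 9, 6, 4, 9],
   [4, 7, 4, 8, 7, 8]]⟩

namespace A
noncomputable def m0_0 : ℕ := nat_lit 0x4c40

noncomputable def m0_1 : ℕ := nat_lit 0x460050

noncomputable def m0_2 : ℕ := nat_lit 0x40c020c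

noncomputable def m0_3 : ℕ := nat_lit 0x3212030

noncomputable def m0_4 : ℕ := nat_lit 0x15004501

noncomputable def m0_5 : ℕ := nat_lit 0x2000

noncomputable def m0_6 : ℕ := nat_lit 0x40c020c

noncomputable def m0_7 : ℕ := nat_lit 0x420050

noncomputable def m0_8 : ℕ := nat_lit 0x4c40

noncomputable def net0 : Net := (.cons 16 m0_0 (.cons 8 m0_1 (.cons 4 m0_2 (.cons 2 m0_3 (.cons 1 m0_4 (.cons 2 m0_5 (.cons 4 m0_6 (.cons 8 m0_7 (.cons 16 m0_8 .nil)))))))))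

theorem ok0 : Net.ok 32 net0 = true :=
  by decide +kernel

noncomputable def m1_0 : ℕ := nat_lit 0x8862

noncomputable def m1_1 : ℕ := nat_lit 0xf00016

noncomputable def m1_2 : ℕ := nat_lit 0x40a0200

noncomputable def m1_3 : ℕ := nat_lit 0x10030310

noncomputable def m1_4 : ℕ := nat_lit 0x41151010

noncomputable def m1_5 : ℕ := nat_lit 0x20000020

noncomputable def m1_6 : ℕ := nat_lit 0xa0204

noncomputable def m1_7 : ℕ := nat_lit 0xe00006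

noncomputable def m1_8 : ℕ := nat_lit 0x9c90

noncomputable def net1 : Net := (.cons 16 m1_0 (.cons 8 m1_1 (.cons 4 m1_2 (.cons 2 m1_3 (.cons 1 m1_4 (.cons 2 m1_5 (.cons 4 m1_6 (.cons 8 m1_7 (.cons 16 m1_8 .nil)))))))))

theorem ok1 : Net.ok 32 net1 = true :=
  by decide +kernel

noncomputable def m2_0 : ℕ := nat_lit 0xaa2

noncomputable def m2_1 : ℕ := nat_lit 0x260010

noncomputable def m2_2 : ℕ := nat_lit 0x2020408

noncomputable def m2_3 : ℕ := nat_lit 0x2332001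

noncomputable def m2_4 : ℕ := nat_lit 0x11501450

noncomputable def m2_5 : ℕ := nat_lit 0x2002000

noncomputable def m2_6 : ℕ := nat_lit 0x2040a

noncomputable def m2_7 : ℕ := nat_lit 0x260010

noncomputable def m2_8 : ℕ := nat_lit 0x1a80

noncomputable def net2 : Net := (.cons 16 m2_0 (.cons 8 m2_1 (.cons 4 m2_2 (.cons 2 m2_3 (.cons 1 m2_4 (.cons 2 m2_5 (.cons 4 m2_6 (.cons 8 m2_7 (.cons 16 m2_8 .nil)))))))))

theorem ok2 : Net.ok 32 net2 = true :=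
  by decide +kernel

noncomputable def m3_0 : ℕ := nat_lit 0x8008

noncomputable def m3_1 : ℕ := nat_lit 0xb0000c

noncomputable def m3_2 : ℕ := nat_lit 0x3050104

noncomputable def m3_3 : ℕ := nat_lit 0x131300

noncomputable def m3_4 : ℕ := nat_lit 0x15141400

noncomputable def m3_5 : ℕ := nat_lit 0x20200

noncomputable def m3_6 : ℕ := nat_lit 0x20600

noncomputable def m3_7 : ℕ := nat_lit 0x300004

noncomputable def m3_8 : ℕ := nat_lit 0x8008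

noncomputable def net3 : Net := (.cons 16 m3_0 (.cons 8 m3_1 (.cons 4 m3_2 (.cons 2 m3_3 (.cons 1 m3_4 (.cons 2 m3_5 (.cons 4 m3_6 (.cons 8 m3_7 (.cons 16 m3_8 .nil)))))))))

theorem ok3 : Net.ok 32 net3 = true :=
  by decide +kernel

noncomputable def m4_0 : ℕ := nat_lit 0xe232

noncomputable def m4_1 : ℕ := nat_lit 0xec00a4

noncomputable def m4_2 : ℕ := nat_lit 0xc0f0004

noncomputable def m4_3 : ℕ := nat_lit 0x32002300

noncomputable def m4_4 : ℕ := nat_lit 0x50000010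

noncomputable def m4_5 : ℕ := nat_lit 0xc000000

noncomputable def m4_6 : ℕ := nat_lit 0xec00a4

noncomputable def m4_7 : ℕ := nat_lit 0xe232

noncomputable def net4 : Net := (.cons 16 m4_0 (.cons 8 m4_1 (.cons 4 m4_2 (.cons 2 m4_3 (.cons 1 m4_4 (.cons 4 m4_5 (.cons 8 m4_6 (.cons 16 m4_7 .nil))))))))

theorem ok4 : Net.ok 32 net4 = true :=
  by decide +kernel

noncomputable def m5_0 : ℕ := nat_lit 0x8008

noncomputable def m5_1 : ℕ := nat_lit 0xa80044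

noncomputable def m5_2 : ℕ := nat_lit 0xb0d040c

noncomputable def m5_3 : ℕ := nat_lit 0x130000

noncomputable def m5_4 : ℕ := nat_lit 0x15141540

noncomputable def m5_5 : ℕ := nat_lit 0x20000

noncomputable def m5_6 : ℕ := nat_lit 0x8020008

noncomputable def m5_7 : ℕ := nat_lit 0xa80008

noncomputable def m5_8 : ℕ := nat_lit 0x8008

noncomputable def net5 : Net := (.cons 16 m5_0 (.cons 8 m5_1 (.cons 4 m5_2 (.cons 2 m5_3 (.cons 1 m5_4 (.cons 2 m5_5 (.cons 4 m5_6 (.cons 8 m5_7 (.cons 16 m5_8 .nil)))))))))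

theorem ok5 : Net.ok 32 net5 = true :=
  by decide +kernel

noncomputable def m6_0 : ℕ := nat_lit 0xa012

noncomputable def m6_1 : ℕ := nat_lit 0x2400a4

noncomputable def m6_2 : ℕ := nat_lit 0xc030004

noncomputable def m6_3 : ℕ := nat_lit 0x20002100

noncomputable def m6_4 : ℕ := nat_lit 0x40110010

noncomputable def m6_5 : ℕ := nat_lit 0x20000000

noncomputable def m6_6 : ℕ := nat_lit 0x4000000

noncomputable def m6_7 : ℕ := nat_lit 0x2400a4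

noncomputable def m6_8 : ℕ := nat_lit 0xa012

noncomputable def net6 : Net := (.cons 16 m6_0 (.cons 8 m6_1 (.cons 4 m6_2 (.cons 2 m6_3 (.cons 1 m6_4 (.cons 2 m6_5 (.cons 4 m6_6 (.cons 8 m6_7 (.cons 16 m6_8 .nil)))))))))

theorem ok6 : Net.ok 32 net6 = true :=
  by decide +kernel

noncomputable def net7 : Net := .nil

theorem ok7 : Net.ok 32 net7 = true :=
  by decide +kernel

noncomputable def net8 : Net := .nil

theorem ok8 : Net.ok 32 net8 = true :=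
  by decide +kernel

noncomputable def m9_0 : ℕ := nat_lit 0x5400

noncomputable def m9_1 : ℕ := nat_lit 0x500000

noncomputable def m9_2 : ℕ := nat_lit 0x80b0406

noncomputable def m9_3 : ℕ := nat_lit 0x20001002

noncomputable def m9_4 : ℕ := nat_lit 0x510001

noncomputable def m9_5 : ℕ := nat_lit 0x2

noncomputable def m9_6 : ℕ := nat_lit 0x8080400

noncomputable def m9_7 : ℕ := nat_lit 0x500000

noncomputable def m9_8 : ℕ := nat_lit 0x5400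

noncomputable def net9 : Net := (.cons 16 m9_0 (.cons 8 m9_1 (.cons 4 m9_2 (.cons 2 m9_3 (.cons 1 m9_4 (.cons 2 m9_5 (.cons 4 m9_6 (.cons 8 m9_7 (.cons 16 m9_8 .nil)))))))))

theorem ok9 : Net.ok 32 net9 = true :=
  by decide +kernel

noncomputable def net10 : Net := .nil

theorem ok10 : Net.ok 32 net10 = true :=
  by decide +kernel

noncomputable def net11 : Net := .nil

theorem ok11 : Net.ok 32 net11 = true :=
  by decide +kernel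

noncomputable def nets : List Net := [net0, net1, net2, net3, net4, net5, net6, net7, net8, net9, net10, net11]

noncomputable def act : Act := netAct' nets
noncomputable def π : ℕ → Equiv.Perm ℕ := netPerm nets

theorem spec : act.Spec 32 π :=
  spec_fast (netAct_spec (AllP.forall (p := fun t => Net.ok 32 t = true) ⟨ok0, ok1, ok2, ok3, ok4, ok5, ok6, ok7, ok8, ok9, ok10, ok11, trivial⟩))

theorem out : ∀ k, 12 ≤ k → π k = 1 :=
  netPerm_out nets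

theorem sat_inv_0 : invC Cfsg.Agent.XSC.CoU.A.act Cfsg.Agent.XSC.CoU.PA.I 32 5 Cfsg.Agent.XSC.CoU.PA.inv.length [0, 1, 2, 3, 4] = true :=
  by decide +kernel

theorem sat_inv : ∀ k, Cfsg.Agent.XSC.CoU.A.π (Cfsg.Agent.XSC.CoU.PA.I k) * Cfsg.Agent.XSC.CoU.A.π k = 1 :=
  inv_of_checks Cfsg.Agent.XSC.CoU.A.spec (K := 5) (by decide) Cfsg.Agent.XSC.CoU.A.out [[0, 1, 2, 3, 4]] (by decide) ⟨sat_inv_0, trivial⟩

theorem sat_rel_0_0 : relsC Cfsg.Agent.XSC.CoU.A.act Cfsg.Agent.XSC.CoU.PA.I 32 5 [[0, 2, 0, 2], [0, 3, 0, 3], [0, 8, 0, 8], [0, 9, 0, 9], [0, 11, 0, 11], [1, 3, 1, 3], [1, 6, 1, 6], [1, 7, 1, 7], [1, 8, 1, 8], [1, 10, 1, 10], [1, 11, 1, 11], [2, 7, 2, 7], [2, 9, 2, 9], [2, 11, 2, 11], [3, 5, 3, 5], [3, 7, 3, 7], [3, 10, 3, 10], [3, 11, 3, 11], [4, 6, 4, 6], [4, 7, 4, 7], [4, 10, 4, 10], [4, 11, 4, 11], [5, 10, 5, 10], [5, 11, 5, 11], [6, 8, 6, 8], [6, 10, 6,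 10], [6, 11, 6, 11], [7, 8, 7, 8], [7, 10, 7, 10], [7, 11, 7, 11], [8, 10, 8, 10], [8, 11, 8, 11], [9, 11, 9, 11], [10, 11, 10, 11], [6, 7, 6, 7, 11], [9, 10, 9, 10, 11], [0, 1, 0, 1, 0, 1], [0, 2, 0, 7, 2, 7], [0, 2, 4, 0, 2, 4], [0, 2, 4, 2, 0, 4], [0, 3, 0, 5, 3, 5], [0, 3, 0, 7, 3, 7], [0, 3, 0, 10, 3, 10], [0, 4, 0, 4, 2, 4], [0, 5, 0, 6, 3, 6], [0, 8, 0, 10, 8, 10], [1, 2, 1, 2, 1, 2], [1, 2, 4, 1, 2, 4], [1, 2, 4, 6, 2, 6], [1, 2, 6, 4, 2, 6], [1, 3, 1, 5, 3, 5], [1, 4, 1, 4, 1, 4], [1, 4, 9, 4, 1, 9], [1, 6, 9, 1, 6, 9], [1, 6, 9, 6, 1, 9], [2, 3, 2, 3, 2, 3], [2, 3, 4, 2, 3, 4], [2, 7, 2, 8, 7, 8], [2, 7, 2, 10, 7, 10], [3, 4, 3, 4, 3, 4], [3, 7, 3, 8, 7, 8], [4, 5, 4, 5, 4, 5], [4, 6, 4, 8, 6, 8], [4, 6, 9, 4, 6, 9], [4, 6, 9, 6, 4, 9], [4, 7, 4, 8, 7, 8]] [0, 1, 2, 3, 4] = true :=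
  by decide +kernel

theorem sat_rel_0 : ∀ r ∈ ([[0, 2, 0, 2], [0, 3, 0, 3], [0, 8, 0, 8], [0, 9, 0, 9], [0, 11, 0, 11], [1, 3, 1, 3], [1, 6, 1, 6], [1, 7, 1, 7], [1, 8, 1, 8], [1, 10, 1, 10], [1, 11, 1, 11], [2, 7, 2, 7], [2, 9, 2, 9], [2, 11, 2, 11], [3, 5, 3, 5], [3, 7, 3, 7], [3, 10, 3, 10], [3, 11, 3, 11], [4, 6, 4, 6], [4, 7, 4, 7], [4, 10, 4, 10], [4, 11, 4, 11], [5, 10, 5, 10], [5, 11, 5, 11], [6, 8, 6, 8], [6, 10, 6, 10], [6, 11, 6, 11], [7, 8, 7, 8], [7, 10, 7, 10], [7, 11, 7, 11], [8, 10, 8, 10], [8, 11, 8, 11], [9, 11, 9, 11], [10, 11, 10, 11], [6, 7, 6, 7, 11], [9, 10, 9, 10, 11], [0, 1, 0, 1, 0, 1], [0, 2, 0, 7, 2, 7], [0, 2, 4, 0, 2, 4], [0, 2, 4, 2, 0, 4], [0, 3, 0, 5, 3, 5], [0, 3, 0, 7, 3, 7], [0, 3, 0, 10, 3, 10], [0, 4, 0, 4, 2, 4], [0, 5, 0, 6, 3, 6], [0, 8, 0, 10, 8, 10], [1, 2, 1, 2, 1, 2], [1, 2, 4, 1, 2, 4], [1, 2, 4, 6, 2, 6], [1, 2,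 6, 4, 2, 6], [1, 3, 1, 5, 3, 5], [1, 4, 1, 4, 1, 4], [1, 4, 9, 4, 1, 9], [1, 6, 9, 1, 6, 9], [1, 6, 9, 6, 1, 9], [2, 3, 2, 3, 2, 3], [2, 3, 4, 2, 3, 4], [2, 7, 2, 8, 7, 8], [2, 7, 2, 10, 7, 10], [3, 4, 3, 4, 3, 4], [3, 7, 3, 8, 7, 8], [4, 5, 4, 5, 4, 5], [4, 6, 4, 8, 6, 8], [4, 6, 9, 4, 6, 9], [4, 6, 9, 6, 4, 9], [4, 7, 4, 8, 7, 8]] : List (List ℕ)), ev Cfsg.Agent.XSC.CoU.A.π r = 1 :=
  rels_of_checks Cfsg.Agent.XSC.CoU.A.spec (K := 5) (by decide) sat_inv _ [[0, 1, 2, 3, 4]] (by decide) ⟨sat_rel_0_0, trivial⟩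

theorem sat_rel : ∀ r ∈ ([[0, 2, 0, 2], [0, 3, 0, 3], [0, 8, 0, 8], [0, 9, 0, 9], [0, 11, 0, 11], [1, 3, 1, 3], [1, 6, 1, 6], [1, 7, 1, 7], [1, 8, 1, 8], [1, 10, 1, 10], [1, 11, 1, 11], [2, 7, 2, 7], [2, 9, 2, 9], [2, 11, 2, 11], [3, 5, 3, 5], [3, 7, 3, 7], [3, 10, 3, 10], [3, 11, 3, 11], [4, 6, 4, 6], [4, 7, 4, 7], [4, 10, 4, 10], [4, 11, 4, 11], [5, 10, 5, 10], [5, 11, 5, 11], [6, 8, 6, 8], [6, 10, 6, 10], [6, 11, 6, 11], [7, 8, 7, 8], [7, 10, 7, 10], [7, 11, 7, 11], [8, 10, 8, 10], [8, 11, 8, 11], [9, 11, 9, 11], [10, 11, 10, 11], [6, 7, 6, 7, 11], [9, 10, 9, 10, 11], [0, 1, 0, 1, 0, 1], [0, 2, 0, 7, 2, 7], [0, 2, 4, 0, 2, 4], [0, 2, 4, 2, 0, 4], [0, 3, 0, 5, 3, 5], [0, 3, 0, 7, 3, 7], [0, 3, 0, 10, 3, 10], [0, 4, 0, 4, 2, 4], [0, 5, 0, 6, 3, 6], [0, 8, 0, 10, 8, 10], [1, 2, 1, 2, 1, 2], [1, 2, 4, 1, 2, 4], [1, 2, 4, 6, 2, 6], [1, 2, 6, 4, 2, 6], [1, 3, 1,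 5, 3, 5], [1, 4, 1, 4, 1, 4], [1, 4, 9, 4, 1, 9], [1, 6, 9, 1, 6, 9], [1, 6, 9, 6, 1, 9], [2, 3, 2, 3, 2, 3], [2, 3, 4, 2, 3, 4], [2, 7, 2, 8, 7, 8], [2, 7, 2, 10, 7, 10], [3, 4, 3, 4, 3, 4], [3, 7, 3, 8, 7, 8], [4, 5, 4, 5, 4, 5], [4, 6, 4, 8, 6, 8], [4, 6, 9, 4, 6, 9], [4, 6, 9, 6, 4, 9], [4, 7, 4, 8, 7, 8]] : List (List ℕ)), ev Cfsg.Agent.XSC.CoU.A.π r = 1 :=
  rels_join [[[0, 2, 0, 2], [0, 3, 0, 3], [0, 8, 0, 8], [0, 9, 0, 9], [0, 11, 0, 11], [1, 3, 1, 3], [1, 6, 1, 6], [1, 7, 1, 7], [1, 8, 1, 8], [1, 10, 1, 10], [1, 11, 1, 11], [2, 7, 2, 7], [2, 9, 2, 9], [2, 11, 2, 11], [3, 5, 3, 5], [3, 7, 3, 7], [3, 10, 3, 10], [3, 11, 3, 11], [4, 6, 4, 6], [4, 7, 4, 7], [4, 10, 4, 10], [4, 11, 4, 11], [5, 10, 5, 10], [5, 11, 5, 11], [6, 8, 6, 8], [6, 10, 6, 10], [6, 11, 6, 11], [7, 8, 7, 8], [7, 10, 7, 10], [7, 11, 7, 11], [8, 10, 8, 10], [8, 11, 8, 11], [9, 11, 9, 11],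 [10, 11, 10, 11], [6, 7, 6, 7, 11], [9, 10, 9, 10, 11], [0, 1, 0, 1, 0, 1], [0, 2, 0, 7, 2, 7], [0, 2, 4, 0, 2, 4], [0, 2, 4, 2, 0, 4], [0, 3, 0, 5, 3, 5], [0, 3, 0, 7, 3, 7], [0, 3, 0, 10, 3, 10], [0, 4, 0, 4, 2, 4], [0, 5, 0, 6, 3, 6], [0, 8, 0, 10, 8, 10], [1, 2, 1, 2, 1, 2], [1, 2, 4, 1, 2, 4], [1, 2, 4, 6, 2, 6], [1, 2, 6, 4, 2, 6], [1, 3, 1, 5, 3, 5], [1, 4, 1, 4, 1, 4], [1, 4, 9, 4, 1, 9], [1, 6, 9, 1, 6, 9], [1, 6, 9, 6, 1, 9], [2, 3, 2, 3, 2, 3], [2, 3, 4, 2, 3, 4], [2, 7, 2, 8, 7, 8], [2, 7, 2, 10, 7, 10], [3, 4, 3, 4, 3, 4], [3, 7, 3, 8, 7, 8], [4, 5, 4, 5, 4, 5], [4, 6, 4, 8, 6, 8], [4, 6, 9, 4, 6, 9], [4, 6, 9, 6, 4, 9], [4, 7, 4, 8, 7, 8]]] ⟨sat_rel_0, trivial⟩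

theorem sat : Sat Cfsg.Agent.XSC.CoU.PA Cfsg.Agent.XSC.CoU.A.π :=
  ⟨Cfsg.Agent.XSC.CoU.A.out, sat_inv, sat_rel⟩

noncomputable def done_tr0 : ℕ := nat_lit 0x3f7b016

noncomputable def done_tr1 : ℕ := nat_lit 0x3c1adffc

noncomputable def done_tr2 : ℕ := nat_lit 0x2ad6a10

noncomputable def done_tr3 : ℕ := nat_lit 0x68

noncomputable def done_t0_0 : ℕ := nat_lit 0x3282abc1

noncomputable def done_t0_1 : ℕ := nat_lit 0xaa31ec

noncomputable def done_t0_2 : ℕ := nat_lit 0x3cbdc410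

noncomputable def done_t0_3 : ℕ := nat_lit 0x2000000

noncomputable def done_t1_0 : ℕ := nat_lit 0x3ffb275

noncomputable def done_t1_1 : ℕ := nat_lit 0xc9c21a

noncomputable def done_t1_2 : ℕ := nat_lit 0xf84200

noncomputable def done_t1_3 : ℕ := nat_lit 0x3000800

noncomputable def done_t2_0 : ℕ := nat_lit 0x3aa944b3

noncomputable def done_t2_1 : ℕ := nat_lit 0x20c92748

noncomputable def done_t2_2 : ℕ := nat_lit 0x3cec4200

noncomputable def done_t2_3 : ℕ := nat_lit 0x3000800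

noncomputable def done_t3_0 : ℕ := nat_lit 0x16f3925

noncomputable def done_t3_1 : ℕ := nat_lit 0x31a0b13e

noncomputable def done_t3_2 : ℕ := nat_lit 0x3defcec0

noncomputable def done_t3_3 : ℕ := nat_lit 0x2100000

noncomputable def done_t4_0 : ℕ := nat_lit 0x3418cefb

noncomputable def done_t4_1 : ℕ := nat_lit 0x1048954c

noncomputable def done_t4_2 : ℕ := nat_lit 0x3c5a4000

noncomputable def done_t4_3 : ℕ := nat_lit 0x1000000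

noncomputable def done_t5_0 : ℕ := nat_lit 0x20570555

noncomputable def done_t5_1 : ℕ := nat_lit 0x2db0800a

noncomputable def done_t5_2 : ℕ := nat_lit 0x2c96b0b0

noncomputable def done_t5_3 : ℕ := nat_lit 0x13610000

noncomputable def done_t6_0 : ℕ := nat_lit 0x28129ceb

noncomputable def done_t6_1 : ℕ := nat_lit 0x1a41f5ec

noncomputable def done_t6_2 : ℕ := nat_lit 0x34764000

noncomputable def done_t6_3 : ℕ := nat_lit 0x3880a00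

noncomputable def done_t7_0 : ℕ := nat_lit 0x2863bd1

noncomputable def done_t7_1 : ℕ := nat_lit 0xc673fe

noncomputable def done_t7_2 : ℕ := nat_lit 0x3cf1c600

noncomputable def done_t7_3 : ℕ := nat_lit 0x3080800

noncomputable def done_t8_0 : ℕ := nat_lit 0x195d1531

noncomputable def done_t8_1 : ℕ := nat_lit 0x2378df7e

noncomputable def done_t8_2 : ℕ := nat_lit 0x3c3fe080

noncomputable def done_t8_3 : ℕ := nat_lit 0x2800000

noncomputable def done_t9_0 : ℕ := nat_lit 0x175de407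

noncomputable def done_t9_1 : ℕ := nat_lit 0x295ffa90

noncomputable def done_t9_2 : ℕ := nat_lit 0x14284500

noncomputable def done_t9_3 : ℕ := nat_lit 0x2800000

noncomputable def done_t10_0 : ℕ := nat_lit 0x24a2e971

noncomputable def done_t10_1 : ℕ := nat_lit 0x1250617e

noncomputable def done_t10_2 : ℕ := nat_lit 0x3eff9e80

noncomputable def done_t10_3 : ℕ := nat_lit 0x1000000

noncomputable def done_t11_0 : ℕ := nat_lit 0x30f07971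

noncomputable def done_t11_1 : ℕ := nat_lit 0x300717e

noncomputable def done_t11_2 : ℕ := nat_lit 0x3fff8e80

noncomputable def done_t11_3 : ℕ := nat_lit 0

noncomputable def doneC : TC := ⟨Cfsg.Agent.XSC.CoU.PA, [[1], [3], [4], [5], [6], [7], [8], [10], [11], [0, 7, 0], [0, 10, 0], [2, 8, 2], [2, 10, 2], [9, 1, 9], [9, 3, 9], [9, 5, 9], [9, 7, 9], [9, 8, 9], [0, 6, 1, 0], [0, 6, 9, 6, 0], [0, 9, 7, 9, 0], [2, 9, 8, 9, 2], [0, 9, 1, 9, 1, 9, 0], [2, 1, 5, 8, 5, 1, 2], [2, 1, 5, 9, 5, 1, 2], [2, 9, 1, 5, 8, 5, 1, 9, 2], [2, 9, 1, 5, 9, 5, 1, 9, 2]], 30, 32, 5, 4, [done_tr0, done_tr1, done_tr2, done_tr3],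
  [[done_t0_0, done_t0_1, done_t0_2, done_t0_3],
   [done_t1_0, done_t1_1, done_t1_2, done_t1_3],
   [done_t2_0, done_t2_1, done_t2_2, done_t2_3],
   [done_t3_0, done_t3_1, done_t3_2, done_t3_3],
   [done_t4_0, done_t4_1, done_t4_2, done_t4_3],
   [done_t5_0, done_t5_1, done_t5_2, done_t5_3],
   [done_t6_0, done_t6_1, done_t6_2, done_t6_3],
   [done_t7_0, done_t7_1, done_t7_2, done_t7_3],
   [done_t8_0, done_t8_1, done_t8_2, done_t8_3],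
   [done_t9_0, done_t9_1, done_t9_2, done_t9_3],
   [done_t10_0, done_t10_1, done_t10_2, done_t10_3],
   [done_t11_0, done_t11_1, done_t11_2, done_t11_3]]⟩

theorem done_s : doneC.structC Cfsg.Agent.XSC.CoU.A.act = true :=
  by decide +kernel

theorem done_c0_0 : doneC.coverC Cfsg.Agent.XSC.CoU.A.act 0 true [] [(false, 2, 0, 1), (false, 2, 0, 22), (false, 2, 0, 24), (false, 0, 0, 12), (false, 0, 0, 17), (false, 0, 0, 2), (false, 0, 0, 15), (false, 0, 0, 6), (false, 0, 0, 20), (false, 3, 0, 23), (false, 3, 0, 25), (false, 9, 0, 5), (false, 9, 0, 3), (false, 108, 0, 4), (false, 108, 0, 7), (false, 108, 0, 27), (false, 108, 0, 26), (false, 108, 0, 29), (false, 108, 0, 28), (false, 114, 0, 13), (false, 114, 0, 18), (false, 114, 0, 8), (false, 115, 2, 6), (false, 132, 0, 16), (false, 132, 0, 21), (false, 132, 2, 12), (false, 132, 2, 17)] 0 (ones 30) = true :=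
  by decide +kernel

theorem done_j0 : doneC.JustS Cfsg.Agent.XSC.CoU.A.π 0 (ones 30) :=
  TC.cover_step Cfsg.Agent.XSC.CoU.A.spec done_s (TC.justS_zero 0) done_c0_0

theorem done_c1_0 : doneC.coverC Cfsg.Agent.XSC.CoU.A.act 1 true [] [(true, 0, 0, 0), (false, 5, 0, 8), (false, 5, 0, 1), (false, 5, 0, 7), (false, 5, 0, 10), (false, 5, 0, 26), (false, 5, 0, 27), (false, 5, 0, 28), (false, 5, 0, 29), (false, 15, 0, 9), (false, 15, 0, 11), (false, 15, 0, 23), (false, 15, 0, 22), (false, 15, 0, 25), (false, 15, 0, 24), (false, 108, 1, 16), (false, 108, 1, 21), (false, 144, 0, 16), (false, 144, 0, 21), (false, 145, 5, 16), (false, 145, 5, 21), (true, 13, 1, 0), (true, 18, 2, 0)] 0 (ones 30) = true :=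
  by decide +kernel

theorem done_j1 : doneC.JustS Cfsg.Agent.XSC.CoU.A.π 1 (ones 30) :=
  TC.cover_step Cfsg.Agent.XSC.CoU.A.spec done_s (TC.justS_zero 1) done_c1_0

theorem done_c2_0 : doneC.coverC Cfsg.Agent.XSC.CoU.A.act 2 true [] [(false, 8, 0, 2), (false, 8, 0, 12), (false, 8, 0, 15), (false, 8, 0, 17), (false, 8, 0, 20), (false, 8, 0, 16), (false, 0, 1, 26), (false, 0, 1, 28), (false, 0, 1, 16), (false, 0, 1, 21), (false, 36, 0, 6), (false, 36, 0, 3), (false, 129, 4, 1), (false, 129, 4, 5), (false, 129, 4, 9), (false, 129, 4, 11), (false, 138, 1, 2), (false, 138, 1, 6), (false, 141, 1, 12), (false, 141, 1, 17), (false, 142, 1, 7), (false, 165, 0, 22), (false, 165, 0, 24), (false, 165, 0, 9), (false, 165, 0, 11)] 0 (ones 30) = true :=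
  by decide +kernel

theorem done_j2 : doneC.JustS Cfsg.Agent.XSC.CoU.A.π 2 (ones 30) :=
  TC.cover_step Cfsg.Agent.XSC.CoU.A.spec done_s (TC.justS_zero 2) done_c2_0

theorem done_c3_0 : doneC.coverC Cfsg.Agent.XSC.CoU.A.act 3 true [] [(true, 1, 0, 0), (false, 3, 1, 0), (false, 3, 1, 3), (false, 3, 1, 9), (false, 3, 1, 10), (false, 3, 1, 6), (false, 3, 1, 11), (false, 3, 1, 14), (false, 3, 1, 19), (false, 15, 1, 5), (false, 15, 1, 13), (false, 15, 1, 12), (false, 15, 1, 18), (false, 15, 1, 17), (false, 42, 0, 14), (false, 42, 0, 19), (false, 42, 0, 9), (false, 42, 0, 11), (false, 132, 4, 1), (false, 168, 1, 0), (false, 168, 1, 3), (false, 168, 1, 13), (false, 169, 1, 2), (false, 169, 1, 6), (false, 169, 1, 12), (false, 177, 0, 23), (false, 177, 0, 25), (false, 177, 0, 15), (false, 177, 0, 20), (true, 14, 1, 0)] 0 (ones 30) = true :=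
  by decide +kernel

theorem done_j3 : doneC.JustS Cfsg.Agent.XSC.CoU.A.π 3 (ones 30) :=
  TC.cover_step Cfsg.Agent.XSC.CoU.A.spec done_s (TC.justS_zero 3) done_c3_0

theorem done_c4_0 : doneC.coverC Cfsg.Agent.XSC.CoU.A.act 4 true [] [(true, 2, 0, 0), (false, 14, 0, 13), (false, 14, 0, 16), (false, 14, 0, 18), (false, 14, 0, 21), (false, 14, 0, 23), (false, 14, 0, 25), (false, 14, 0, 15), (false, 114, 2, 3), (false, 117, 2, 0), (false, 129, 1, 27), (false, 129, 1, 29), (false, 129, 1, 16), (false, 129, 1, 21), (false, 141, 2, 0), (false, 141, 2, 5), (false, 142, 0, 8), (false, 142, 0, 27), (false, 142, 0, 29), (false, 156, 1, 3), (false, 156, 1, 6), (false, 156, 3, 2), (false, 177, 1, 16), (false, 177, 1, 21)] 0 (ones 30) = true :=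
  by decide +kernel

theorem done_j4 : doneC.JustS Cfsg.Agent.XSC.CoU.A.π 4 (ones 30) :=
  TC.cover_step Cfsg.Agent.XSC.CoU.A.spec done_s (TC.justS_zero 4) done_c4_0

theorem done_c5_0 : doneC.coverC Cfsg.Agent.XSC.CoU.A.act 5 true [(132, 1)] [(true, 3, 0, 0), (false, 17, 0, 14), (false, 17, 0, 19), (false, 17, 0, 9), (false, 17, 0, 11), (false, 183, 1, 14), (false, 183, 1, 19), (false, 183, 1, 9), (false, 183, 1, 11), (true, 15, 1, 0)] 0 (ones 30) = true :=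
  by decide +kernel

theorem done_j5 : doneC.JustS Cfsg.Agent.XSC.CoU.A.π 5 (ones 30) :=
  TC.cover_step Cfsg.Agent.XSC.CoU.A.spec done_s (TC.justS_zero 5) done_c5_0

theorem done_c6_0 : doneC.coverC Cfsg.Agent.XSC.CoU.A.act 6 true [] [(true, 4, 0, 0), (false, 20, 0, 4), (false, 18, 1, 22), (false, 18, 1, 24), (false, 18, 1, 12), (false, 18, 1, 17), (false, 54, 1, 4), (false, 54, 1, 26), (false, 54, 1, 1), (false, 54, 1, 7), (false, 54, 1, 28), (false, 54, 1, 5), (false, 132, 3, 13), (false, 132, 3, 18), (false, 144, 3, 22), (false, 144, 3, 4), (false, 144, 3, 7), (false, 144, 5, 8), (false, 144, 5, 11), (false, 144, 5, 27), (false, 144, 5, 29), (false, 145, 0, 8), (false, 145, 0, 27), (false, 145, 0, 29), (false, 159, 1, 3), (false, 159, 1, 6), (false, 160, 1, 1), (false, 160, 1, 2), (false, 162, 1, 5)] 0 (ones 30) = true :=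
  by decide +kernel

theorem done_j6 : doneC.JustS Cfsg.Agent.XSC.CoU.A.π 6 (ones 30) :=
  TC.cover_step Cfsg.Agent.XSC.CoU.A.spec done_s (TC.justS_zero 6) done_c6_0

theorem done_c7_0 : doneC.coverC Cfsg.Agent.XSC.CoU.A.act 7 true [(33, 1)] [(true, 5, 0, 0), (false, 21, 1, 5), (false, 21, 1, 2), (false, 21, 1, 6), (false, 21, 1, 12), (false, 21, 1, 13), (false, 21, 1, 17), (false, 21, 1, 18), (false, 45, 1, 16), (false, 45, 1, 15), (false, 45, 1, 21), (false, 45, 1, 20), (false, 57, 1, 1), (false, 57, 1, 4), (false, 57, 1, 5), (false, 57, 1, 7), (false, 102, 1, 1), (true, 9, 1, 0), (true, 16, 1, 0), (true, 20, 2, 0)] 0 (ones 30) = true :=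
  by decide +kernel

theorem done_j7 : doneC.JustS Cfsg.Agent.XSC.CoU.A.π 7 (ones 30) :=
  TC.cover_step Cfsg.Agent.XSC.CoU.A.spec done_s (TC.justS_zero 7) done_c7_0

theorem done_c8_0 : doneC.coverC Cfsg.Agent.XSC.CoU.A.act 8 true [(6, 1), (24, 1)] [(true, 6, 0, 0), (false, 72, 1, 1), (false, 72, 1, 13), (false, 72, 1, 18), (true, 11, 1, 0), (true, 17, 1, 0), (true, 21, 2, 0), (true, 23, 3, 0), (true, 25, 4, 0)] 0 (ones 30) = true :=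
  by decide +kernel

theorem done_j8 : doneC.JustS Cfsg.Agent.XSC.CoU.A.π 8 (ones 30) :=
  TC.cover_step Cfsg.Agent.XSC.CoU.A.spec done_s (TC.justS_zero 8) done_c8_0

theorem done_c9_0 : doneC.coverC Cfsg.Agent.XSC.CoU.A.act 9 true [] [(false, 29, 0, 3), (false, 29, 0, 5), (false, 29, 0, 6), (false, 29, 0, 16), (false, 9, 1, 13), (false, 9, 1, 18), (false, 9, 1, 21), (false, 9, 1, 16), (false, 9, 1, 9), (false, 9, 1, 11), (false, 36, 1, 5), (false, 36, 1, 4), (false, 36, 1, 1), (false, 36, 1, 7), (false, 156, 2, 5), (false, 156, 2, 7), (false, 156, 2, 9), (false, 156, 2, 11), (false, 156, 5, 26), (false, 156, 5, 27), (false, 156, 5, 28), (false, 156, 5, 29), (false, 189, 2, 4), (true, 19, 2, 0), (true, 22, 3, 0), (true, 24, 3, 0), (true, 26, 4, 0)] 0 (ones 30) = true :=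
  by decide +kernel

theorem done_j9 : doneC.JustS Cfsg.Agent.XSC.CoU.A.π 9 (ones 30) :=
  TC.cover_step Cfsg.Agent.XSC.CoU.A.spec done_s (TC.justS_zero 9) done_c9_0

theorem done_c10_0 : doneC.coverC Cfsg.Agent.XSC.CoU.A.act 10 true [(27, 1)] [(true, 7, 0, 0), (false, 48, 1, 13), (false, 48, 1, 16), (false, 48, 1, 21), (false, 60, 1, 1), (false, 60, 1, 4), (false, 60, 1, 5), (false, 60, 1, 7), (false, 60, 1, 9), (false, 60, 1, 11), (false, 66, 1, 8), (false, 66, 1, 10), (false, 66, 1, 2), (false, 66, 1, 6), (false, 75, 1, 1), (false, 105, 1, 0), (false, 105, 1, 1), (false, 105, 1, 2), (false, 105, 1, 12), (true, 10, 1, 0), (true, 12, 1, 0)] 0 (ones 30) = true :=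
  by decide +kernel

theorem done_j10 : doneC.JustS Cfsg.Agent.XSC.CoU.A.π 10 (ones 30) :=
  TC.cover_step Cfsg.Agent.XSC.CoU.A.spec done_s (TC.justS_zero 10) done_c10_0

theorem done_c11_0 : doneC.coverC Cfsg.Agent.XSC.CoU.A.act 11 true [] [(true, 8, 0, 0), (false, 12, 1, 0), (false, 12, 1, 3), (false, 12, 1, 2), (false, 12, 1, 6), (false, 12, 1, 9), (false, 12, 1, 11), (false, 30, 1, 5), (false, 30, 1, 2), (false, 30, 1, 6), (false, 30, 1, 12), (false, 30, 1, 13), (false, 30, 1, 17), (false, 30, 1, 18), (false, 39, 1, 0), (false, 39, 1, 3), (false, 39, 1, 4), (false, 39, 1, 7), (false, 63, 1, 1), (false, 63, 1, 4), (false, 63, 1, 5), (false, 63, 1, 7), (false, 63, 1, 9), (false, 63, 1, 11), (false, 69, 1, 8), (false, 69, 1, 10), (false, 69, 1, 2), (false, 69, 1, 6), (false, 78, 1, 1), (false, 96, 1, 0)] 0 (ones 30) = true :=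
  by decide +kernel

theorem done_j11 : doneC.JustS Cfsg.Agent.XSC.CoU.A.π 11 (ones 30) :=
  TC.cover_step Cfsg.Agent.XSC.CoU.A.spec done_s (TC.justS_zero 11) done_c11_0

theorem done : doneC.Done Cfsg.Agent.XSC.CoU.A.π :=
  TC.done_of Cfsg.Agent.XSC.CoU.A.spec sat done_s ⟨done_j0, done_j1, done_j2, done_j3, done_j4, done_j5, done_j6, done_j7, done_j8, done_j9, done_j10, done_j11, trivial⟩

end A

def hsA : List (List ℕ) := [[9], [10], [11], [12], [13], [14], [15], [17], [18], [0], [7], [8]]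

theorem A_x : satC val X.I [1031679, 1046015, 524287] [] PA hsA (List.replicate 66 []) = true :=
  by decide +kernel

theorem A_l : loopC val X.I [1031679, 1046015, 524287] [] hsA [19] A.doneC.loops
  [([6, 1], []),
   ([6, 5, 3, 6, 5], []),
   ([6, 4], []),
   ([1, 5, 3, 1], []),
   ([6], []),
   ([9, 7, 9, 7], []),
   ([8, 5, 9, 7, 9, 5], []),
   ([10], []),
   ([11, 10], []),
   ([10, 8, 4, 1, 5, 8, 5, 1, 4], [([19], [9, 17, 9, 0, 12, 14, 17, 18, 12, 14, 17, 18, 0]), ([], [19, 0, 18, 17, 14, 12, 18, 17, 14, 12, 0, 19, 13, 10, 14, 18, 14, 10, 13, 18, 7])]),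
   ([10, 7, 5, 7, 5], [([19], [9, 7, 9, 18, 0, 18, 7, 0]), ([], [19, 0, 7, 18, 0, 18, 19, 14, 17, 14, 17, 7])]),
   ([11, 10, 1, 4, 3, 8, 7, 3, 4, 1], []),
   ([11, 7], []),
   ([9, 1, 9], []),
   ([6, 9, 3, 9, 6], []),
   ([9, 5, 9], []),
   ([9, 7, 9], []),
   ([10, 9, 8, 7, 9], []),
   ([6, 3, 4, 5, 3, 4, 3], [([19], [9, 15, 10, 9, 10, 14, 10, 13, 12, 15, 14, 13]), ([], [19, 13, 14, 15, 12, 13, 10, 14, 10, 19, 12, 13, 12, 14, 13, 12, 15])]),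
   ([9, 6, 9], [([19], [9, 15, 0, 15, 9, 10, 0, 10, 0]), ([], [19, 0, 10, 0, 10, 19, 0, 15, 0])]),
   ([9, 10, 1, 4, 3, 8, 3, 9, 4, 1], [([19], [9, 0, 17, 0, 9, 12, 14, 17, 18, 12, 14, 17, 18]), ([], [19, 18, 17, 14, 12, 18, 17, 14, 12, 19, 10, 13, 0, 12, 18, 12, 13, 10, 7, 0])]),
   ([8, 4, 3, 8, 4, 3, 8, 4, 3], []),
   ([9, 6, 9], [([19], [9, 0, 10, 0, 10, 0, 9, 10, 0, 10, 0]), ([], [19, 0, 10, 0, 10, 19, 0, 15, 0])]),
   ([6, 1, 5, 8, 5, 6, 1], [([19], [11, 10, 14, 18, 14, 10, 11, 10, 14, 18, 14, 10]), ([], [19, 10, 14, 18, 14, 10, 19, 10, 15, 14, 18, 14, 10, 15])]),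
   ([9, 1, 5, 6, 5, 9, 6, 1], [([19], [11, 10, 14, 0, 14, 10, 11, 10, 12, 0, 12, 0, 10]), ([], [19, 10, 0, 12, 0, 12, 10, 19, 10, 15, 0, 14, 15, 14, 10, 0])]),
   ([9, 5, 3, 8, 7, 5, 3, 9, 7], [([19], [11, 0, 10, 14, 18, 14, 10, 0, 11, 0, 10, 14, 18, 14, 10, 0]), ([], [19, 0, 10, 14, 18, 14, 10, 0, 19, 17, 0, 12, 14, 17, 18, 12, 14, 0])]),
   ([9, 1, 5, 6, 5, 9, 6, 1], [([19], [11, 0, 10, 14, 0, 14, 10, 0, 11, 10, 12, 0, 12, 0, 10]), ([], [19, 10, 0, 12, 0, 12, 10, 19, 10, 15, 0, 14, 15, 14, 10, 0])])] = true :=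
  by decide +kernel

def A_ss0 : List DT :=
  [⟨[1], [6, 1], 0, [], []⟩,
   ⟨[3], [6, 5, 3, 6, 5], 0, [], []⟩,
   ⟨[4], [6, 4], 0, [], []⟩,
   ⟨[5], [1, 5, 3, 1], 0, [], []⟩,
   ⟨[9, 1, 9], [9, 1, 9], 0, [], []⟩]

def A_ts0 : List DT :=
  [⟨[], [], 3, [], []⟩,
   ⟨[2], [], 1, [], []⟩,
   ⟨[9], [9], 0, [9], []⟩]

theorem A_s0 : stabC val X.I [1031679, 1046015, 524287] [] hsA [19] A_ss0 = true :=
  by decide +kernel

theorem A_t0 : trsC val X.I [1031679, 1046015, 524287] [] hsA [[19], [19, 11, 19], [19, 11, 19, 9, 19]] [19] [19] A_ts0 = true :=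
  by decide +kernel

theorem A_c0 : covC A.act A.doneC.n 3 A_ss0 A_ts0 = true :=
  by decide +kernel

def A_ss1 : List DT :=
  [⟨[1], [4], 0, [], []⟩,
   ⟨[3], [3, 6, 4, 3, 6, 4, 3], 0, [], []⟩,
   ⟨[4], [1], 0, [], []⟩,
   ⟨[9, 3, 1, 9], [6, 9, 4, 3, 9, 6, 3, 4, 3, 1], 0, [], []⟩,
   ⟨[9, 2], [9, 2, 4, 1], 0, [], []⟩]

def A_ts1 : List DT :=
  [⟨[], [], 0, [2], []⟩,
   ⟨[0], [], 2, [], []⟩,
   ⟨[9], [9, 6, 9], 1, [9, 6], []⟩]

theorem A_s1 : stabC val X.I [1031679, 1046015, 524287] [] hsA [19, 11, 19] A_ss1 = true :=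
  by decide +kernel

theorem A_t1 : trsC val X.I [1031679, 1046015, 524287] [] hsA [[19], [19, 11, 19], [19, 11, 19, 9, 19]] [19] [19, 11, 19] A_ts1 = true :=
  by decide +kernel

theorem A_c1 : covC A.act A.doneC.n 2 A_ss1 A_ts1 = true :=
  by decide +kernel

def A_ss2 : List DT :=
  [⟨[7], [6, 5, 9, 10, 8, 9, 5, 6], 0, [], [([9, 19, 11, 19], [19, 17, 19, 17, 0, 17, 0]), ([19, 11, 19], [9, 0, 17, 0, 17, 9, 13, 18, 0, 18, 7, 0, 13]), ([11, 19], [19, 13, 0, 7, 18, 0, 18, 13, 19, 10, 13, 17, 18, 13, 10, 18]), ([19], [11, 18, 10, 13, 18, 17, 13, 10, 11, 15, 14, 17, 18, 14, 17, 15, 7]), ([], [19, 7, 15, 17, 14, 18, 17, 14, 15, 19, 15, 14, 0, 18, 7, 0, 14, 15])]⟩,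
   ⟨[1, 5, 3, 1], [5, 6, 1, 5, 4, 3, 1], 0, [], [([9, 19, 11, 19], [19, 10, 14, 12, 10, 19, 14]), ([19, 11, 19], [9, 14, 9, 15, 12, 15]), ([11, 19], [19, 15, 12, 15, 19, 12, 14, 15, 14, 15]), ([19], [11, 15, 14, 15, 14, 12, 11, 10, 12, 13, 10, 15, 12]), ([], [19, 12, 15, 10, 13, 12, 10, 19, 10, 12, 13, 14, 10, 15, 14])]⟩,
   ⟨[6, 5, 3, 6, 5], [4, 1, 5, 6, 5, 1], 0, [], [([9, 19, 11, 19], [19, 15, 14, 12, 15, 14, 19, 12]), ([19, 11, 19], [9, 12, 9, 12]), ([11, 19], [19, 12, 19, 14, 15, 12, 14, 15]), ([19], [11, 15, 14, 12, 15, 14, 11, 10, 14, 15, 14, 10, 13, 15]), ([], [19, 15, 13, 10, 14, 15, 14, 10, 19, 10, 14, 15, 14, 10, 13])]⟩,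
   ⟨[9, 6, 5, 6, 9], [4, 9, 3, 1, 9, 3, 1], 0, [], [([9, 19, 11, 19], [19, 0, 15, 14, 15, 0, 19, 12, 0, 12, 14, 0]), ([19, 11, 19], [9, 0, 14, 12, 0, 12, 9, 10, 14, 10, 0, 14, 0]), ([11, 19], [19, 0, 14, 0, 10, 14, 10, 19, 14, 15, 12, 0, 14, 0, 15]), ([19], [11, 15, 0, 14, 0, 12, 15, 14, 11, 10, 14, 0, 15, 0, 14, 10, 13, 15]), ([], [19, 15, 13, 10, 14, 0, 15, 0, 14, 10, 19, 10, 12, 0, 10, 12, 0, 13])]⟩,
   ⟨[3, 9, 4, 9, 3], [3, 4, 9, 3, 4, 2], 0, [], [([9, 19, 11, 19], [19, 12, 0, 13, 0, 12, 19, 12, 0, 13, 0, 12]), ([19, 11, 19], [9, 12, 0, 13, 0, 12, 9, 11, 13, 12, 0, 13, 12]), ([], [19, 11, 19, 12, 13, 0, 12, 13, 11, 19, 11, 19, 11, 13, 12, 0, 13, 12])]⟩,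
   ⟨[5, 0, 5, 9, 3], [9, 1, 4, 3, 9, 6, 5, 6, 4, 1], 0, [], [([19, 11, 19], [9, 13, 10, 12, 13, 14, 11, 14, 13, 10, 12, 13]), ([11, 14, 13, 10, 12, 13, 19, 11, 19], [14, 13, 12, 10, 13, 19, 13, 10, 12, 13, 14, 15, 19]), ([11, 19], [19, 13, 12, 10, 13, 14, 19, 13, 14, 13, 10, 14, 13]), ([19, 12, 0, 14, 9, 14, 13, 10, 12, 13, 14, 15, 19, 11, 19, 13, 14, 13, 10, 14, 13, 11, 19], [9, 13, 10, 12, 13, 14, 11, 14, 13, 10, 12, 13]), ([11, 14, 13, 10, 12, 13, 19, 12, 0, 14, 9, 14, 13, 10, 12, 13, 14, 15, 19, 11, 19, 13, 14, 13, 10, 14, 13, 11, 19], [14, 13, 12, 10, 13, 19, 13, 10, 12, 13, 14, 15, 19]), ([12, 0, 14, 9, 14, 13, 10, 12, 13, 14, 15, 19, 11, 19, 13, 14, 13, 10, 14, 13, 11, 19], [19, 13, 12, 10, 13, 14, 19, 13, 14, 13, 10, 14, 13]), ([19, 11, 19, 13, 14, 13, 10, 14, 13, 11, 19], [15, 14, 13, 12, 10, 13, 14, 9, 14, 0, 12, 13, 14, 10, 13, 14, 13, 10, 15, 11,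 12, 11, 15, 0, 12]), ([13, 14, 13, 10, 14, 13, 11, 19], [19, 11, 19, 12, 0, 15, 11, 12, 11, 15, 10, 19, 11, 19, 10, 13, 0, 12, 11, 10, 0]), ([19], [11, 13, 14, 10, 13, 14, 13, 0, 10, 11, 12, 0, 13, 10, 15, 14, 13, 12, 10, 13, 11, 10, 13, 15, 14, 15, 0, 12, 13, 10, 0]), ([], [19, 0, 10, 13, 12, 0, 15, 14, 15, 13, 10, 19, 10, 13, 15, 14, 15, 0, 12, 13, 10, 0])]⟩]

def A_ts2 : List DT :=
  [⟨[], [], 1, [0], []⟩,
   ⟨[9], [9, 5, 9, 1, 5], 2, [3, 9, 6, 9, 3, 9], [([9, 19, 11, 19], [19, 0, 19, 0, 19, 0]), ([19], [11, 10, 14, 0, 15, 0, 14, 10, 11, 10, 12, 14, 15, 0, 14, 0]), ([11, 10, 12, 14, 15, 0, 14, 0, 19], [10, 14, 0, 15, 0, 14, 10, 19, 10, 12, 0, 10, 12, 0, 19]), ([], [19, 0, 14, 0, 15, 14, 12, 10, 19, 14, 10, 0, 14, 0]), ([19, 11, 19, 14, 10, 0, 14, 0], [0, 12, 10, 0, 12, 10, 9, 0, 10, 12, 0, 10, 0, 12, 9]), ([9, 19, 11, 19, 14, 10, 0, 14, 0], [12, 0, 10, 0,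 12, 10, 19, 12, 0, 15, 0, 12, 19])]⟩]

theorem A_s2 : stabC val X.I [1031679, 1046015, 524287] [] hsA [19, 11, 19, 9, 19] A_ss2 = true :=
  by decide +kernel

theorem A_t2 : trsC val X.I [1031679, 1046015, 524287] [] hsA [[19], [19, 11, 19], [19, 11, 19, 9, 19]] [19] [19, 11, 19, 9, 19] A_ts2 = true :=
  by decide +kernel

theorem A_c2 : covC A.act A.doneC.n 4 A_ss2 A_ts2 = true :=
  by decide +kernel

theorem A_w : subWC val X.I [524287] 983039 21 ([19] :: hsA) [[10], [4, 3, 11, 1, 11, 3, 4, 1], [12, 10, 6, 10, 6], [11, 1, 11, 1], [12, 4, 10, 4, 2, 10, 2], [10, 8, 10, 8], [12, 10, 4, 10, 4], [11], [12], [1], [2], [3], [4], [5], [6], [7], [], [8], [9], [0]] = true :=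
  by decide +kernel

theorem y1 : rdfC val X 1031679 1048576 [[], [], [], [], [], [], [], [], [], [], [], [], [], [], [], [], [], [], [], [], [19, 0, 11, 19, 10, 13, 10]] = true :=
  by decide +kernel

theorem y2 : rdfC val X 983039 1048576 [[], [], [], [], [], [], [], [], [], [], [], [], [], [], [], [], [], [], [], [], [19, 0, 11, 19, 10, 13, 10]] = true :=
  by decide +kernel

theorem stA {G : Type*} [Group G] [Finite G] {z : G} {t : ℕ → G × Co1}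
    (h : StB z t [1031679, 1046015, 524287]) : ∃ t, StB z t [2031615, 2080255, 524287] := by
  obtain ⟨o, hC, Q, P, R, c⟩ := h
  have x := o.sat A_x
  have o0 : St t m val X.I [524287] [] := ⟨o.toOv, ⟨c.gr, trivial⟩, trivial⟩
  have o1 := o.addS ((o.dc A.done x A_l ⟨o.dok A.done A.spec x A_s0 A_t0 A_c0,
    o.dok A.done A.spec x A_s1 A_t1 A_c1,
    o.dok A.done A.spec x A_s2 A_t2 A_c2, trivial⟩ (orc2.cent [8])
    (by decide +kernel)).mono (o0.le_genW A_w))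
  obtain ⟨o2, h2⟩ := o1.defn rfl y1 (by decide +kernel)
  exact ⟨_, ⟨o2.toOv, ⟨h2 983039 (by decide +kernel) y2, h2 1031679 (by decide +kernel) y1,
    o2.grS (by decide +kernel), trivial⟩, trivial⟩, hC, Q, P, R, c.congr (rdf_on t _ (by decide +kernel))⟩

end Cfsg.Agent.XSC.CoU
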