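import Cfsg.Agent.XSC.CoX

set_option autoImplicit false
set_option Elab.async false
set_option maxRecDepth 100000

namespace Cfsg.Agent.XSC.CoU

open Cfsg.Agent.Comp.BN Cfsg.Agent.C1M Cfsg.Spor Cfsg.Agent.XSC.CoO Cfsg.Agent.TT Cfsg.Agent.LES Subgroup

def PU : Pres := ⟨[0, 1, 2, 3, 4, 5, 6, 7, 8, 9],
  [[0, 2, 0, 2],
   [0, 3, 0, 3],
   [0, 7, 0, 7],
   [0, 9, 0, 9],
   [1, 3, 1, 3],
   [1, 6, 1, 6],
   [1, 8, 1, 8],
   [1, 9, 1, 9],
   [2, 5, 2, 5],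
   [2, 6, 2, 6],
   [2, 7, 2, 7],
   [2, 9, 2, 9],
   [3, 6, 3, 6],
   [3, 8, 3, 8],
   [3, 9, 3, 9],
   [4, 6, 4, 6],
   [4, 8, 4, 8],
   [4, 9, 4, 9],
   [5, 6, 5, 6],
   [5, 8, 5, 8],
   [5, 9, 5, 9],
   [6, 8, 6, 8],
   [6, 9, 6, 9],
   [7, 9, 7, 9],
   [8, 9, 8, 9],
   [7, 8, 7, 8, 9],
   [0, 1, 0, 1, 0, 1],
   [0, 2, 0, 5, 2, 5],
   [0, 2, 0, 6, 2, 6],
   [0, 2, 4, 0, 2, 4],
   [0, 2, 4, 2, 0, 4],
   [0, 3, 0, 6, 3, 6],
   [0, 3, 0, 8, 3, 8],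
   [0, 4, 0, 4, 2, 4],
   [1, 2, 1, 2, 1, 2],
   [1, 2, 4, 1, 2, 4],
   [1, 3, 5, 1, 3, 5],
   [1, 3, 5, 3, 1, 5],
   [1, 4, 1, 4, 1, 4],
   [1, 4, 5, 4, 1, 5],
   [1, 4, 7, 4, 1, 7],
   [1, 5, 1, 5, 8, 9],
   [1, 5, 1, 5, 9, 8],
   [2, 3, 2, 3, 2, 3],
   [2, 3, 4, 2, 3, 4],
   [2, 5, 2, 8, 5, 8],
   [2, 6, 2, 8, 6, 8],
   [3, 4, 3, 4, 3, 4],
   [3, 4, 5, 4, 3, 5],
   [3, 5, 3, 5, 8, 9],
   [3, 5, 3, 5, 9, 8],
   [4, 5, 4, 5, 8, 9],
   [4, 5, 4, 5, 9, 8],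
   [5, 6, 7, 5, 6, 7],
   [5, 6, 7, 6, 5, 7]]⟩

namespace U
noncomputable def m0_0 : ℕ := nat_lit 0x7a0c0c1c24418000400fa000

noncomputable def m0_1 : ℕ := nat_lit 0x3319012fe3a0000000000000a0e03347d780

noncomputable def m0_2 : ℕ := nat_lit 0xdf0010000000a52d4a00000030000000000085bfe0

noncomputable def m0_3 : ℕ := nat_lit 0xbc1000194000f000002400001080007900008a0000e88

noncomputable def m0_4 : ℕ := nat_lit 0x603c01c00a02a00e02400c02001c020008026026004028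

noncomputable def m0_5 : ℕ := nat_lit 0x1030030800840420850c10001811400041050c00041c4

noncomputable def m0_6 : ℕ := nat_lit 0x1000000201000000209200048001201000000200000040

noncomputable def m0_7 : ℕ := nat_lit 0x12402082412402000492490092012482400480400080490

noncomputable def m0_8 : ℕ := nat_lit 0x200041208241048008209040048008049040040048209201

noncomputable def m0_9 : ℕ := nat_lit 0x102082080084002080100000006080000080000000004

noncomputable def m0_10 : ℕ := nat_lit 0x600800200800800a02400c02001c020000026022004028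

noncomputable def m0_11 : ℕ := nat_lit 0xac0000194000f00000240000108000790000c40000688

noncomputable def m0_12 : ℕ := nat_lit 0xff1180000000a52c4800000030000000000085bfe0

noncomputable def m0_13 : ℕ := nat_lit 0x3319012fe3a0000000000000a0e03346d780

noncomputable def m0_14 : ℕ := nat_lit 0x7a0c0c1c24418000400fa000

noncomputable def net0 : Net := (.cons 96 m0_0 (.cons 48 m0_1 (.cons 24 m0_2 (.cons 12 m0_3 (.cons 6 m0_4 (.cons 3 m0_5 (.cons 1 m0_6 (.cons 1 m0_7 (.cons 1 m0_8 (.cons 3 m0_9 (.cons 6 m0_10 (.cons 12 m0_11 (.cons 24 m0_12 (.cons 48 m0_13 (.cons 96 m0_14 .nil)))))))))))))))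

theorem ok0 : Net.ok 192 net0 = true :=
  by decide +kernel

noncomputable def m1_0 : ℕ := nat_lit 0x772000692362624f50085000

noncomputable def m1_1 : ℕ := nat_lit 0xa02398971444000000000000447d1c2ee840

noncomputable def m1_2 : ℕ := nat_lit 0x7422140000006697ac0000008401400000008ac000

noncomputable def m1_3 : ℕ := nat_lit 0x6140007670007a0000ae800024000032a000880000bbc

noncomputable def m1_4 : ℕ := nat_lit 0x3400c02101303601002001a00802e02202000a038034014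

noncomputable def m1_5 : ℕ := nat_lit 0x1400840801041840841c10870840c60821c6100004105042

noncomputable def m1_6 : ℕ := nat_lit 0x1201200000008000001008040201041200001009000

noncomputable def m1_7 : ℕ := nat_lit 0x402012402480010092010012010492482492410002412402

noncomputable def m1_8 : ℕ := nat_lit 0x1208248001208240008009200201201201249201008

noncomputable def m1_9 : ℕ := nat_lit 0x100004104000004084000000004100080006100004100106

noncomputable def m1_10 : ℕ := nat_lit 0x1400402003603601002001a00802e02202000a020028020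

noncomputable def m1_11 : ℕ := nat_lit 0x614000c000007a0000ae8000200000362000880000a2c

noncomputable def m1_12 : ℕ := nat_lit 0x7422140000006217ac0000000005000000008ac000

noncomputable def m1_13 : ℕ := nat_lit 0xa02398971444000000000000447d1c2ee840

noncomputable def m1_14 : ℕ := nat_lit 0x772000692362624f50085000

noncomputable def net1 : Net := (.cons 96 m1_0 (.cons 48 m1_1 (.cons 24 m1_2 (.cons 12 m1_3 (.cons 6 m1_4 (.cons 3 m1_5 (.cons 1 m1_6 (.cons 1 m1_7 (.cons 1 m1_8 (.cons 3 m1_9 (.cons 6 m1_10 (.cons 12 m1_11 (.cons 24 m1_12 (.cons 48 m1_13 (.cons 96 m1_14 .nil)))))))))))))))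

theorem ok1 : Net.ok 192 net1 = true :=
  by decide +kernel

noncomputable def m2_0 : ℕ := nat_lit 0x9569378381218aea0e83c000

noncomputable def m2_1 : ℕ := nat_lit 0x250ac4e3182400000000000086c0a2e74400

noncomputable def m2_2 : ℕ := nat_lit 0xd7efe20000000d716200000076f709000000d40068

noncomputable def m2_3 : ℕ := nat_lit 0xbb00003200003d0000f62000790000090000740000d20

noncomputable def m2_4 : ℕ := nat_lit 0x30029019028006014036020028014013010039038034000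

noncomputable def m2_5 : ℕ := nat_lit 0x1820041820841801040820020051000c50021c2006004000

noncomputable def m2_6 : ℕ := nat_lit 0x48041041040040040008201201000000200008240000008

noncomputable def m2_7 : ℕ := nat_lit 0x92092082080480090092482412012000402010492480090

noncomputable def m2_8 : ℕ := nat_lit 0x248041049241201001048049248000048248249240009008

noncomputable def m2_9 : ℕ := nat_lit 0x82104006080000080084002002000082082002000000000

noncomputable def m2_10 : ℕ := nat_lit 0x3000003c02800e02000a00002801400a010028038034000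

noncomputable def m2_11 : ℕ := nat_lit 0xad00003200003d00000c2000790000040000740000d20

noncomputable def m2_12 : ℕ := nat_lit 0xd7ebe200000050b32200000076f608000000d40068

noncomputable def m2_13 : ℕ := nat_lit 0x250ac4e3182400000000000086c0a2c74400

noncomputable def m2_14 : ℕ := nat_lit 0x9569378381218aea0e83c000

noncomputable def net2 : Net := (.cons 96 m2_0 (.cons 48 m2_1 (.cons 24 m2_2 (.cons 12 m2_3 (.cons 6 m2_4 (.cons 3 m2_5 (.cons 1 m2_6 (.cons 1 m2_7 (.cons 1 m2_8 (.cons 3 m2_9 (.cons 6 m2_10 (.cons 12 m2_11 (.cons 24 m2_12 (.cons 48 m2_13 (.cons 96 m2_14 .nil)))))))))))))))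

theorem ok2 : Net.ok 192 net2 = true :=
  by decide +kernel

noncomputable def m3_0 : ℕ := nat_lit 0x540280260641808480b00000

noncomputable def m3_1 : ℕ := nat_lit 0x7223fa0e758400000000000008ce4ce0d000

noncomputable def m3_2 : ℕ := nat_lit 0x8883b6000000576e8c00000000e1be000000e1c000

noncomputable def m3_3 : ℕ := nat_lit 0xf28000704000a0c00006c00020800042e000600000410

noncomputable def m3_4 : ℕ := nat_lit 0x3a01403400d00a00600603a00001100c03000c01802f000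

noncomputable def m3_5 : ℕ := nat_lit 0xc60400840041c71000801c70021041c40411840c0186004

noncomputable def m3_6 : ℕ := nat_lit 0x40041200200040000000200000000040040000000200008

noncomputable def m3_7 : ℕ := nat_lit 0x482492410482090412010400010400482482400090400410

noncomputable def m3_8 : ℕ := nat_lit 0x48201240208209040041209001000208200201000008008

noncomputable def m3_9 : ℕ := nat_lit 0x86180084084000100080100002100004180180104182004

noncomputable def m3_10 : ℕ := nat_lit 0x3a01403000802400600203a00001000c03000c02c024000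

noncomputable def m3_11 : ℕ := nat_lit 0xf22000202000a0c00006400000000042e000400000400

noncomputable def m3_12 : ℕ := nat_lit 0x88a394000000576e8c00000000e0ae000000e90000

noncomputable def m3_13 : ℕ := nat_lit 0x7623f20eb08400000000000008ca4ce0d000

noncomputable def m3_14 : ℕ := nat_lit 0x540280660641808500b00000

noncomputable def net3 : Net := (.cons 96 m3_0 (.cons 48 m3_1 (.cons 24 m3_2 (.cons 12 m3_3 (.cons 6 m3_4 (.cons 3 m3_5 (.cons 1 m3_6 (.cons 1 m3_7 (.cons 1 m3_8 (.cons 3 m3_9 (.cons 6 m3_10 (.cons 12 m3_11 (.cons 24 m3_12 (.cons 48 m3_13 (.cons 96 m3_14 .nil)))))))))))))))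

theorem ok3 : Net.ok 192 net3 = true :=
  by decide +kernel

noncomputable def m4_0 : ℕ := nat_lit 0x61d20300d8409cbe20c00000

noncomputable def m4_1 : ℕ := nat_lit 0x41009b1e13c000000000000090b8e5374002

noncomputable def m4_2 : ℕ := nat_lit 0xc5ccec000000f51b1a000000989784000000f6202c

noncomputable def m4_3 : ℕ := nat_lit 0xe90000680000c02000401000a420002380000000008d0

noncomputable def m4_4 : ℕ := nat_lit 0x1102803800402903502e00600e03c02a01803c00c03c010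

noncomputable def m4_5 : ℕ := nat_lit 0x841031801840060841c4104107184005100102181084180

noncomputable def m4_6 : ℕ := nat_lit 0x208048001001001041040000001200208041048200000048

noncomputable def m4_7 : ℕ := nat_lit 0x410492002002082492482002092410410092092400412092

noncomputable def m4_8 : ℕ := nat_lit 0x208041001041040041208248001240048049040240048048

noncomputable def m4_9 : ℕ := nat_lit 0x4104000084180102004004106184100100104180082100

noncomputable def m4_10 : ℕ := nat_lit 0x1002803000401600200c00600e01c00601803c00c03c010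

noncomputable def m4_11 : ℕ := nat_lit 0xe90000480000e02000400000a420004080000000008d0

noncomputable def m4_12 : ℕ := nat_lit 0xc5c8e4000000f51b1a0000009a0504000000c6002c

noncomputable def m4_13 : ℕ := nat_lit 0x41809b3e11c000000000000090b8e5374002

noncomputable def m4_14 : ℕ := nat_lit 0x61d20300d8409cbe20c00000

noncomputable def net4 : Net := (.cons 96 m4_0 (.cons 48 m4_1 (.cons 24 m4_2 (.cons 12 m4_3 (.cons 6 m4_4 (.cons 3 m4_5 (.cons 1 m4_6 (.cons 1 m4_7 (.cons 1 m4_8 (.cons 3 m4_9 (.cons 6 m4_10 (.cons 12 m4_11 (.cons 24 m4_12 (.cons 48 m4_13 (.cons 96 m4_14 .nil)))))))))))))))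

theorem ok4 : Net.ok 192 net4 = true :=
  by decide +kernel

noncomputable def m5_0 : ℕ := nat_lit 0x47d304403ec20011040000c0

noncomputable def m5_1 : ℕ := nat_lit 0x77e6d719d7000000000000002c0490d90200

noncomputable def m5_2 : ℕ := nat_lit 0xe1ca100000004be1000000002108f0000000396110

noncomputable def m5_3 : ℕ := nat_lit 0xe4e000dc3000f2c000e8c000020000e2a000781000a80

noncomputable def m5_4 : ℕ := nat_lit 0x3c01403701b02a00d03000800802003603802203e025012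

noncomputable def m5_5 : ℕ := nat_lit 0x71801010c30c01021060041060840060c4000042144082

noncomputable def m5_6 : ℕ := nat_lit 0x208200000200200041008000040040041008000201240

noncomputable def m5_7 : ℕ := nat_lit 0x2412412090400400082490002080090492490400492480

noncomputable def m5_8 : ℕ := nat_lit 0x201008248241008000200248048249041201009001041240

noncomputable def m5_9 : ℕ := nat_lit 0x86082002102180006000006080006104002000084000

noncomputable def m5_10 : ℕ := nat_lit 0x3401802800002000c03002400802001603803202a004000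

noncomputable def m5_11 : ℕ := nat_lit 0x3040008720003ac000e4c000020000c28000130000a80

noncomputable def m5_12 : ℕ := nat_lit 0xc332b80000000422200000002108f0000000396110

noncomputable def m5_13 : ℕ := nat_lit 0x74a4db0669000000000000002c0490d90200

noncomputable def m5_14 : ℕ := nat_lit 0x47d304403ec20011040000c0

noncomputable def net5 : Net := (.cons 96 m5_0 (.cons 48 m5_1 (.cons 24 m5_2 (.cons 12 m5_3 (.cons 6 m5_4 (.cons 3 m5_5 (.cons 1 m5_6 (.cons 1 m5_7 (.cons 1 m5_8 (.cons 3 m5_9 (.cons 6 m5_10 (.cons 12 m5_11 (.cons 24 m5_12 (.cons 48 m5_13 (.cons 96 m5_14 .nil)))))))))))))))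

theorem ok5 : Net.ok 192 net5 = true :=
  by decide +kernel

noncomputable def m6_0 : ℕ := nat_lit 0x8f7230200100002280040000

noncomputable def m6_1 : ℕ := nat_lit 0xffb832510020000000000000002228010000

noncomputable def m6_2 : ℕ := nat_lit 0x228f660000004fd100000000903990000000040220

noncomputable def m6_3 : ℕ := nat_lit 0xe6c0007710004f40000a0000880000490000180000d00

noncomputable def m6_4 : ℕ := nat_lit 0x802e00803a02a01600402001801c00a02100401c024030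

noncomputable def m6_5 : ℕ := nat_lit 0x60041c01c6044140006180003147100102000181002000

noncomputable def m6_6 : ℕ := nat_lit 0x41248008240001008000040000009000041000200201200

noncomputable def m6_7 : ℕ := nat_lit 0x82490010480402092002480080412400082000400412410

noncomputable def m6_8 : ℕ := nat_lit 0x40249248248001008041040000009008241240240201200

noncomputable def m6_9 : ℕ := nat_lit 0x6004000002004100006180000100100004000180002000

noncomputable def m6_10 : ℕ := nat_lit 0x2e00803a02800600002001801c00800400001c024030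

noncomputable def m6_11 : ℕ := nat_lit 0x26c0007700004f00000a0000080000490000180000d00

noncomputable def m6_12 : ℕ := nat_lit 0x228f6600000047d000000000903990000000040220

noncomputable def m6_13 : ℕ := nat_lit 0xfea822510000000000000000002228010000

noncomputable def m6_14 : ℕ := nat_lit 0x8f7230200100002280040000

noncomputable def net6 : Net := (.cons 96 m6_0 (.cons 48 m6_1 (.cons 24 m6_2 (.cons 12 m6_3 (.cons 6 m6_4 (.cons 3 m6_5 (.cons 1 m6_6 (.cons 1 m6_7 (.cons 1 m6_8 (.cons 3 m6_9 (.cons 6 m6_10 (.cons 12 m6_11 (.cons 24 m6_12 (.cons 48 m6_13 (.cons 96 m6_14 .nil)))))))))))))))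

theorem ok6 : Net.ok 192 net6 = true :=
  by decide +kernel

noncomputable def m7_0 : ℕ := nat_lit 0xd414006d5dc804f218070000

noncomputable def m7_1 : ℕ := nat_lit 0xd59860915f140000000000002401b4d90000

noncomputable def m7_2 : ℕ := nat_lit 0x6258800000008968a10000002102d0000000510d28

noncomputable def m7_3 : ℕ := nat_lit 0xe80000244000d00000d06000400000c88000e10000768

noncomputable def m7_4 : ℕ := nat_lit 0x3a02001a02000401c02902e00200003a018010010038023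

noncomputable def m7_5 : ℕ := nat_lit 0x440801821841060021800800040061400821860001c0102

noncomputable def m7_6 : ℕ := nat_lit 0x200201001001008200048000000000000008208000241

noncomputable def m7_7 : ℕ := nat_lit 0x400400402002002010482092010012010000412410010492

noncomputable def m7_8 : ℕ := nat_lit 0x1241249041041208200248240040000201208008248041

noncomputable def m7_9 : ℕ := nat_lit 0x80182084004000180080004000000082006180000084

noncomputable def m7_10 : ℕ := nat_lit 0x3a02001a02000403802800e002000038018010010038014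

noncomputable def m7_11 : ℕ := nat_lit 0xe80000244000d00000d06000400000c88000580000968

noncomputable def m7_12 : ℕ := nat_lit 0x625880000000096a800000002100d0000000510d28

noncomputable def m7_13 : ℕ := nat_lit 0xd598609117040000000000002401b4d90000

noncomputable def m7_14 : ℕ := nat_lit 0xd414006d5dc804f218070000

noncomputable def net7 : Net := (.cons 96 m7_0 (.cons 48 m7_1 (.cons 24 m7_2 (.cons 12 m7_3 (.cons 6 m7_4 (.cons 3 m7_5 (.cons 1 m7_6 (.cons 1 m7_7 (.cons 1 m7_8 (.cons 3 m7_9 (.cons 6 m7_10 (.cons 12 m7_11 (.cons 24 m7_12 (.cons 48 m7_13 (.cons 96 m7_14 .nil)))))))))))))))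

theorem ok7 : Net.ok 192 net7 = true :=
  by decide +kernel

noncomputable def m8_0 : ℕ := nat_lit 0x7334082031d18046200c4000

noncomputable def m8_1 : ℕ := nat_lit 0x1716eb8190200000000000008003e5925300

noncomputable def m8_2 : ℕ := nat_lit 0x38ab14000000c75280000000481780000000ed0200

noncomputable def m8_3 : ℕ := nat_lit 0xf88000fa0000b00000108000cc1000cc0000080000900

noncomputable def m8_4 : ℕ := nat_lit 0x1f00602701501500501402400401e02402a01400100c000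

noncomputable def m8_5 : ℕ := nat_lit 0xc40c20041020000450041841000c61c0005000081002100

noncomputable def m8_6 : ℕ := nat_lit 0x208008000008008200001048040048000000240041001000

noncomputable def m8_7 : ℕ := nat_lit 0x412012400412412402002090480492400082480092402000

noncomputable def m8_8 : ℕ := nat_lit 0x249000041008008001001248040208000000240009009000

noncomputable def m8_9 : ℕ := nat_lit 0x4002102000086004184180106100100000084002000

noncomputable def m8_10 : ℕ := nat_lit 0x3400602400001403a00002400401e00400c00401400c000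

noncomputable def m8_11 : ℕ := nat_lit 0xe00000da0000b00000108000cc0000cc0000000000900

noncomputable def m8_12 : ℕ := nat_lit 0x3d8b14000000c75280000000485300000000ed0000

noncomputable def m8_13 : ℕ := nat_lit 0x1506eb8190200000000000008003e5925300

noncomputable def m8_14 : ℕ := nat_lit 0x7334082031d18046200c4000

noncomputable def net8 : Net := (.cons 96 m8_0 (.cons 48 m8_1 (.cons 24 m8_2 (.cons 12 m8_3 (.cons 6 m8_4 (.cons 3 m8_5 (.cons 1 m8_6 (.cons 1 m8_7 (.cons 1 m8_8 (.cons 3 m8_9 (.cons 6 m8_10 (.cons 12 m8_11 (.cons 24 m8_12 (.cons 48 m8_13 (.cons 96 m8_14 .nil)))))))))))))))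

theorem ok8 : Net.ok 192 net8 = true :=
  by decide +kernel

noncomputable def net9 : Net := .nil

theorem ok9 : Net.ok 192 net9 = true :=
  by decide +kernel

noncomputable def nets : List Net := [net0, net1, net2, net3, net4, net5, net6, net7, net8, net9]

noncomputable def act : Act := netAct' nets
noncomputable def π : ℕ → Equiv.Perm ℕ := netPerm nets

theorem spec : act.Spec 192 π :=
  spec_fast (netAct_spec (AllP.forall (p := fun t => Net.ok 192 t = true) ⟨ok0, ok1, ok2, ok3, ok4, ok5, ok6, ok7, ok8, ok9, trivial⟩))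

theorem out : ∀ k, 10 ≤ k → π k = 1 :=
  netPerm_out nets

theorem sat_inv_0 : invC Cfsg.Agent.XSC.CoU.U.act Cfsg.Agent.XSC.CoU.PU.I 192 8 Cfsg.Agent.XSC.CoU.PU.inv.length [0, 1, 2, 3, 4, 5, 6, 7] = true :=
  by decide +kernel

theorem sat_inv : ∀ k, Cfsg.Agent.XSC.CoU.U.π (Cfsg.Agent.XSC.CoU.PU.I k) * Cfsg.Agent.XSC.CoU.U.π k = 1 :=
  inv_of_checks Cfsg.Agent.XSC.CoU.U.spec (K := 8) (by decide) Cfsg.Agent.XSC.CoU.U.out [[0, 1, 2, 3, 4, 5, 6, 7]] (by decide) ⟨sat_inv_0, trivial⟩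

theorem sat_rel_0_0 : relsC Cfsg.Agent.XSC.CoU.U.act Cfsg.Agent.XSC.CoU.PU.I 192 8 [[0, 2, 0, 2], [0, 3, 0, 3], [0, 7, 0, 7], [0, 9, 0, 9], [1, 3, 1, 3], [1, 6, 1, 6], [1, 8, 1, 8], [1, 9, 1, 9], [2, 5, 2, 5], [2, 6, 2, 6], [2, 7, 2, 7], [2, 9, 2, 9], [3, 6, 3, 6], [3, 8, 3, 8], [3, 9, 3, 9], [4, 6, 4, 6], [4, 8, 4, 8], [4, 9, 4, 9], [5, 6, 5, 6], [5, 8, 5, 8], [5, 9, 5, 9], [6, 8, 6, 8], [6, 9, 6, 9], [7, 9, 7, 9], [8, 9, 8, 9], [7, 8, 7, 8, 9], [0, 1, 0, 1, 0, 1], [0, 2, 0, 5, 2, 5], [0, 2, 0, 6, 2, 6], [0, 2, 4, 0, 2, 4], [0, 2, 4, 2, 0, 4], [0, 3, 0, 6, 3, 6], [0, 3, 0, 8, 3, 8], [0, 4, 0, 4, 2, 4], [1, 2, 1, 2, 1, 2], [1, 2, 4, 1, 2, 4], [1, 3, 5, 1, 3, 5], [1, 3, 5, 3, 1, 5], [1, 4, 1, 4, 1, 4], [1, 4, 5, 4, 1, 5], [1, 4, 7, 4, 1, 7], [1, 5, 1, 5, 8, 9], [1, 5, 1, 5, 9, 8], [2, 3, 2, 3, 2, 3], [2, 3, 4, 2, 3, 4], [2, 5, 2, 8, 5, 8], [2, 6, 2, 8, 6, 8], [3, 4, 3, 4, 3, 4], [3, 4, 5, 4,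 3, 5], [3, 5, 3, 5, 8, 9], [3, 5, 3, 5, 9, 8], [4, 5, 4, 5, 8, 9], [4, 5, 4, 5, 9, 8], [5, 6, 7, 5, 6, 7], [5, 6, 7, 6, 5, 7]] [0, 1, 2, 3, 4, 5, 6, 7] = true :=
  by decide +kernel

theorem sat_rel_0 : ∀ r ∈ ([[0, 2, 0, 2], [0, 3, 0, 3], [0, 7, 0, 7], [0, 9, 0, 9], [1, 3, 1, 3], [1, 6, 1, 6], [1, 8, 1, 8], [1, 9, 1, 9], [2, 5, 2, 5], [2, 6, 2, 6], [2, 7, 2, 7], [2, 9, 2, 9], [3, 6, 3, 6], [3, 8, 3, 8], [3, 9, 3, 9], [4, 6, 4, 6], [4, 8, 4, 8], [4, 9, 4, 9], [5, 6, 5, 6], [5, 8, 5, 8], [5, 9, 5, 9], [6, 8, 6, 8], [6, 9, 6, 9], [7, 9, 7, 9], [8, 9, 8, 9], [7, 8, 7, 8, 9], [0, 1, 0, 1, 0, 1], [0, 2, 0, 5, 2, 5], [0, 2, 0, 6, 2, 6], [0, 2, 4, 0, 2, 4], [0, 2, 4, 2, 0, 4], [0, 3, 0, 6, 3, 6], [0, 3, 0, 8, 3, 8], [0, 4, 0, 4, 2, 4], [1, 2, 1, 2, 1, 2], [1, 2, 4, 1, 2, 4], [1, 3, 5, 1, 3, 5], [1, 3, 5, 3, 1, 5], [1, 4, 1, 4, 1, 4], [1, 4, 5, 4, 1, 5], [1, 4, 7, 4, 1, 7], [1, 5, 1, 5, 8, 9], [1, 5,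 1, 5, 9, 8], [2, 3, 2, 3, 2, 3], [2, 3, 4, 2, 3, 4], [2, 5, 2, 8, 5, 8], [2, 6, 2, 8, 6, 8], [3, 4, 3, 4, 3, 4], [3, 4, 5, 4, 3, 5], [3, 5, 3, 5, 8, 9], [3, 5, 3, 5, 9, 8], [4, 5, 4, 5, 8, 9], [4, 5, 4, 5, 9, 8], [5, 6, 7, 5, 6, 7], [5, 6, 7, 6, 5, 7]] : List (List ℕ)), ev Cfsg.Agent.XSC.CoU.U.π r = 1 :=
  rels_of_checks Cfsg.Agent.XSC.CoU.U.spec (K := 8) (by decide) sat_inv _ [[0, 1, 2, 3, 4, 5, 6, 7]] (by decide) ⟨sat_rel_0_0, trivial⟩

theorem sat_rel : ∀ r ∈ ([[0, 2, 0, 2], [0, 3, 0, 3], [0, 7, 0, 7], [0, 9, 0, 9], [1, 3, 1, 3], [1, 6, 1, 6], [1, 8, 1, 8], [1, 9, 1, 9], [2, 5, 2, 5], [2, 6, 2, 6], [2, 7, 2, 7], [2, 9, 2, 9], [3, 6, 3, 6], [3, 8, 3, 8], [3, 9, 3, 9], [4, 6, 4, 6], [4, 8, 4, 8], [4, 9, 4, 9], [5, 6, 5, 6], [5, 8, 5, 8], [5, 9, 5, 9], [6, 8, 6, 8], [6, 9, 6, 9], [7, 9, 7, 9], [8, 9, 8, 9], [7, 8, 7, 8, 9], [0, 1, 0, 1, 0, 1], [0, 2, 0, 5, 2, 5], [0, 2, 0, 6, 2, 6], [0, 2, 4,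 0, 2, 4], [0, 2, 4, 2, 0, 4], [0, 3, 0, 6, 3, 6], [0, 3, 0, 8, 3, 8], [0, 4, 0, 4, 2, 4], [1, 2, 1, 2, 1, 2], [1, 2, 4, 1, 2, 4], [1, 3, 5, 1, 3, 5], [1, 3, 5, 3, 1, 5], [1, 4, 1, 4, 1, 4], [1, 4, 5, 4, 1, 5], [1, 4, 7, 4, 1, 7], [1, 5, 1, 5, 8, 9], [1, 5, 1, 5, 9, 8], [2, 3, 2, 3, 2, 3], [2, 3, 4, 2, 3, 4], [2, 5, 2, 8, 5, 8], [2, 6, 2, 8, 6, 8], [3, 4, 3, 4, 3, 4], [3, 4, 5, 4, 3, 5], [3, 5, 3, 5, 8, 9], [3, 5, 3, 5, 9, 8], [4, 5, 4, 5, 8, 9], [4, 5, 4, 5, 9, 8], [5, 6, 7, 5, 6, 7], [5, 6, 7, 6, 5, 7]] : List (List ℕ)), ev Cfsg.Agent.XSC.CoU.U.π r = 1 :=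
  rels_join [[[0, 2, 0, 2], [0, 3, 0, 3], [0, 7, 0, 7], [0, 9, 0, 9], [1, 3, 1, 3], [1, 6, 1, 6], [1, 8, 1, 8], [1, 9, 1, 9], [2, 5, 2, 5], [2, 6, 2, 6], [2, 7, 2, 7], [2, 9, 2, 9], [3, 6, 3, 6], [3, 8, 3, 8], [3, 9, 3, 9], [4, 6, 4, 6], [4, 8, 4, 8], [4, 9, 4, 9], [5, 6, 5, 6], [5, 8, 5, 8], [5, 9, 5, 9], [6, 8, 6, 8], [6, 9, 6, 9], [7, 9, 7, 9], [8, 9, 8, 9], [7, 8, 7, 8, 9], [0, 1, 0, 1, 0, 1], [0, 2, 0, 5, 2, 5], [0, 2, 0, 6, 2, 6], [0, 2, 4, 0, 2, 4], [0, 2, 4, 2, 0, 4], [0, 3, 0, 6, 3, 6], [0, 3, 0, 8, 3, 8], [0, 4, 0, 4, 2, 4], [1, 2, 1, 2, 1, 2], [1, 2, 4, 1, 2, 4], [1, 3, 5, 1, 3, 5], [1, 3, 5, 3, 1, 5], [1, 4, 1, 4, 1, 4], [1, 4, 5, 4, 1, 5], [1, 4, 7, 4, 1, 7], [1, 5, 1, 5, 8, 9], [1, 5, 1, 5, 9, 8], [2, 3, 2, 3, 2, 3], [2, 3, 4, 2, 3, 4], [2, 5, 2, 8, 5, 8], [2, 6, 2, 8, 6, 8], [3, 4, 3, 4, 3, 4], [3, 4, 5, 4, 3, 5], [3, 5, 3, 5, 8, 9], [3, 5, 3, 5, 9, 8], [4, 5, 4, 5, 8, 9], [4,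 5, 4, 5, 9, 8], [5, 6, 7, 5, 6, 7], [5, 6, 7, 6, 5, 7]]] ⟨sat_rel_0, trivial⟩

theorem sat : Sat Cfsg.Agent.XSC.CoU.PU Cfsg.Agent.XSC.CoU.U.π :=
  ⟨Cfsg.Agent.XSC.CoU.U.out, sat_inv, sat_rel⟩

noncomputable def done_tr0 : ℕ := nat_lit 0x447a004e679a44301ff5e4aebd96f6b18115687aacf42

noncomputable def done_tr1 : ℕ := nat_lit 0xb3e96995999fe8e1722ed17346f3441a7beb2c5f53880

noncomputable def done_tr2 : ℕ := nat_lit 0xba5456180213514e80c9264244c49b238220369b430c8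

noncomputable def done_tr3 : ℕ := nat_lit 0x440080600460060000100884900800c40400810000234

noncomputable def done_t0_0 : ℕ := nat_lit 0x95c038f19a7bbc03027b449400bfc0a1be023791532a9

noncomputable def done_t0_1 : ℕ := nat_lit 0x15908cdd9effd4cf12bedb77943e1f7ca389884a00814

noncomputable def done_t0_2 : ℕ := nat_lit 0x2e8caf650c2f830f10d0001104a0d2a08660000400060

noncomputable def done_t0_3 : ℕ := nat_lit 0x3fbcb1fd9f0374e2e2183344d24400824000040400000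

noncomputable def done_t0_4 : ℕ := nat_lit 0xc04140000000000000000000000000000000000000000

noncomputable def done_t1_0 : ℕ := nat_lit 0xd638c0102121063c132d646039469ff40005fee323fcb

noncomputable def done_t1_1 : ℕ := nat_lit 0x4654106a461250108031a08a94508903030001394401c

noncomputable def done_t1_2 : ℕ := nat_lit 0xa802c6362060050c03c0080c10587d830330830080020

noncomputable def done_t1_3 : ℕ := nat_lit 0xfe3ac02e62e804420d01aa04c08800c48400840048000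

noncomputable def done_t1_4 : ℕ := nat_lit 0

noncomputable def done_t2_0 : ℕ := nat_lit 0xe6d690c2f654ac4805421f9d520533edeebed3bbf01b1

noncomputable def done_t2_1 : ℕ := nat_lit 0xf7d63cfb1e64568cad990f46c0680b22d02023840f03e

noncomputable def done_t2_2 : ℕ := nat_lit 0x88c1c7290210000c04c006006080bba0e6d001b000640

noncomputable def done_t2_3 : ℕ := nat_lit 0xeed7d1ebf6375d53c91931c4bf0400c50000040000000

noncomputable def done_t2_4 : ℕ := nat_lit 0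

noncomputable def done_t3_0 : ℕ := nat_lit 0xd33020bec9a4ca3141e08048c14ef4f434bea953e0315

noncomputable def done_t3_1 : ℕ := nat_lit 0x17f9e96a178f86201c89309d2fa8049267fe402e378d2

noncomputable def done_t3_2 : ℕ := nat_lit 0xe4e3a93024f3228033920802000020826fe1803f37fe0

noncomputable def done_t3_3 : ℕ := nat_lit 0xf7fbe9eaff6b46711e1dbd60d059024d9000c40008000

noncomputable def done_t3_4 : ℕ := nat_lit 0x10000000000004000000000000000000000000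

noncomputable def done_t4_0 : ℕ := nat_lit 0x89e95c10a00ee28a5e22481364f929866cdef52bfc339

noncomputable def done_t4_1 : ℕ := nat_lit 0xffc7edf73d29074e5c3c90e3c1d94d5a73090b7c0b80a

noncomputable def done_t4_2 : ℕ := nat_lit 0x81c2ae210049000e5f00482760d16d8a7f308b7c0bfa4

noncomputable def done_t4_3 : ℕ := nat_lit 0x99eff0b7e9f7dff1a11cdbecbf2a00d40005948000000

noncomputable def done_t4_4 : ℕ := nat_lit 0

noncomputable def done_t5_0 : ℕ := nat_lit 0x47b2e0fb7aedda08216fb273807ba0c1cd712d8b4f59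

noncomputable def done_t5_1 : ℕ := nat_lit 0x1e5b5e2c8920e1f68c0cd0a820a44105d03e83e0c40e

noncomputable def done_t5_2 : ℕ := nat_lit 0x49ec9ea329f6a004232100182000ba40d5d8001c00020

noncomputable def done_t5_3 : ℕ := nat_lit 0x4df5bbe37c7ed730bd14bfa5b7bc03ed2002010000000

noncomputable def done_t5_4 : ℕ := nat_lit 0

noncomputable def done_t6_0 : ℕ := nat_lit 0xe0a103ffa065bff3f45fb00d0b00e0842fad8fc4e7a65

noncomputable def done_t6_1 : ℕ := nat_lit 0x96a8c422c0491daffa9e370cb10f1f78262dd2200f956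

noncomputable def done_t6_2 : ℕ := nat_lit 0xffbfffff3f2d220e03e1c8f82010fc00dfd20001904a8

noncomputable def done_t6_3 : ℕ := nat_lit 0x89b3c02260ed06500d000904f06800c70000050000000

noncomputable def done_t6_4 : ℕ := nat_lit 0

noncomputable def done_t7_0 : ℕ := nat_lit 0xf2ce59509f07e4b6004614ab36066b83abdc6ad63968b

noncomputable def done_t7_1 : ℕ := nat_lit 0x54f643dff707d5057b51e03c9f04789a334b16150b4c0

noncomputable def done_t7_2 : ℕ := nat_lit 0xebcb32cf489b2874877db7400001f80abbb60215040c0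

noncomputable def done_t7_3 : ℕ := nat_lit 0xdfff7fdffd1ffd7bfc95b7d4f2f507b140060868c0900

noncomputable def done_t7_4 : ℕ := nat_lit 0

noncomputable def done_t8_0 : ℕ := nat_lit 0x91c10bbb63248877924735502926a677ec0d9f42ad999

noncomputable def done_t8_1 : ℕ := nat_lit 0x3fdf5b2d91b7b9e2c8d3021060c5c47478942861381e

noncomputable def done_t8_2 : ℕ := nat_lit 0xb8ee96a52867908ec3e0c8232801fc2f6df2021980ce0

noncomputable def done_t8_3 : ℕ := nat_lit 0xbbfff9b7f9fffbf1fd0dcf6b6ffd03789003a0e24c000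

noncomputable def done_t8_4 : ℕ := nat_lit 0

noncomputable def done_t9_0 : ℕ := nat_lit 0x43ffe33fc47c0052fc4530f81d2ee30a480daea8b3a99

noncomputable def done_t9_1 : ℕ := nat_lit 0x47ffd5ff3b03ff8e139bc00882001f0a478a2a3c7391e

noncomputable def done_t9_2 : ℕ := nat_lit 0xb80006000000000e13e000080000ff0a4ff02a3df3fe0

noncomputable def done_t9_3 : ℕ := nat_lit 0xfffff9fffffffff1ec1ffff7ffff00f5b007d5c20c000

noncomputable def done_t9_4 : ℕ := nat_lit 0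

noncomputable def doneC : TC := ⟨Cfsg.Agent.XSC.CoU.PU, [[1], [2], [3], [4], [5], [6], [8], [9], [0, 6, 0], [0, 8, 0], [7, 5, 7], [7, 3, 1, 7], [0, 7, 6, 7, 0], [7, 3, 7, 2, 3, 7], [0, 7, 4, 5, 0, 8, 0, 5, 0], [0, 7, 4, 5, 0, 2, 5, 6, 0, 5, 4, 7, 0], [0, 7, 4, 5, 0, 5, 7, 5, 0, 5, 4, 7, 0], [0, 7, 4, 5, 0, 2, 5, 0, 1, 0, 5, 2, 0, 5, 4, 7, 0], [0, 7, 4, 5, 0, 5, 0, 5, 0, 5, 0, 5, 4, 7, 0], [0, 7, 4, 5, 0, 5, 0, 6, 0, 5, 0, 5, 4, 7, 0], [0, 7, 4, 5, 0, 1, 0, 5, 0, 5, 1, 7, 0], [0, 7, 4, 5, 0, 1, 0, 6, 0, 6, 0, 1, 0, 5, 4, 7, 0], [0, 7, 4, 5, 0, 8, 1, 6, 0, 6, 1, 8, 0, 5, 4, 7, 0], [0, 7, 4, 5, 0, 8, 6, 0, 5, 0, 6, 8, 0, 5, 4, 7, 0], [0, 7, 4, 5, 0, 8, 6, 0, 6, 0, 6, 8, 0, 5, 4, 7, 0], [0, 7, 4, 5, 0, 1, 2, 3, 7, 3, 2, 1, 8, 0, 5, 4, 7, 0], [0, 7, 4, 5, 0, 1, 2, 3, 5, 7, 5, 3, 2, 1, 0, 5, 4, 7, 0], [0, 7, 4, 5, 0, 1, 0, 5, 2, 3, 7, 3, 2, 5, 0, 1, 0, 5, 4, 7, 0], [0, 7, 4, 5, 0, 1, 0, 5, 6, 0,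 5, 0, 6, 5, 0, 1, 0, 5, 4, 7, 0], [0, 7, 4, 5, 0, 1, 0, 5, 6, 0, 6, 0, 6, 5, 0, 1, 0, 5, 4, 7, 0], [0, 7, 4, 5, 0, 1, 0, 5, 6, 0, 8, 0, 6, 5, 0, 1, 0, 5, 4, 7, 0], [0, 7, 4, 5, 0, 1, 0, 5, 6, 0, 7, 5, 7, 0, 6, 5, 0, 1, 0, 5, 4, 7, 0], [0, 7, 4, 5, 0, 1, 0, 5, 6, 0, 2, 1, 0, 6, 3, 2, 5, 0, 1, 0, 5, 4, 7, 0]], 180, 192, 8, 5, [done_tr0, done_tr1, done_tr2, done_tr3],
  [[done_t0_0, done_t0_1, done_t0_2, done_t0_3, done_t0_4],
   [done_t1_0, done_t1_1, done_t1_2, done_t1_3, done_t1_4],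
   [done_t2_0, done_t2_1, done_t2_2, done_t2_3, done_t2_4],
   [done_t3_0, done_t3_1, done_t3_2, done_t3_3, done_t3_4],
   [done_t4_0, done_t4_1, done_t4_2, done_t4_3, done_t4_4],
   [done_t5_0, done_t5_1, done_t5_2, done_t5_3, done_t5_4],
   [done_t6_0, done_t6_1, done_t6_2, done_t6_3, done_t6_4],
   [done_t7_0, done_t7_1, done_t7_2, done_t7_3, done_t7_4],
   [done_t8_0, done_t8_1, done_t8_2, done_t8_3, done_t8_4],
   [done_t9_0, done_t9_1, done_t9_2, done_t9_3, done_t9_4]]⟩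

theorem done_s : doneC.structC Cfsg.Agent.XSC.CoU.U.act = true :=
  by decide +kernel

theorem done_c0_0 : doneC.coverC Cfsg.Agent.XSC.CoU.U.act 0 true [(2, 0), (0, 0), (3, 0), (6, 0), (78, 0)] [(false, 81, 2, 115), (false, 84, 0, 85), (false, 84, 2, 49), (false, 84, 2, 33), (false, 84, 2, 92), (false, 87, 0, 51), (false, 87, 0, 50), (false, 87, 0, 57), (false, 87, 0, 74), (false, 87, 0, 97), (false, 87, 0, 92), (false, 87, 0, 103), (false, 87, 0, 141), (false, 87, 0, 166), (false, 88, 2, 2), (false, 88, 2, 49), (false, 88, 2, 13), (false, 88, 2, 26), (false, 88, 2, 75), (false, 88, 2, 21), (false, 88, 2, 85), (false, 88, 2, 124), (false, 88, 2, 140), (false, 88, 2, 176), (false, 90, 0, 106), (false, 90, 4, 42), (false, 93, 0, 176), (false, 93, 2, 125), (false, 93, 2, 151), (false, 99, 0, 107), (false, 99, 0, 126), (false, 99, 0, 123), (false, 99, 0, 168), (false, 99, 0, 156), (false, 99, 2,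 19), (false, 99, 2, 136), (false, 99, 2, 176), (true, 21, 8, 0), (true, 22, 8, 0)] 0 (ones 180) = true :=
  by decide +kernel

theorem done_j0 : doneC.JustS Cfsg.Agent.XSC.CoU.U.π 0 (ones 180) :=
  TC.cover_step Cfsg.Agent.XSC.CoU.U.spec done_s (TC.justS_zero 0) done_c0_0

theorem done_c1_0 : doneC.coverC Cfsg.Agent.XSC.CoU.U.act 1 true [(5, 0), (12, 0), (15, 0), (102, 0)] [(true, 0, 0, 0), (false, 18, 0, 54), (false, 18, 0, 80), (false, 18, 0, 142), (false, 18, 0, 154), (false, 18, 0, 91), (false, 18, 0, 104), (false, 18, 0, 174), (false, 18, 0, 178), (false, 78, 1, 24), (false, 78, 1, 95), (false, 78, 1, 20), (false, 78, 1, 19), (false, 78, 1, 48), (false, 78, 1, 3), (false, 78, 1, 68), (false, 78, 1, 161), (false, 78, 1, 100), (false, 105, 0, 15), (false, 105, 0, 100), (false, 105, 0, 97), (false, 105, 0, 111), (false, 105, 0, 175), (false, 106, 2, 14), (false, 106, 2, 114), (false, 106,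 2, 176), (false, 108, 0, 95), (false, 109, 2, 20), (false, 109, 2, 93), (false, 109, 2, 156), (false, 111, 0, 122), (false, 111, 0, 152), (false, 111, 4, 106), (false, 111, 4, 68), (false, 114, 0, 52), (false, 114, 0, 106), (false, 114, 0, 141), (false, 114, 0, 151), (false, 114, 0, 173), (false, 114, 0, 168), (false, 120, 0, 163), (false, 120, 4, 112), (false, 120, 4, 123), (false, 123, 2, 4), (false, 123, 2, 150), (false, 124, 3, 4), (false, 126, 2, 8), (false, 127, 3, 8), (true, 11, 2, 0), (true, 17, 8, 0), (true, 20, 10, 0)] 0 (ones 180) = true :=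
  by decide +kernel

theorem done_j1 : doneC.JustS Cfsg.Agent.XSC.CoU.U.π 1 (ones 180) :=
  TC.cover_step Cfsg.Agent.XSC.CoU.U.spec done_s (TC.justS_zero 1) done_c1_0

theorem done_c2_0 : doneC.coverC Cfsg.Agent.XSC.CoU.U.act 2 true [(8, 0), (24, 0), (30, 0)] [(true, 1, 0, 0), (false, 0, 1, 0), (false, 0, 1, 2), (false, 0, 1, 107), (false, 0, 1, 63), (false, 0, 1, 27), (false, 0, 1, 28), (false, 0, 1, 100), (false, 0, 1, 161), (false, 0, 1, 123), (false, 27, 0, 24), (false, 27, 0, 85), (false, 27, 0, 49), (false, 27, 0, 78), (false, 27, 0, 33), (false, 27, 0, 92), (false, 27, 0, 147), (false, 27, 0, 127), (false, 81, 1, 10), (false, 81, 1, 13), (false, 81, 1, 12), (false, 81, 1, 52), (false, 81, 1, 91), (false, 81, 4, 4), (false, 81, 4, 79), (false, 84, 1, 24), (false, 84, 4, 60), (false, 84, 4, 61), (false, 84, 4, 76), (false, 84, 4, 79), (false, 87, 1, 3), (false, 87, 1, 48), (false, 87, 1,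 68), (false, 87, 1, 20), (false, 87, 1, 159), (false, 88, 1, 42), (false, 88, 1, 17), (false, 88, 1, 84), (false, 88, 1, 34), (false, 90, 1, 127), (false, 90, 3, 136), (false, 99, 4, 14), (false, 99, 4, 69), (false, 99, 4, 37), (false, 102, 1, 26), (false, 102, 1, 11), (false, 102, 1, 112), (false, 102, 1, 158), (false, 102, 1, 121), (false, 102, 1, 140), (false, 102, 1, 98), (false, 102, 1, 56), (false, 102, 1, 69), (false, 102, 1, 89), (false, 105, 1, 7), (false, 105, 1, 6), (false, 105, 1, 93), (false, 105, 1, 34), (false, 105, 1, 90), (false, 105, 1, 115), (false, 105, 1, 91), (false, 105, 1, 103), (false, 105, 1, 128), (false, 105, 1, 104), (false, 106, 1, 20), (false, 106, 1, 19), (false, 106, 1, 120), (false, 106, 1, 21), (false, 106, 1, 142), (false, 106, 1, 129), (false, 106, 1, 154), (false, 106, 1, 152), (false, 106, 1, 144), (false, 106, 1, 156), (false, 129, 0, 27), (false, 129,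 0, 28), (false, 129, 0, 130), (false, 129, 0, 158), (false, 129, 0, 83), (false, 129, 0, 157), (false, 129, 0, 118), (false, 129, 0, 170), (false, 132, 0, 77), (false, 133, 2, 16), (false, 133, 2, 169), (false, 135, 0, 54), (true, 13, 3, 0), (true, 25, 10, 0)] 0 (ones 180) = true :=
  by decide +kernel

theorem done_j2 : doneC.JustS Cfsg.Agent.XSC.CoU.U.π 2 (ones 180) :=
  TC.cover_step Cfsg.Agent.XSC.CoU.U.spec done_s (TC.justS_zero 2) done_c2_0

theorem done_c3_0 : doneC.coverC Cfsg.Agent.XSC.CoU.U.act 3 true [(11, 0), (3, 1), (12, 1), (36, 0)] [(true, 2, 0, 0), (false, 39, 0, 80), (false, 39, 0, 83), (false, 39, 0, 52), (false, 39, 0, 74), (false, 39, 0, 91), (false, 39, 0, 86), (false, 93, 1, 12), (false, 93, 1, 85), (false, 93, 1, 48), (false, 93, 1, 101), (false, 93, 4, 17), (false, 93, 4, 9), (false, 93, 4, 61), (false, 93, 4, 89), (false, 96, 4, 9), (false, 96, 4, 17), (false, 108, 1,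 47), (false, 108, 1, 19), (false, 108, 1, 13), (false, 108, 1, 33), (false, 108, 1, 159), (false, 108, 1, 132), (false, 108, 1, 104), (false, 108, 1, 140), (false, 108, 1, 178), (false, 109, 1, 39), (false, 109, 1, 16), (false, 109, 1, 68), (false, 109, 1, 79), (false, 109, 1, 101), (false, 109, 1, 84), (false, 109, 1, 123), (false, 109, 1, 134), (false, 109, 1, 141), (false, 109, 1, 165), (false, 129, 1, 3), (false, 129, 1, 146), (false, 129, 1, 36), (false, 129, 1, 87), (false, 129, 1, 63), (false, 129, 1, 166), (false, 129, 1, 131), (false, 129, 1, 155), (false, 132, 1, 67), (false, 132, 1, 120), (false, 132, 1, 88), (false, 133, 1, 11), (false, 133, 1, 37), (false, 133, 1, 129), (false, 141, 0, 167), (false, 141, 0, 141), (false, 144, 0, 30), (false, 144, 4, 27), (false, 144, 4, 32), (false, 147, 0, 54), (false, 147, 2, 9), (false, 147, 2, 122), (false, 148, 3, 9), (false, 150, 0, 126),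 (false, 151, 5, 126)] 0 (ones 180) = true :=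
  by decide +kernel

theorem done_j3 : doneC.JustS Cfsg.Agent.XSC.CoU.U.π 3 (ones 180) :=
  TC.cover_step Cfsg.Agent.XSC.CoU.U.spec done_s (TC.justS_zero 3) done_c3_0

theorem done_c4_0 : doneC.coverC Cfsg.Agent.XSC.CoU.U.act 4 true [(14, 0), (45, 0), (48, 0), (87, 2), (105, 2), (106, 0)] [(true, 3, 0, 0), (false, 88, 0, 55), (false, 88, 0, 81), (false, 88, 0, 36), (false, 88, 0, 60), (false, 88, 0, 153), (false, 90, 2, 101), (false, 90, 2, 151), (false, 90, 5, 1), (false, 90, 5, 79), (false, 99, 1, 7), (false, 99, 1, 138), (false, 99, 1, 3), (false, 99, 1, 52), (false, 99, 1, 48), (false, 99, 1, 94), (false, 99, 1, 68), (false, 99, 3, 38), (false, 99, 3, 135), (false, 99, 5, 5), (false, 99, 5, 116), (false, 99, 5, 149), (false, 114, 1, 57), (false, 114, 1, 31), (false, 114, 1, 98), (false, 117, 1, 47), (false, 117, 1, 45), (false, 117, 1, 129), (false, 117, 1, 152), (false, 117, 1, 87), (false,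 117, 1, 125), (false, 117, 1, 90), (false, 117, 1, 103), (false, 117, 3, 9), (false, 117, 3, 66), (false, 117, 3, 88), (false, 117, 3, 131), (false, 117, 3, 101), (false, 117, 3, 32), (false, 117, 3, 38), (false, 117, 3, 94), (false, 120, 1, 27), (false, 120, 3, 0), (false, 120, 3, 28), (false, 120, 3, 135), (false, 120, 3, 57), (false, 132, 2, 23), (false, 132, 2, 33), (false, 132, 2, 63), (false, 132, 2, 65), (false, 132, 2, 116), (false, 133, 0, 167), (false, 141, 1, 29), (false, 141, 1, 57), (false, 141, 1, 67), (false, 141, 1, 70), (false, 141, 1, 150), (false, 141, 1, 105), (false, 141, 1, 123), (false, 141, 1, 164), (false, 144, 1, 61), (false, 153, 0, 125), (false, 153, 0, 54), (false, 153, 0, 71), (false, 153, 2, 9), (false, 153, 2, 4), (false, 153, 2, 69), (false, 154, 3, 4), (false, 154, 3, 9)] 0 (ones 180) = true :=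
  by decide +kernel

theorem done_j4 : doneC.JustS Cfsg.Agent.XSC.CoU.U.π 4 (ones 180) :=
  TC.cover_step Cfsg.Agent.XSC.CoU.U.spec done_s (TC.justS_zero 4) done_c4_0

theorem done_c5_0 : doneC.coverC Cfsg.Agent.XSC.CoU.U.act 5 true [(17, 0), (24, 1), (54, 0), (117, 2)] [(true, 4, 0, 0), (false, 57, 0, 54), (false, 57, 0, 149), (false, 57, 0, 159), (false, 57, 0, 133), (false, 81, 3, 151), (false, 81, 5, 153), (false, 108, 2, 41), (false, 108, 2, 74), (false, 108, 2, 116), (false, 108, 2, 62), (false, 108, 2, 147), (false, 108, 2, 31), (false, 108, 2, 52), (false, 108, 2, 76), (false, 108, 2, 109), (false, 108, 2, 38), (false, 109, 0, 65), (false, 109, 0, 130), (false, 109, 0, 77), (false, 109, 0, 118), (false, 109, 0, 129), (false, 109, 0, 115), (false, 109, 0, 128), (false, 109, 0, 163), (false, 109, 0, 157), (false, 111, 5, 110), (false, 117, 5, 37), (false, 117, 5, 42), (false, 117, 5, 43),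 (false, 117, 5, 114), (false, 117, 5, 116), (false, 117, 5, 127), (false, 117, 5, 147), (false, 123, 1, 1), (false, 123, 1, 9), (false, 123, 1, 34), (false, 123, 1, 98), (false, 123, 1, 125), (false, 123, 1, 121), (false, 123, 1, 115), (false, 123, 3, 131), (false, 124, 4, 9), (false, 124, 4, 134), (false, 126, 1, 91), (false, 127, 4, 91), (false, 144, 2, 18), (false, 144, 2, 17), (false, 144, 5, 28), (false, 144, 5, 78), (false, 144, 5, 117), (false, 144, 5, 119), (false, 147, 1, 2), (false, 147, 1, 24), (false, 147, 3, 17), (false, 148, 2, 17), (false, 148, 4, 134), (false, 150, 1, 86), (false, 151, 4, 86), (false, 153, 1, 34), (false, 153, 3, 31), (false, 154, 4, 24), (false, 159, 0, 95), (false, 159, 0, 71), (false, 159, 0, 125), (false, 159, 0, 138), (false, 160, 2, 17), (false, 162, 0, 134), (true, 10, 1, 0), (true, 14, 7, 0), (true, 18, 7, 0), (true, 23, 8, 0), (true, 28, 10, 0), (true,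 31, 11, 0)] 0 (ones 180) = true :=
  by decide +kernel

theorem done_j5 : doneC.JustS Cfsg.Agent.XSC.CoU.U.π 5 (ones 180) :=
  TC.cover_step Cfsg.Agent.XSC.CoU.U.spec done_s (TC.justS_zero 5) done_c5_0

theorem done_c6_0 : doneC.coverC Cfsg.Agent.XSC.CoU.U.act 6 true [(20, 0), (15, 1), (27, 1), (36, 1), (45, 1)] [(true, 5, 0, 0), (false, 54, 1, 6), (false, 54, 1, 1), (false, 54, 1, 8), (false, 54, 1, 4), (false, 54, 1, 32), (false, 54, 1, 101), (false, 54, 1, 160), (false, 54, 1, 166), (false, 63, 0, 54), (false, 63, 0, 91), (false, 63, 0, 126), (false, 63, 0, 164), (false, 63, 0, 169), (false, 93, 3, 56), (false, 93, 5, 58), (false, 93, 5, 76), (false, 138, 1, 164), (false, 159, 1, 2), (false, 159, 1, 35), (false, 159, 1, 111), (false, 160, 1, 21), (false, 160, 1, 85), (false, 160, 1, 135), (true, 8, 1, 0), (true, 12, 2, 0), (true, 15, 7, 0), (true, 19, 7, 0), (true, 24, 8, 0), (true, 29, 10,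 0), (true, 32, 13, 0)] 0 (ones 180) = true :=
  by decide +kernel

theorem done_j6 : doneC.JustS Cfsg.Agent.XSC.CoU.U.π 6 (ones 180) :=
  TC.cover_step Cfsg.Agent.XSC.CoU.U.spec done_s (TC.justS_zero 6) done_c6_0

theorem done_c7_0 : doneC.coverC Cfsg.Agent.XSC.CoU.U.act 7 true [(23, 0), (6, 1), (30, 1), (75, 0), (120, 2), (120, 5), (159, 2)] [(false, 75, 2, 30), (false, 75, 2, 32), (false, 160, 0, 70), (false, 160, 0, 162), (false, 160, 0, 154), (false, 162, 2, 30), (false, 162, 2, 87), (false, 162, 5, 10), (false, 162, 5, 179), (true, 16, 6, 0), (true, 26, 9, 0), (true, 27, 10, 0)] 0 (ones 180) = true :=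
  by decide +kernel

theorem done_j7 : doneC.JustS Cfsg.Agent.XSC.CoU.U.π 7 (ones 180) :=
  TC.cover_step Cfsg.Agent.XSC.CoU.U.spec done_s (TC.justS_zero 7) done_c7_0

theorem done_c8_0 : doneC.coverC Cfsg.Agent.XSC.CoU.U.act 8 true [(26, 0), (18, 1), (39, 1), (48, 1), (57, 1), (75, 1)] [(true, 6, 0, 0), (false, 63, 1, 9), (false, 63, 1, 86), (false, 63, 1, 79), (false, 63, 1, 115), (false, 63, 1, 131), (false, 96, 3, 121), (false, 96, 5, 149), (false, 123, 4, 14), (false, 123, 4, 15), (false, 123, 4, 25), (false, 123, 4, 51), (false, 123, 4, 66), (false, 123, 4, 120), (false, 123, 4, 136), (false, 123, 4, 159), (false, 124, 1, 159), (false, 124, 1, 171), (false, 124, 1, 136), (false, 126, 5, 164), (false, 126, 5, 172), (false, 127, 0, 172), (false, 135, 3, 40), (false, 135, 3, 58), (false, 135, 3, 61), (false, 135, 3, 105), (false, 135, 5, 108), (false, 135, 5, 125), (false, 138, 3, 172), (false,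 138, 5, 165), (false, 147, 4, 46), (false, 147, 4, 60), (false, 148, 1, 60), (false, 150, 5, 93), (false, 151, 0, 93), (false, 153, 4, 146), (false, 154, 1, 46), (false, 157, 0, 111), (true, 9, 1, 0), (true, 30, 10, 0)] 0 (ones 180) = true :=
  by decide +kernel

theorem done_j8 : doneC.JustS Cfsg.Agent.XSC.CoU.U.π 8 (ones 180) :=
  TC.cover_step Cfsg.Agent.XSC.CoU.U.spec done_s (TC.justS_zero 8) done_c8_0

theorem done_c9_0 : doneC.coverC Cfsg.Agent.XSC.CoU.U.act 9 true [(9, 1), (21, 1), (33, 1), (42, 1), (51, 1), (60, 1)] [(true, 7, 0, 0), (false, 66, 1, 8), (false, 66, 1, 9), (false, 66, 1, 18), (false, 66, 1, 55), (false, 66, 1, 91), (false, 66, 1, 112), (false, 66, 1, 79), (false, 66, 1, 142), (false, 69, 1, 0), (false, 69, 1, 39), (false, 69, 1, 16), (false, 69, 1, 17), (false, 69, 1, 21), (false, 69, 1, 33), (false, 69, 1, 84), (false, 69, 1, 101), (false, 69, 1, 123), (false, 72, 1,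 17), (false, 72, 1, 31), (false, 72, 1, 69), (false, 123, 5, 142)] 0 (ones 180) = true :=
  by decide +kernel

theorem done_j9 : doneC.JustS Cfsg.Agent.XSC.CoU.U.π 9 (ones 180) :=
  TC.cover_step Cfsg.Agent.XSC.CoU.U.spec done_s (TC.justS_zero 9) done_c9_0

theorem done : doneC.Done Cfsg.Agent.XSC.CoU.U.π :=
  TC.done_of Cfsg.Agent.XSC.CoU.U.spec sat done_s ⟨done_j0, done_j1, done_j2, done_j3, done_j4, done_j5, done_j6, done_j7, done_j8, done_j9, trivial⟩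

end U

def hsU : List (List ℕ) := [[9], [10], [11], [12], [13], [16], [17], [0], [7], [8]]

theorem U_x : satC val X.I [2031615, 2080255, 524287] [] PU hsU (List.replicate 55 []) = true :=
  by decide +kernel

theorem U_l : loopC val X.I [2031615, 2080255, 524287] [] hsU [20] U.doneC.loops
  [([1], []),
   ([1, 2, 1], []),
   ([7, 4, 3, 7, 3, 4, 1], []),
   ([4], []),
   ([1, 5, 1], []),
   ([6], []),
   ([8, 6], []),
   ([9, 6], []),
   ([6, 3, 4, 1, 0, 8, 6, 0, 1, 4, 3], []),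
   ([7, 6, 7, 0, 6, 1, 0, 6, 0, 1, 0], []),
   ([7, 6, 7, 5], []),
   ([1, 7, 2, 3, 1, 7, 2, 1], []),
   ([6, 1, 7, 0, 6, 7, 0, 1], []),
   ([2, 3, 7, 3, 1, 7, 1], []),
   ([9, 2, 8, 3, 1, 4, 1], [([20], [9, 0, 13, 16, 9, 7, 9, 16, 9, 13, 0, 12, 13, 7, 11, 0, 12]), ([], [20, 12, 0, 11, 7, 13, 12, 0, 13, 20, 10, 13, 10, 12, 7, 11, 8])]),
   ([1, 2, 1, 5, 3, 7, 0, 6, 0, 5, 7, 4, 1, 2], [([20], [9, 0, 13, 16, 9, 11, 16, 17, 9, 16, 13, 0, 9, 10, 13, 15, 0, 18, 12, 15, 16, 0, 18, 13, 10]), ([], [20, 10, 13, 18, 0, 16, 15, 12, 18, 0, 15, 13, 10, 20, 13, 11, 15, 18, 12, 15, 16, 18, 11, 12, 11, 10]), ([], [10, 11, 12, 11, 18, 16, 15, 12, 18, 15, 11, 13, 11, 10, 13, 0, 16, 9, 17, 9, 0, 12, 16, 10, 11, 10])]),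
   ([0, 6, 3, 2, 1, 0, 6, 1, 2, 3, 2, 0], [([20], [9, 0, 13, 16, 9, 16, 0, 16, 9, 16, 13, 0, 9, 11, 16, 18, 0, 18, 11, 16, 0]), ([], [20, 0, 16, 11, 18, 0, 18, 16, 11, 20, 10, 11, 10, 18, 12, 18, 11, 10]), ([], [10, 11, 18, 12, 18, 10, 11, 10, 9, 11, 12, 11, 10, 17, 9, 10, 11, 12, 17, 9])]),
   ([5, 4, 0, 6, 1, 0, 6, 1, 0, 5, 2], [([20], [9, 0, 13, 16, 9, 11, 16, 9, 10, 9, 16, 11, 9, 16, 13, 0, 9, 10, 11, 16, 18, 0, 18, 16, 0, 13]), ([], [20, 13, 0, 16, 18, 0, 18, 16, 11, 10, 20, 11, 18, 12, 18, 13]), ([], [13, 18, 12, 18, 16, 9, 10, 17, 9, 10, 17, 9, 13, 16])]),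
   ([5], [([20], [9, 0, 13, 16, 9, 16, 9, 16, 9, 16, 9, 16, 13, 0, 9, 10, 16, 10]), ([], [20, 10, 16, 10, 20, 16])]),
   ([8, 1, 2, 8, 6, 5, 3, 1, 2, 1], [([20], [9, 0, 13, 16, 9, 16, 9, 17, 9, 16, 9, 16, 13, 0, 9, 12, 15, 16, 0, 17, 15, 12, 0]), ([], [20, 0, 12, 15, 17, 0, 16, 15, 12, 20, 0, 18, 11, 18, 16, 18, 11, 18, 0]), ([], [0, 18, 11, 18, 16, 18, 11, 18, 0, 10, 11, 10, 12, 16, 17, 7, 11, 10, 7])]),
   ([0, 6, 2, 1, 0, 6, 0, 1, 0, 5, 4], [([20], [9, 0, 13, 16, 9, 10, 9, 16, 9, 16, 10, 0, 9, 10, 13, 11, 0, 16, 18, 0, 18, 13]), ([], [20, 13, 18, 0, 18, 16, 0, 11, 13, 10, 20, 13, 10, 18, 12, 18, 11, 16]), ([], [16, 11, 18, 12, 18, 10, 16, 9, 10, 9, 17, 9, 10, 11, 17, 9])]),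
   ([5, 4, 0, 8, 2, 0, 8, 5, 3], [([20], [9, 0, 13, 16, 9, 10, 9, 17, 9, 17, 9, 10, 9, 16, 13, 0, 9, 11, 0, 18, 12, 18, 13, 18, 7, 0, 18]), ([], [20, 18, 0, 7, 18, 13, 18, 12, 18, 0, 11, 20, 12, 11, 0, 16, 18, 0, 18, 13, 16]), ([], [16, 13, 18, 0, 18, 16, 0, 11, 16, 7, 9, 11, 7, 9, 13, 16])]),
   ([4, 5, 9, 0, 8, 6, 2, 1, 0, 6, 1, 0, 5], [([20], [9, 0, 13, 16, 9, 7, 10, 17, 9, 17, 10, 7, 9, 16, 13, 0, 9, 11, 0, 18, 12, 18, 13, 0]), ([], [20, 0, 13, 18, 12, 18, 0, 11, 20, 10, 11, 0, 13, 18, 12, 18, 0, 10]), ([], [10, 0, 18, 12, 18, 13, 0, 11, 10, 16, 9, 10, 17, 9, 10, 11, 17, 7, 9, 8, 16, 13])]),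
   ([2, 1, 0, 8, 6, 0, 1, 2], [([20], [9, 0, 13, 16, 9, 7, 17, 9, 16, 9, 17, 7, 9, 16, 13, 0, 9, 10, 11, 15, 11, 12, 18, 12, 7, 11, 15, 11, 10]), ([], [20, 10, 11, 15, 11, 7, 12, 18, 12, 11, 15, 11, 10, 20, 15, 11, 12, 18, 12, 7, 11, 15, 17]), ([], [17, 15, 11, 7, 12, 18, 12, 11, 15, 11, 10, 9, 17, 7, 9, 10, 11])]),
   ([6, 1, 7, 0, 6, 7, 0, 1], [([20], [9, 0, 13, 16, 9, 7, 17, 9, 17, 9, 17, 7, 9, 16, 13, 0, 9, 10, 11, 15, 12, 18, 12, 15, 17, 7, 11, 10]), ([], [20, 10, 11, 7, 17, 15, 12, 18, 12, 15, 11, 10, 20, 11, 15, 12, 18, 12, 15, 7, 11]), ([], [11, 7, 15, 12, 18, 12, 15, 11, 10, 9, 0, 17, 9, 0, 10, 17])]),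
   ([9, 2, 8, 2], [([20], [9, 0, 13, 16, 9, 10, 11, 12, 0, 12, 11, 10, 7, 9, 16, 13, 0, 9, 11, 7, 11, 7]), ([], [20, 7, 11, 7, 11, 20, 11, 7, 11, 8])]),
   ([9, 2, 8, 2], [([20], [9, 0, 13, 16, 9, 10, 11, 12, 16, 0, 16, 12, 11, 10, 9, 16, 13, 0, 9, 11, 7, 11, 7]), ([], [20, 7, 11, 7, 11, 20, 11, 7, 11, 8])]),
   ([9, 8, 0, 6, 1, 0, 6, 0, 1, 0], [([20], [9, 0, 13, 16, 9, 10, 9, 16, 11, 12, 0, 12, 11, 16, 9, 10, 9, 16, 13, 0, 9, 11, 7, 11, 18, 0, 18, 0]), ([], [20, 0, 18, 0, 18, 11, 7, 11, 20, 10, 16, 18, 12, 18, 16]), ([], [16, 18, 12, 18, 16, 10, 9, 10, 9, 17, 9, 10, 17, 9, 7, 8])]),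
   ([5, 0, 8, 2, 8, 0, 5, 2], [([20], [9, 0, 13, 16, 9, 10, 9, 16, 17, 9, 16, 9, 17, 16, 9, 10, 9, 16, 13, 0, 9, 11, 10, 18, 12, 18, 7, 11, 8]), ([], [20, 8, 11, 7, 18, 12, 18, 10, 11, 20, 12, 0, 12, 13, 18, 7, 0, 18, 13]), ([], [13, 18, 0, 7, 18, 13, 12, 0, 12, 11, 16, 9, 7, 11, 7, 9, 16])]),
   ([3, 2, 1, 7, 6, 5, 0, 6, 7, 0, 5, 1, 2, 3], [([20], [9, 0, 13, 16, 9, 10, 9, 16, 17, 9, 17, 9, 17, 16, 9, 10, 9, 16, 13, 0, 9, 15, 12, 0, 16, 18, 0, 12, 16, 15, 17]), ([], [20, 17, 15, 16, 12, 0, 18, 16, 0, 12, 15, 20, 15, 16, 18, 16, 18, 12, 15, 12, 18]), ([], [18, 12, 15, 12, 18, 16, 18, 16, 15, 12, 11, 10, 16, 9, 0, 17, 9, 16, 17, 0, 10, 11, 12])]),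
   ([9, 8, 0, 6, 1, 0, 6, 3, 1, 0], [([20], [9, 0, 13, 16, 9, 10, 9, 16, 17, 9, 7, 9, 17, 16, 9, 10, 9, 16, 13, 0, 9, 16, 18, 0, 18, 16, 0, 7]), ([], [20, 7, 0, 16, 18, 0, 18, 16, 20, 10, 17, 18, 12, 18, 7]), ([], [7, 18, 12, 18, 17, 10, 9, 10, 12, 17, 9, 10, 17, 9, 7, 8])]),
   ([1, 0, 2, 6, 1, 7, 3, 7, 0, 6, 1, 2, 0, 1], [([20], [9, 0, 13, 16, 9, 10, 9, 16, 17, 9, 0, 16, 0, 9, 17, 16, 9, 10, 9, 16, 13, 0, 9, 13, 18, 0, 10, 12, 0, 18, 13]), ([], [20, 13, 18, 0, 12, 10, 0, 18, 13, 20, 11, 16, 17, 18, 11, 18, 16, 7]), ([], [7, 16, 18, 11, 18, 17, 16, 11, 10, 9, 11, 10, 17, 9, 0, 12, 0, 10, 17, 11, 9, 10])]),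
   ([7, 6, 7, 1, 5, 0, 6, 0, 5, 1], [([20], [9, 0, 13, 16, 9, 10, 9, 16, 17, 9, 11, 10, 9, 17, 12, 11, 16, 9, 10, 9, 16, 13, 0, 9, 15, 18, 16, 12, 0, 15, 12, 0, 18]), ([], [20, 18, 0, 12, 15, 0, 12, 16, 18, 15, 20, 11, 15, 12, 16, 0, 18, 0, 12, 16, 15, 11]), ([], [11, 15, 16, 12, 0, 18, 0, 16, 12, 15, 11, 10, 16, 9, 17, 9, 16, 10, 0, 17, 0])])] = true :=
  by decide +kernel

def U_ss0 : List DT :=
  [⟨[1], [1], 0, [], []⟩,
   ⟨[2], [1, 2, 1], 0, [], []⟩,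
   ⟨[3], [7, 4, 3, 7, 3, 4, 1], 0, [], []⟩,
   ⟨[4], [4], 0, [], []⟩,
   ⟨[5], [1, 5, 1], 0, [], []⟩,
   ⟨[6], [6], 0, [], []⟩,
   ⟨[0, 6, 0], [6, 3, 4, 1, 0, 8, 6, 0, 1, 4, 3], 0, [], []⟩,
   ⟨[9, 0, 8, 0], [0, 1, 7, 6, 0, 8, 6, 7, 0, 1, 0], 0, [], []⟩]

def U_ts0 : List DT :=
  [⟨[], [], 2, [], []⟩,
   ⟨[0], [3, 4, 7, 1, 0], 0, [0, 1, 7, 4, 3, 1, 2, 1], []⟩,
   ⟨[7], [1, 7], 0, [1, 7, 2, 1], []⟩,
   ⟨[0, 5, 0], [], 1, [], []⟩]

theorem U_s0 : stabC val X.I [2031615, 2080255, 524287] [] hsU [20] U_ss0 = true :=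
  by decide +kernel

theorem U_t0 : trsC val X.I [2031615, 2080255, 524287] [] hsU [[20], [20, 9, 16, 9, 20]] [20] [20] U_ts0 = true :=
  by decide +kernel

theorem U_c0 : covC U.act U.doneC.n 2 U_ss0 U_ts0 = true :=
  by decide +kernel

def U_ss1 : List DT :=
  [⟨[4], [1, 0, 9, 6, 0, 8, 2, 1, 0, 6, 4, 0, 1], 0, [], [([9, 16, 9, 20], [20, 13, 20, 13]), ([20], [9, 16, 9, 13, 9, 16, 9, 11, 18, 0, 18, 0, 7, 11, 13]), ([], [20, 13, 11, 7, 0, 18, 0, 18, 11, 20, 11, 0, 18, 11, 18, 7, 0, 13]), ([], [13, 0, 7, 18, 11, 18, 0, 11, 10, 9, 13, 17, 9, 10, 11, 7, 9, 17, 8, 9, 10])]⟩,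
   ⟨[9, 6], [9, 6], 0, [], [([9, 16, 9, 20], [20, 8, 17, 20, 8]), ([20], [9, 16, 9, 8, 9, 16, 9, 8]), ([], [20, 8, 20, 17, 8])]⟩,
   ⟨[2, 4, 1], [8, 2, 8, 4, 0, 6, 1, 0, 6, 1, 0], 0, [], [([9, 16, 9, 20], [20, 11, 13, 10, 20, 11, 13, 11]), ([20], [9, 16, 9, 11, 13, 11, 9, 16, 9, 11, 13, 11, 18, 0, 18, 0, 7]), ([], [20, 7, 0, 18, 0, 18, 11, 13, 11, 20, 10, 16, 13, 11, 18, 12, 18, 16, 10]), ([], [10, 16, 18, 12, 18, 11, 13, 16, 10, 9, 10, 17, 9, 10, 17, 9, 13, 7, 11, 7])]⟩,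
   ⟨[2, 3, 2], [5, 0, 6, 2, 1, 0, 6, 1, 0, 5, 2], 0, [], [([9, 16, 9, 20], [20, 11, 12, 11, 20, 10, 0, 10, 12, 0, 12, 11]), ([20], [9, 16, 9, 11, 12, 0, 12, 10, 0, 10, 9, 16, 9, 12, 16, 18, 11, 12, 11, 18, 16, 12]), ([], [20, 12, 16, 18, 11, 12, 11, 18, 16, 12, 20, 11, 18, 12, 18, 7, 11, 8]), ([], [8, 11, 7, 18, 12, 18, 16, 9, 10, 17, 9, 10, 11, 17, 9, 16])]⟩,
   ⟨[7, 5, 7], [1, 7, 6, 5, 0, 6, 7, 0, 5, 1], 0, [], [([9, 16, 9, 20], [20, 0, 16, 0, 20, 16, 0, 17, 0]), ([20], [9, 16, 9, 0, 17, 0, 16, 9, 16, 9, 10, 11, 15, 12, 16, 17, 18, 12, 16, 15, 11, 10]), ([], [20, 10, 11, 15, 16, 12, 18, 17, 16, 12, 15, 11, 10, 20, 11, 15, 12, 16, 18, 12, 15, 16, 7, 11]), ([], [11, 7, 16, 15, 12, 18, 16, 12, 15, 11, 10, 16, 9, 0, 17, 9, 16, 17, 0, 10])]⟩,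
   ⟨[7, 4, 3, 7, 3, 4, 1], [0, 1, 7, 6, 0, 8, 6, 3, 7, 3, 1, 0], 0, [], [([9, 16, 9, 20], [20, 0, 13, 12, 0, 12, 13, 10, 20, 12]), ([20], [9, 16, 9, 12, 9, 16, 9, 12, 18, 0, 18, 0, 7]), ([], [20, 7, 0, 18, 0, 18, 12, 20, 16, 18, 12, 0, 18, 16, 18, 0, 18]), ([], [18, 0, 18, 16, 18, 0, 12, 18, 16, 9, 10, 12, 0, 12, 17, 7, 9, 17, 0, 10, 9])]⟩,
   ⟨[6, 2, 0, 8, 6, 4, 2, 0], [3, 9, 4, 1, 0, 8, 6, 3, 0, 1, 4, 3], 0, [], [([20, 9, 16, 9, 20], [17, 11, 9, 7, 17, 13, 11, 9, 10, 13, 10, 15, 12, 18, 12, 13, 15, 7, 10]), ([9, 16, 9, 20], [20, 10, 7, 15, 13, 12, 18, 12, 15, 10, 13, 10, 20, 15, 12, 13, 17, 18, 12, 13, 18, 12, 18, 15]), ([20], [9, 16, 9, 15, 18, 12, 18, 13, 12, 18, 17, 13, 12, 15, 9, 16, 9, 10, 17, 18, 13, 10, 12, 18, 12, 13, 18, 10]), ([], [20, 10, 18, 13, 12, 18, 12, 10, 13, 18, 17, 10, 20, 11, 13, 12, 18, 12, 13, 18, 11, 13, 18]), ([], [18, 13, 11, 18, 13, 12, 18, 12, 13, 11, 12, 13, 10,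 9, 12, 17, 7, 9, 10, 13, 8, 12])]⟩,
   ⟨[1, 7, 0, 1], [6, 1, 7, 0, 6, 1], 0, [], [([20, 9, 16, 9, 20], [10, 0, 9, 10, 11, 0, 13, 18, 12, 0, 10, 12, 18, 13, 9, 16, 18, 0, 18, 13, 10, 0, 16]), ([9, 16, 18, 0, 18, 13, 10, 0, 16, 20, 9, 16, 9, 20], [13, 18, 12, 10, 0, 12, 18, 13, 0, 11, 20, 10, 18, 12, 18, 13, 10, 12, 7, 11, 8, 20]), ([9, 16, 9, 20], [20, 16, 0, 10, 13, 18, 0, 18, 16, 20, 10, 18, 12, 18, 13, 0, 17, 0, 10]), ([10, 18, 12, 18, 13, 0, 17, 0, 10, 9, 16, 9, 20], [20, 9, 20, 10, 11, 10, 12, 13, 0, 10, 9, 20, 9, 10, 0, 13, 12]), ([20], [9, 16, 9, 10, 0, 17, 0, 13, 18, 12, 18, 10, 12, 13, 0, 10, 9, 12, 11, 18, 11, 0, 10, 12, 18, 16, 0, 10, 9, 18, 0, 18, 13, 12, 0, 12]), ([9, 18, 0, 18, 13, 12, 0, 12, 20], [10, 0, 16, 18, 12, 10, 0, 11, 18, 11, 12, 20, 11, 10, 17, 18, 0, 18, 0, 16, 12, 11, 20]), ([], [20, 12, 0, 12, 13, 18, 0, 18, 20, 10, 11, 13, 18, 12, 18, 7, 11, 7]), ([10, 11, 13, 18,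 12, 18, 7, 11, 7], [20, 9, 20, 10, 11, 10, 12, 13, 0, 10, 9, 20, 9, 10, 0, 13, 12]), ([20, 9, 10, 0, 13, 12, 10, 11, 13, 18, 12, 18, 7, 11, 7], [9, 10, 0, 13, 12, 10, 11, 10, 11, 12, 16, 0, 18, 0, 18, 17, 10, 11, 9, 10, 0, 13, 12, 10, 11, 10, 8, 11, 7, 12, 10, 13, 18, 12, 18, 10, 9, 16, 9, 11, 12, 13, 18, 12, 11, 18, 12, 7]), ([9, 10, 0, 13, 12, 10, 11, 13, 18, 12, 18, 7, 11, 7], [20, 7, 12, 18, 11, 12, 18, 13, 12, 11, 20, 10, 12, 13, 17, 18, 11, 12, 18, 11]), ([], [7, 11, 7, 18, 12, 18, 13, 11, 10, 12, 13, 0, 10, 9, 11, 18, 12, 11, 18, 17, 13, 12, 17, 9, 0, 10, 17])]⟩]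

def U_ts1 : List DT :=
  [⟨[], [], 0, [0, 5, 0], []⟩,
   ⟨[7], [1, 2, 8, 6, 1], 1, [9, 8, 1, 2, 3, 7, 2, 1], [([9, 16, 9, 20], [20, 0, 20, 10, 11, 0, 10, 20, 0, 10]), ([20], [9, 16, 9, 10, 0, 10, 11, 10, 12, 0, 10, 12, 7, 0, 9, 16, 9, 7, 11]), ([9, 16, 9, 7, 11, 20], [0, 7, 12, 10, 0, 12, 10, 11, 10, 20, 10, 12, 11, 10, 7, 8, 20]), ([], [20, 11, 7, 20, 10, 17, 7, 11, 10])]⟩]

theorem U_s1 : stabC val X.I [2031615, 2080255, 524287] [] hsU [20, 9, 16, 9, 20] U_ss1 = true :=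
  by decide +kernel

theorem U_t1 : trsC val X.I [2031615, 2080255, 524287] [] hsU [[20], [20, 9, 16, 9, 20]] [20] [20, 9, 16, 9, 20] U_ts1 = true :=
  by decide +kernel

theorem U_c1 : covC U.act U.doneC.n 3 U_ss1 U_ts1 = true :=
  by decide +kernel

theorem U_w : subWC val X.I [524287] 1261567 21 ([20] :: hsU) [[8], [4, 3, 9, 1, 9, 3, 4, 1], [10, 8, 5, 4, 8, 4, 5], [9, 1, 9, 1], [10, 4, 8, 4, 2, 8, 2], [8, 6, 8, 6], [10, 8, 4, 8, 4], [9], [10], [1], [2], [3], [4], [5], [], [], [6], [7], [], [], [0]] = true :=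
  by decide +kernel

theorem stU {G : Type*} [Group G] [Finite G] {z : G} {t : ℕ → G × Co1}
    (h : StB z t [2031615, 2080255, 524287]) : StB z t [1261567, 2031615, 524287] := by
  obtain ⟨o, hC, Q, P, R, c⟩ := h
  have x := o.sat U_x
  have o0 : St t m val X.I [524287] [] := ⟨o.toOv, ⟨c.gr, trivial⟩, trivial⟩
  have g := (o.dc U.done x U_l ⟨o.dok U.done U.spec x U_s0 U_t0 U_c0,
    o.dok U.done U.spec x U_s1 U_t1 U_c1, trivial⟩ (orc2.cent [8])
    (by decide +kernel)).mono (o0.le_genW U_w)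
  exact ⟨⟨o.toOv, ⟨g, o.grS (by decide +kernel), c.gr, trivial⟩, trivial⟩, hC, Q, P, R, c⟩

end Cfsg.Agent.XSC.CoU
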