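import Cfsg.Agent.Comp.BitMore3

set_option autoImplicit false
set_option Elab.async false
set_option maxRecDepth 100000

namespace Cfsg.Agent.XSC.E6

open Cfsg.Agent.Comp.BN

def P1 : Pres := ⟨[1, 0],
  [[0, 0, 0]]⟩

def P2 : Pres := ⟨[1, 0, 3, 2],
  [[0, 0, 0],
   [2, 2, 2],
   [2, 0, 2, 0]]⟩

def P3 : Pres := ⟨[1, 0, 3, 2, 5, 4],
  [[0, 0, 0],
   [2, 2, 2],
   [4, 4, 4],
   [4, 2, 4, 2],
   [4, 2, 0, 4, 2, 0],
   [2, 0, 2, 0]]⟩

def P4 : Pres := ⟨[1, 0, 3, 2, 5, 4, 7, 6],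
  [[0, 0, 0],
   [2, 2, 2],
   [4, 4, 4],
   [6, 6, 6],
   [6, 5, 6, 5],
   [6, 2, 6, 2],
   [6, 2, 0, 6, 2, 0],
   [4, 2, 4, 2],
   [4, 2, 0, 4, 2, 0],
   [2, 0, 2, 0]]⟩

def P5 : Pres := ⟨[1, 0, 3, 2, 5, 4, 7, 6, 9, 8],
  [[0, 0, 0],
   [2, 2, 2],
   [4, 4, 4],
   [6, 6, 6],
   [8, 8, 8],
   [8, 4, 7, 8, 4, 7],
   [8, 4, 8, 4],
   [8, 4, 2, 8, 4, 2],
   [8, 4, 2, 0, 8, 4, 2, 0],
   [6, 5, 6, 5],
   [6, 2, 6, 2],
   [6, 2, 0, 6, 2, 0],
   [4, 2, 4, 2],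
   [4, 2, 0, 4, 2, 0],
   [2, 0, 2, 0]]⟩

namespace A2
noncomputable def m0_0 : ℕ := nat_lit 0x18

noncomputable def m0_1 : ℕ := nat_lit 0x140

noncomputable def m0_2 : ℕ := nat_lit 0x240

noncomputable def m0_3 : ℕ := nat_lit 0x492

noncomputable def m0_4 : ℕ := nat_lit 0x201

noncomputable def net0 : Net := (.cons 6 m0_0 (.cons 3 m0_1 (.cons 1 m0_2 (.cons 1 m0_3 (.cons 1 m0_4 .nil)))))

theorem ok0 : Net.ok 12 net0 = true :=
  by decide +kernel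

noncomputable def net1 : Net := (.cons 1 m0_4 (.cons 1 m0_3 (.cons 1 m0_2 (.cons 3 m0_1 (.cons 6 m0_0 .nil)))))

theorem ok1 : Net.ok 12 net1 = true :=
  by decide +kernel

noncomputable def m2_0 : ℕ := nat_lit 0x2a

noncomputable def m2_1 : ℕ := nat_lit 0x103

noncomputable def m2_2 : ℕ := nat_lit 0x1

noncomputable def m2_3 : ℕ := nat_lit 0x92

noncomputable def m2_4 : ℕ := nat_lit 0x240

noncomputable def m2_5 : ℕ := nat_lit 0x104

noncomputable def m2_6 : ℕ := nat_lit 0x36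

noncomputable def net2 : Net := (.cons 6 m2_0 (.cons 3 m2_1 (.cons 1 m2_2 (.cons 1 m2_3 (.cons 1 m2_4 (.cons 3 m2_5 (.cons 6 m2_6 .nil)))))))

theorem ok2 : Net.ok 12 net2 = true :=
  by decide +kernel

noncomputable def net3 : Net := (.cons 6 m2_6 (.cons 3 m2_5 (.cons 1 m2_4 (.cons 1 m2_3 (.cons 1 m2_2 (.cons 3 m2_1 (.cons 6 m2_0 .nil)))))))

theorem ok3 : Net.ok 12 net3 = true :=
  by decide +kernel

noncomputable def nets : List Net := [net0, net1, net2, net3]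

noncomputable def act : Act := netAct' nets
noncomputable def π : ℕ → Equiv.Perm ℕ := netPerm nets

theorem spec : act.Spec 12 π :=
  spec_fast (netAct_spec (AllP.forall (p := fun t => Net.ok 12 t = true) ⟨ok0, ok1, ok2, ok3, trivial⟩))

theorem out : ∀ k, 4 ≤ k → π k = 1 :=
  netPerm_out nets

theorem sat_inv_0 : invC Cfsg.Agent.XSC.E6.A2.act Cfsg.Agent.XSC.E6.P2.I 12 4 Cfsg.Agent.XSC.E6.P2.inv.length [0, 1, 2, 3] = true :=
  by decide +kernel

theorem sat_inv : ∀ k, Cfsg.Agent.XSC.E6.A2.π (Cfsg.Agent.XSC.E6.P2.I k) * Cfsg.Agent.XSC.E6.A2.π k = 1 :=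
  inv_of_checks Cfsg.Agent.XSC.E6.A2.spec (K := 4) (by decide) Cfsg.Agent.XSC.E6.A2.out [[0, 1, 2, 3]] (by decide) ⟨sat_inv_0, trivial⟩

theorem sat_rel_0_0 : relsC Cfsg.Agent.XSC.E6.A2.act Cfsg.Agent.XSC.E6.P2.I 12 4 [[0, 0, 0], [2, 2, 2], [2, 0, 2, 0]] [0, 1, 2, 3] = true :=
  by decide +kernel

theorem sat_rel_0 : ∀ r ∈ ([[0, 0, 0], [2, 2, 2], [2, 0, 2, 0]] : List (List ℕ)), ev Cfsg.Agent.XSC.E6.A2.π r = 1 :=
  rels_of_checks Cfsg.Agent.XSC.E6.A2.spec (K := 4) (by decide) sat_inv _ [[0, 1, 2, 3]] (by decide) ⟨sat_rel_0_0, trivial⟩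

theorem sat_rel : ∀ r ∈ ([[0, 0, 0], [2, 2, 2], [2, 0, 2, 0]] : List (List ℕ)), ev Cfsg.Agent.XSC.E6.A2.π r = 1 :=
  rels_join [[[0, 0, 0], [2, 2, 2], [2, 0, 2, 0]]] ⟨sat_rel_0, trivial⟩

theorem sat : Sat Cfsg.Agent.XSC.E6.P2 Cfsg.Agent.XSC.E6.A2.π :=
  ⟨Cfsg.Agent.XSC.E6.A2.out, sat_inv, sat_rel⟩

noncomputable def done_tr0 : ℕ := nat_lit 0xcaa

noncomputable def done_tr1 : ℕ := nat_lit 0x2ac

noncomputable def done_tr2 : ℕ := nat_lit 0x150

noncomputable def done_t0_0 : ℕ := nat_lit 0x269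

noncomputable def done_t0_1 : ℕ := nat_lit 0x374

noncomputable def done_t0_2 : ℕ := nat_lit 0x80

noncomputable def done_t1_0 : ℕ := nat_lit 0x5d1

noncomputable def done_t1_1 : ℕ := nat_lit 0x5aa

noncomputable def done_t1_2 : ℕ := nat_lit 0x800

noncomputable def done_t2_0 : ℕ := nat_lit 0xa07

noncomputable def done_t2_1 : ℕ := nat_lit 0x350

noncomputable def done_t2_2 : ℕ := nat_lit 0xc00

noncomputable def done_t3_0 : ℕ := nat_lit 0x607

noncomputable def done_t3_1 : ℕ := nat_lit 0x4a8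

noncomputable def done_t3_2 : ℕ := nat_lit 0xa00

noncomputable def doneC : TC := ⟨Cfsg.Agent.XSC.E6.P2, [], 12, 12, 4, 3, [done_tr0, done_tr1, done_tr2],
  [[done_t0_0, done_t0_1, done_t0_2],
   [done_t1_0, done_t1_1, done_t1_2],
   [done_t2_0, done_t2_1, done_t2_2],
   [done_t3_0, done_t3_1, done_t3_2]]⟩

theorem done_s : doneC.structC Cfsg.Agent.XSC.E6.A2.act = true :=
  by decide +kernel

theorem done_c0_0 : doneC.coverC Cfsg.Agent.XSC.E6.A2.act 0 true [] [(false, 2, 1, 0), (false, 2, 1, 3), (false, 0, 0, 1), (false, 0, 0, 10), (false, 0, 0, 11), (false, 0, 0, 8), (false, 6, 1, 1), (false, 6, 1, 2), (false, 6, 1, 0)] 0 (ones 12) = true :=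
  by decide +kernel

theorem done_j0 : doneC.JustS Cfsg.Agent.XSC.E6.A2.π 0 (ones 12) :=
  TC.cover_step Cfsg.Agent.XSC.E6.A2.spec done_s (TC.justS_zero 0) done_c0_0

theorem done_c1_0 : doneC.coverC Cfsg.Agent.XSC.E6.A2.act 1 true [] [(false, 2, 0, 1), (false, 2, 0, 10), (false, 2, 0, 11), (false, 1, 0, 2), (false, 1, 0, 9), (false, 1, 0, 5), (false, 1, 0, 7), (false, 7, 0, 8), (false, 7, 0, 4), (false, 7, 0, 6)] 0 (ones 12) = true :=
  by decide +kernel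

theorem done_j1 : doneC.JustS Cfsg.Agent.XSC.E6.A2.π 1 (ones 12) :=
  TC.cover_step Cfsg.Agent.XSC.E6.A2.spec done_s (TC.justS_zero 1) done_c1_0

theorem done_c2_0 : doneC.coverC Cfsg.Agent.XSC.E6.A2.act 2 true [] [(false, 8, 1, 0), (false, 8, 1, 1), (false, 8, 1, 2), (false, 3, 0, 3), (false, 3, 0, 5), (false, 3, 0, 7), (false, 3, 0, 9), (false, 6, 0, 10), (false, 6, 0, 11)] 0 (ones 12) = true :=
  by decide +kernel

theorem done_j2 : doneC.JustS Cfsg.Agent.XSC.E6.A2.π 2 (ones 12) :=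
  TC.cover_step Cfsg.Agent.XSC.E6.A2.spec done_s (TC.justS_zero 2) done_c2_0

theorem done_c3_0 : doneC.coverC Cfsg.Agent.XSC.E6.A2.act 3 true [] [(false, 8, 0, 3), (false, 8, 0, 5), (false, 8, 0, 7), (false, 4, 0, 4), (false, 4, 0, 6), (false, 4, 0, 8), (false, 4, 0, 11), (false, 7, 1, 3), (false, 7, 1, 5)] 0 (ones 12) = true :=
  by decide +kernel

theorem done_j3 : doneC.JustS Cfsg.Agent.XSC.E6.A2.π 3 (ones 12) :=
  TC.cover_step Cfsg.Agent.XSC.E6.A2.spec done_s (TC.justS_zero 3) done_c3_0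

theorem done : doneC.Done Cfsg.Agent.XSC.E6.A2.π :=
  TC.done_of Cfsg.Agent.XSC.E6.A2.spec sat done_s ⟨done_j0, done_j1, done_j2, done_j3, trivial⟩

end A2

theorem b2 : Bound P2 12 :=
  A2.done.bound_bot rfl

namespace A3
noncomputable def m0_0 : ℕ := nat_lit 0x8

noncomputable def m0_1 : ℕ := nat_lit 0x4

noncomputable def m0_2 : ℕ := nat_lit 0x2

noncomputable def m0_3 : ℕ := nat_lit 0x4

noncomputable def net0 : Net := (.cons 1 m0_0 (.cons 1 m0_1 (.cons 1 m0_2 (.cons 1 m0_3 .nil))))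

theorem ok0 : Net.ok 5 net0 = true :=
  by decide +kernel

noncomputable def net1 : Net := (.cons 1 m0_3 (.cons 1 m0_2 (.cons 1 m0_1 (.cons 1 m0_0 .nil))))

theorem ok1 : Net.ok 5 net1 = true :=
  by decide +kernel

noncomputable def m2_0 : ℕ := nat_lit 0x8

noncomputable def m2_1 : ℕ := nat_lit 0x4

noncomputable def m2_2 : ℕ := nat_lit 0xa

noncomputable def net2 : Net := (.cons 1 m2_0 (.cons 1 m2_1 (.cons 1 m2_2 .nil)))

theorem ok2 : Net.ok 5 net2 = true :=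
  by decide +kernel

noncomputable def net3 : Net := (.cons 1 m2_2 (.cons 1 m2_1 (.cons 1 m2_0 .nil)))

theorem ok3 : Net.ok 5 net3 = true :=
  by decide +kernel

noncomputable def m4_0 : ℕ := nat_lit 0x2

noncomputable def m4_1 : ℕ := nat_lit 0x1

noncomputable def net4 : Net := (.cons 1 m4_0 (.cons 1 m4_1 .nil))

theorem ok4 : Net.ok 5 net4 = true :=
  by decide +kernel

noncomputable def net5 : Net := (.cons 1 m4_1 (.cons 1 m4_0 .nil))

theorem ok5 : Net.ok 5 net5 = true :=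
  by decide +kernel

noncomputable def nets : List Net := [net0, net1, net2, net3, net4, net5]

noncomputable def act : Act := netAct' nets
noncomputable def π : ℕ → Equiv.Perm ℕ := netPerm nets

theorem spec : act.Spec 5 π :=
  spec_fast (netAct_spec (AllP.forall (p := fun t => Net.ok 5 t = true) ⟨ok0, ok1, ok2, ok3, ok4, ok5, trivial⟩))

theorem out : ∀ k, 6 ≤ k → π k = 1 :=
  netPerm_out nets

theorem sat_inv_0 : invC Cfsg.Agent.XSC.E6.A3.act Cfsg.Agent.XSC.E6.P3.I 5 3 Cfsg.Agent.XSC.E6.P3.inv.length [0, 1, 2] = true :=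
  by decide +kernel

theorem sat_inv : ∀ k, Cfsg.Agent.XSC.E6.A3.π (Cfsg.Agent.XSC.E6.P3.I k) * Cfsg.Agent.XSC.E6.A3.π k = 1 :=
  inv_of_checks Cfsg.Agent.XSC.E6.A3.spec (K := 3) (by decide) Cfsg.Agent.XSC.E6.A3.out [[0, 1, 2]] (by decide) ⟨sat_inv_0, trivial⟩

theorem sat_rel_0_0 : relsC Cfsg.Agent.XSC.E6.A3.act Cfsg.Agent.XSC.E6.P3.I 5 3 [[0, 0, 0], [2, 2, 2], [4, 4, 4], [4, 2, 4, 2], [4, 2, 0, 4, 2, 0], [2, 0, 2, 0]] [0, 1, 2] = true :=
  by decide +kernel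

theorem sat_rel_0 : ∀ r ∈ ([[0, 0, 0], [2, 2, 2], [4, 4, 4], [4, 2, 4, 2], [4, 2, 0, 4, 2, 0], [2, 0, 2, 0]] : List (List ℕ)), ev Cfsg.Agent.XSC.E6.A3.π r = 1 :=
  rels_of_checks Cfsg.Agent.XSC.E6.A3.spec (K := 3) (by decide) sat_inv _ [[0, 1, 2]] (by decide) ⟨sat_rel_0_0, trivial⟩

theorem sat_rel : ∀ r ∈ ([[0, 0, 0], [2, 2, 2], [4, 4, 4], [4, 2, 4, 2], [4, 2, 0, 4, 2, 0], [2, 0, 2, 0]] : List (List ℕ)), ev Cfsg.Agent.XSC.E6.A3.π r = 1 :=
  rels_join [[[0, 0, 0], [2, 2, 2], [4, 4, 4], [4, 2, 4, 2], [4, 2, 0, 4, 2, 0], [2, 0, 2, 0]]] ⟨sat_rel_0, trivial⟩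

theorem sat : Sat Cfsg.Agent.XSC.E6.P3 Cfsg.Agent.XSC.E6.A3.π :=
  ⟨Cfsg.Agent.XSC.E6.A3.out, sat_inv, sat_rel⟩

noncomputable def done_tr0 : ℕ := nat_lit 0xa

noncomputable def done_tr1 : ℕ := nat_lit 0x14

noncomputable def done_tr2 : ℕ := nat_lit 0x6

noncomputable def done_t0_0 : ℕ := nat_lit 0x7

noncomputable def done_t0_1 : ℕ := nat_lit 0x14

noncomputable def done_t0_2 : ℕ := nat_lit 0

noncomputable def done_t1_0 : ℕ := nat_lit 0x7

noncomputable def done_t1_1 : ℕ := nat_lit 0xc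

noncomputable def done_t1_2 : ℕ := nat_lit 0

noncomputable def done_t2_0 : ℕ := nat_lit 0x3

noncomputable def done_t2_1 : ℕ := nat_lit 0xc

noncomputable def done_t2_2 : ℕ := nat_lit 0x1a

noncomputable def done_t3_0 : ℕ := nat_lit 0x11

noncomputable def done_t3_1 : ℕ := nat_lit 0xa

noncomputable def done_t3_2 : ℕ := nat_lit 0x1c

noncomputable def done_t4_0 : ℕ := nat_lit 0x9

noncomputable def done_t4_1 : ℕ := nat_lit 0x1c

noncomputable def done_t4_2 : ℕ := nat_lit 0x18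

noncomputable def done_t5_0 : ℕ := nat_lit 0x9

noncomputable def done_t5_1 : ℕ := nat_lit 0x1a

noncomputable def done_t5_2 : ℕ := nat_lit 0x18

noncomputable def doneC : TC := ⟨Cfsg.Agent.XSC.E6.P3, [[0], [1], [2], [3]], 5, 5, 3, 3, [done_tr0, done_tr1, done_tr2],
  [[done_t0_0, done_t0_1, done_t0_2],
   [done_t1_0, done_t1_1, done_t1_2],
   [done_t2_0, done_t2_1, done_t2_2],
   [done_t3_0, done_t3_1, done_t3_2],
   [done_t4_0, done_t4_1, done_t4_2],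
   [done_t5_0, done_t5_1, done_t5_2]]⟩

theorem done_s : doneC.structC Cfsg.Agent.XSC.E6.A3.act = true :=
  by decide +kernel

theorem done_c0_0 : doneC.coverC Cfsg.Agent.XSC.E6.A3.act 0 true [] [(true, 0, 0, 0), (false, 2, 1, 1), (false, 0, 0, 3), (false, 12, 2, 0)] 0 (ones 5) = true :=
  by decide +kernel

theorem done_j0 : doneC.JustS Cfsg.Agent.XSC.E6.A3.π 0 (ones 5) :=
  TC.cover_step Cfsg.Agent.XSC.E6.A3.spec done_s (TC.justS_zero 0) done_c0_0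

theorem done_c1_0 : doneC.coverC Cfsg.Agent.XSC.E6.A3.act 1 true [] [(true, 1, 0, 0), (false, 2, 0, 3), (false, 1, 0, 4), (false, 13, 0, 2)] 0 (ones 5) = true :=
  by decide +kernel

theorem done_j1 : doneC.JustS Cfsg.Agent.XSC.E6.A3.π 1 (ones 5) :=
  TC.cover_step Cfsg.Agent.XSC.E6.A3.spec done_s (TC.justS_zero 1) done_c1_0

theorem done_c2_0 : doneC.coverC Cfsg.Agent.XSC.E6.A3.act 2 true [] [(true, 2, 0, 0), (false, 3, 0, 4), (false, 9, 1, 0), (false, 15, 0, 3), (false, 15, 0, 2)] 0 (ones 5) = true :=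
  by decide +kernel

theorem done_j2 : doneC.JustS Cfsg.Agent.XSC.E6.A3.π 2 (ones 5) :=
  TC.cover_step Cfsg.Agent.XSC.E6.A3.spec done_s (TC.justS_zero 2) done_c2_0

theorem done_c3_0 : doneC.coverC Cfsg.Agent.XSC.E6.A3.act 3 true [] [(true, 3, 0, 0), (false, 4, 0, 1), (false, 10, 0, 2), (false, 16, 1, 1), (false, 16, 1, 4)] 0 (ones 5) = true :=
  by decide +kernel

theorem done_j3 : doneC.JustS Cfsg.Agent.XSC.E6.A3.π 3 (ones 5) :=
  TC.cover_step Cfsg.Agent.XSC.E6.A3.spec done_s (TC.justS_zero 3) done_c3_0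

theorem done_c4_0 : doneC.coverC Cfsg.Agent.XSC.E6.A3.act 4 true [] [(false, 14, 1, 0), (false, 6, 0, 1), (false, 9, 0, 4), (false, 12, 0, 3)] 0 (ones 5) = true :=
  by decide +kernel

theorem done_j4 : doneC.JustS Cfsg.Agent.XSC.E6.A3.π 4 (ones 5) :=
  TC.cover_step Cfsg.Agent.XSC.E6.A3.spec done_s (TC.justS_zero 4) done_c4_0

theorem done_c5_0 : doneC.coverC Cfsg.Agent.XSC.E6.A3.act 5 true [] [(false, 14, 0, 1), (false, 7, 0, 2), (false, 10, 1, 1), (false, 13, 2, 4)] 0 (ones 5) = true :=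
  by decide +kernel

theorem done_j5 : doneC.JustS Cfsg.Agent.XSC.E6.A3.π 5 (ones 5) :=
  TC.cover_step Cfsg.Agent.XSC.E6.A3.spec done_s (TC.justS_zero 5) done_c5_0

theorem done : doneC.Done Cfsg.Agent.XSC.E6.A3.π :=
  TC.done_of Cfsg.Agent.XSC.E6.A3.spec sat done_s ⟨done_j0, done_j1, done_j2, done_j3, done_j4, done_j5, trivial⟩

end A3

theorem iA3 : Impl Cfsg.Agent.XSC.E6.P3 Cfsg.Agent.XSC.E6.P2 [[0], [1], [2], [3]] :=
  impl_of_subC (P := Cfsg.Agent.XSC.E6.P3) (c1 := [(18, 0), (18, 0), (18, 0), (18, 0)]) (c2 := [(0, 0), (3, 0), (15, 0)]) (by decide +kernel)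

theorem b3 : Bound Cfsg.Agent.XSC.E6.P3 60 :=
  A3.done.bound' b2 iA3 ⟨inSub_of_mem (by decide), inSub_of_mem (by decide), inSub_of_mem (by decide), inSub_of_mem (by decide), trivial⟩

namespace A4
noncomputable def m0_0 : ℕ := nat_lit 0xe8

noncomputable def m0_1 : ℕ := nat_lit 0xa0a

noncomputable def m0_2 : ℕ := nat_lit 0x2310

noncomputable def m0_3 : ℕ := nat_lit 0x1040

noncomputable def m0_4 : ℕ := nat_lit 0x2020

noncomputable def m0_5 : ℕ := nat_lit 0xc0a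

noncomputable def m0_6 : ℕ := nat_lit 0xf0

noncomputable def net0 : Net := (.cons 8 m0_0 (.cons 4 m0_1 (.cons 2 m0_2 (.cons 1 m0_3 (.cons 2 m0_4 (.cons 4 m0_5 (.cons 8 m0_6 .nil)))))))

theorem ok0 : Net.ok 16 net0 = true :=
  by decide +kernel

noncomputable def net1 : Net := (.cons 8 m0_6 (.cons 4 m0_5 (.cons 2 m0_4 (.cons 1 m0_3 (.cons 2 m0_2 (.cons 4 m0_1 (.cons 8 m0_0 .nil)))))))

theorem ok1 : Net.ok 16 net1 = true :=
  by decide +kernel

noncomputable def m2_0 : ℕ := nat_lit 0xe8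

noncomputable def m2_1 : ℕ := nat_lit 0xc0c

noncomputable def m2_2 : ℕ := nat_lit 0x12

noncomputable def m2_3 : ℕ := nat_lit 0x544

noncomputable def m2_4 : ℕ := nat_lit 0x22

noncomputable def m2_5 : ℕ := nat_lit 0xa0a

noncomputable def m2_6 : ℕ := nat_lit 0xe8

noncomputable def net2 : Net := (.cons 8 m2_0 (.cons 4 m2_1 (.cons 2 m2_2 (.cons 1 m2_3 (.cons 2 m2_4 (.cons 4 m2_5 (.cons 8 m2_6 .nil)))))))

theorem ok2 : Net.ok 16 net2 = true :=
  by decide +kernel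

noncomputable def net3 : Net := (.cons 8 m2_6 (.cons 4 m2_5 (.cons 2 m2_4 (.cons 1 m2_3 (.cons 2 m2_2 (.cons 4 m2_1 (.cons 8 m2_0 .nil)))))))

theorem ok3 : Net.ok 16 net3 = true :=
  by decide +kernel

noncomputable def m4_0 : ℕ := nat_lit 0x10

noncomputable def m4_1 : ℕ := nat_lit 0xf0a

noncomputable def m4_2 : ℕ := nat_lit 0x2

noncomputable def m4_3 : ℕ := nat_lit 0x1444

noncomputable def m4_4 : ℕ := nat_lit 0x202

noncomputable def m4_5 : ℕ := nat_lit 0xe00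

noncomputable def m4_6 : ℕ := nat_lit 0x10

noncomputable def net4 : Net := (.cons 8 m4_0 (.cons 4 m4_1 (.cons 2 m4_2 (.cons 1 m4_3 (.cons 2 m4_4 (.cons 4 m4_5 (.cons 8 m4_6 .nil)))))))

theorem ok4 : Net.ok 16 net4 = true :=
  by decide +kernel

noncomputable def net5 : Net := (.cons 8 m4_6 (.cons 4 m4_5 (.cons 2 m4_4 (.cons 1 m4_3 (.cons 2 m4_2 (.cons 4 m4_1 (.cons 8 m4_0 .nil)))))))

theorem ok5 : Net.ok 16 net5 = true :=
  by decide +kernel

noncomputable def m6_0 : ℕ := nat_lit 0x8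

noncomputable def m6_1 : ℕ := nat_lit 0x500

noncomputable def m6_2 : ℕ := nat_lit 0x2003

noncomputable def m6_3 : ℕ := nat_lit 0x4144

noncomputable def m6_4 : ℕ := nat_lit 0x2002

noncomputable def m6_5 : ℕ := nat_lit 0x8

noncomputable def m6_6 : ℕ := nat_lit 0x8

noncomputable def net6 : Net := (.cons 8 m6_0 (.cons 4 m6_1 (.cons 2 m6_2 (.cons 1 m6_3 (.cons 2 m6_4 (.cons 4 m6_5 (.cons 8 m6_6 .nil)))))))

theorem ok6 : Net.ok 16 net6 = true :=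
  by decide +kernel

noncomputable def net7 : Net := (.cons 8 m6_6 (.cons 4 m6_5 (.cons 2 m6_4 (.cons 1 m6_3 (.cons 2 m6_2 (.cons 4 m6_1 (.cons 8 m6_0 .nil)))))))

theorem ok7 : Net.ok 16 net7 = true :=
  by decide +kernel

noncomputable def nets : List Net := [net0, net1, net2, net3, net4, net5, net6, net7]

noncomputable def act : Act := netAct' nets
noncomputable def π : ℕ → Equiv.Perm ℕ := netPerm nets

theorem spec : act.Spec 16 π :=
  spec_fast (netAct_spec (AllP.forall (p := fun t => Net.ok 16 t = true) ⟨ok0, ok1, ok2, ok3, ok4, ok5, ok6, ok7, trivial⟩))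

theorem out : ∀ k, 8 ≤ k → π k = 1 :=
  netPerm_out nets

theorem sat_inv_0 : invC Cfsg.Agent.XSC.E6.A4.act Cfsg.Agent.XSC.E6.P4.I 16 4 Cfsg.Agent.XSC.E6.P4.inv.length [0, 1, 2, 3] = true :=
  by decide +kernel

theorem sat_inv : ∀ k, Cfsg.Agent.XSC.E6.A4.π (Cfsg.Agent.XSC.E6.P4.I k) * Cfsg.Agent.XSC.E6.A4.π k = 1 :=
  inv_of_checks Cfsg.Agent.XSC.E6.A4.spec (K := 4) (by decide) Cfsg.Agent.XSC.E6.A4.out [[0, 1, 2, 3]] (by decide) ⟨sat_inv_0, trivial⟩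

theorem sat_rel_0_0 : relsC Cfsg.Agent.XSC.E6.A4.act Cfsg.Agent.XSC.E6.P4.I 16 4 [[0, 0, 0], [2, 2, 2], [4, 4, 4], [6, 6, 6], [6, 5, 6, 5], [6, 2, 6, 2], [6, 2, 0, 6, 2, 0], [4, 2, 4, 2], [4, 2, 0, 4, 2, 0], [2, 0, 2, 0]] [0, 1, 2, 3] = true :=
  by decide +kernel

theorem sat_rel_0 : ∀ r ∈ ([[0, 0, 0], [2, 2, 2], [4, 4, 4], [6, 6, 6], [6, 5, 6, 5], [6, 2, 6, 2], [6, 2, 0, 6, 2, 0], [4, 2, 4, 2], [4, 2, 0, 4, 2, 0], [2, 0, 2, 0]] : List (List ℕ)), ev Cfsg.Agent.XSC.E6.A4.π r = 1 :=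
  rels_of_checks Cfsg.Agent.XSC.E6.A4.spec (K := 4) (by decide) sat_inv _ [[0, 1, 2, 3]] (by decide) ⟨sat_rel_0_0, trivial⟩

theorem sat_rel : ∀ r ∈ ([[0, 0, 0], [2, 2, 2], [4, 4, 4], [6, 6, 6], [6, 5, 6, 5], [6, 2, 6, 2], [6, 2, 0, 6, 2, 0], [4, 2, 4, 2], [4, 2, 0, 4, 2, 0], [2, 0, 2, 0]] : List (List ℕ)), ev Cfsg.Agent.XSC.E6.A4.π r = 1 :=
  rels_join [[[0, 0, 0], [2, 2, 2], [4, 4, 4], [6, 6, 6], [6, 5, 6, 5], [6, 2, 6, 2], [6, 2, 0, 6, 2, 0], [4, 2, 4, 2], [4, 2, 0, 4, 2, 0], [2, 0, 2, 0]]] ⟨sat_rel_0, trivial⟩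

theorem sat : Sat Cfsg.Agent.XSC.E6.P4 Cfsg.Agent.XSC.E6.A4.π :=
  ⟨Cfsg.Agent.XSC.E6.A4.out, sat_inv, sat_rel⟩

noncomputable def done_tr0 : ℕ := nat_lit 0xbd6a

noncomputable def done_tr1 : ℕ := nat_lit 0x3a92

noncomputable def done_tr2 : ℕ := nat_lit 0xbbe2

noncomputable def done_tr3 : ℕ := nat_lit 0x4004

noncomputable def done_t0_0 : ℕ := nat_lit 0xe0e7

noncomputable def done_t0_1 : ℕ := nat_lit 0x31b4

noncomputable def done_t0_2 : ℕ := nat_lit 0x78a0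

noncomputable def done_t0_3 : ℕ := nat_lit 0x7b40

noncomputable def done_t0_4 : ℕ := nat_lit 0x8000

noncomputable def done_t1_0 : ℕ := nat_lit 0xab67

noncomputable def done_t1_1 : ℕ := nat_lit 0x662c

noncomputable def done_t1_2 : ℕ := nat_lit 0x7a20

noncomputable def done_t1_3 : ℕ := nat_lit 0x7d80

noncomputable def done_t1_4 : ℕ := nat_lit 0x8000

noncomputable def done_t2_0 : ℕ := nat_lit 0x55a3

noncomputable def done_t2_1 : ℕ := nat_lit 0x278c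

noncomputable def done_t2_2 : ℕ := nat_lit 0x6bfa

noncomputable def done_t2_3 : ℕ := nat_lit 0x7c40

noncomputable def done_t2_4 : ℕ := nat_lit 0x8000

noncomputable def done_t3_0 : ℕ := nat_lit 0x1bd1

noncomputable def done_t3_1 : ℕ := nat_lit 0x42ea

noncomputable def done_t3_2 : ℕ := nat_lit 0x6f7c

noncomputable def done_t3_3 : ℕ := nat_lit 0x7c80

noncomputable def done_t3_4 : ℕ := nat_lit 0x8000

noncomputable def done_t4_0 : ℕ := nat_lit 0x541d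

noncomputable def done_t4_1 : ℕ := nat_lit 0x6a86

noncomputable def done_t4_2 : ℕ := nat_lit 0x6400

noncomputable def done_t4_3 : ℕ := nat_lit 0x7c00

noncomputable def done_t4_4 : ℕ := nat_lit 0

noncomputable def done_t5_0 : ℕ := nat_lit 0xb43b

noncomputable def done_t5_1 : ℕ := nat_lit 0xc964

noncomputable def done_t5_2 : ℕ := nat_lit 0xc400

noncomputable def done_t5_3 : ℕ := nat_lit 0xdc00

noncomputable def done_t5_4 : ℕ := nat_lit 0

noncomputable def done_t6_0 : ℕ := nat_lit 0x589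

noncomputable def done_t6_1 : ℕ := nat_lit 0x411c

noncomputable def done_t6_2 : ℕ := nat_lit 0x138

noncomputable def done_t6_3 : ℕ := nat_lit 0x2c0

noncomputable def done_t6_4 : ℕ := nat_lit 0x8000

noncomputable def done_t7_0 : ℕ := nat_lit 0xf49

noncomputable def done_t7_1 : ℕ := nat_lit 0x221a

noncomputable def done_t7_2 : ℕ := nat_lit 0x238

noncomputable def done_t7_3 : ℕ := nat_lit 0x1880

noncomputable def done_t7_4 : ℕ := nat_lit 0x8000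

noncomputable def doneC : TC := ⟨Cfsg.Agent.XSC.E6.P4, [[0], [1], [2], [3], [4], [5]], 16, 16, 4, 5, [done_tr0, done_tr1, done_tr2, done_tr3],
  [[done_t0_0, done_t0_1, done_t0_2, done_t0_3, done_t0_4],
   [done_t1_0, done_t1_1, done_t1_2, done_t1_3, done_t1_4],
   [done_t2_0, done_t2_1, done_t2_2, done_t2_3, done_t2_4],
   [done_t3_0, done_t3_1, done_t3_2, done_t3_3, done_t3_4],
   [done_t4_0, done_t4_1, done_t4_2, done_t4_3, done_t4_4],
   [done_t5_0, done_t5_1, done_t5_2, done_t5_3, done_t5_4],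
   [done_t6_0, done_t6_1, done_t6_2, done_t6_3, done_t6_4],
   [done_t7_0, done_t7_1, done_t7_2, done_t7_3, done_t7_4]]⟩

theorem done_s : doneC.structC Cfsg.Agent.XSC.E6.A4.act = true :=
  by decide +kernel

theorem done_c0_0 : doneC.coverC Cfsg.Agent.XSC.E6.A4.act 0 true [] [(true, 0, 0, 0), (false, 2, 1, 1), (false, 0, 0, 3), (false, 0, 0, 10), (false, 0, 0, 7), (false, 0, 0, 14), (false, 27, 1, 9), (false, 27, 1, 14), (false, 18, 2, 0), (false, 18, 2, 8), (false, 18, 2, 10), (false, 24, 2, 1), (false, 24, 2, 4), (false, 24, 2, 13)] 0 (ones 16) = true :=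
  by decide +kernel

theorem done_j0 : doneC.JustS Cfsg.Agent.XSC.E6.A4.π 0 (ones 16) :=
  TC.cover_step Cfsg.Agent.XSC.E6.A4.spec done_s (TC.justS_zero 0) done_c0_0

theorem done_c1_0 : doneC.coverC Cfsg.Agent.XSC.E6.A4.act 1 true [] [(true, 1, 0, 0), (false, 2, 0, 3), (false, 2, 0, 10), (false, 1, 0, 4), (false, 1, 0, 9), (false, 1, 0, 8), (false, 1, 0, 12), (false, 28, 0, 6), (false, 28, 0, 13), (false, 19, 0, 2), (false, 19, 0, 14), (false, 19, 0, 11), (false, 25, 0, 7), (false, 25, 0, 5), (false, 25, 0, 15)] 0 (ones 16) = true :=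
  by decide +kernel

theorem done_j1 : doneC.JustS Cfsg.Agent.XSC.E6.A4.π 1 (ones 16) :=
  TC.cover_step Cfsg.Agent.XSC.E6.A4.spec done_s (TC.justS_zero 1) done_c1_0

theorem done_c2_0 : doneC.coverC Cfsg.Agent.XSC.E6.A4.act 2 true [] [(true, 2, 0, 0), (false, 3, 0, 4), (false, 3, 0, 10), (false, 3, 0, 9), (false, 3, 0, 14), (false, 15, 1, 0), (false, 15, 1, 10), (false, 15, 1, 8), (false, 15, 1, 6), (false, 21, 1, 4), (false, 21, 1, 3), (false, 21, 1, 1), (false, 21, 1, 13), (false, 27, 0, 3), (false, 27, 0, 2), (false, 27, 0, 7)] 0 (ones 16) = true :=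
  by decide +kernel

theorem done_j2 : doneC.JustS Cfsg.Agent.XSC.E6.A4.π 2 (ones 16) :=
  TC.cover_step Cfsg.Agent.XSC.E6.A4.spec done_s (TC.justS_zero 2) done_c2_0

theorem done_c3_0 : doneC.coverC Cfsg.Agent.XSC.E6.A4.act 3 true [] [(true, 3, 0, 0), (false, 4, 0, 1), (false, 4, 0, 8), (false, 4, 0, 6), (false, 4, 0, 13), (false, 16, 0, 2), (false, 16, 0, 14), (false, 16, 0, 12), (false, 16, 0, 11), (false, 22, 0, 9), (false, 22, 0, 7), (false, 22, 0, 5), (false, 22, 0, 15), (false, 28, 1, 1), (false, 28, 1, 4), (false, 28, 1, 8)] 0 (ones 16) = true :=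
  by decide +kernel

theorem done_j3 : doneC.JustS Cfsg.Agent.XSC.E6.A4.π 3 (ones 16) :=
  TC.cover_step Cfsg.Agent.XSC.E6.A4.spec done_s (TC.justS_zero 3) done_c3_0

theorem done_c4_0 : doneC.coverC Cfsg.Agent.XSC.E6.A4.act 4 true [] [(true, 4, 0, 0), (false, 14, 1, 3), (false, 14, 1, 4), (false, 6, 0, 5), (false, 6, 0, 6), (false, 6, 0, 8), (false, 6, 0, 15), (false, 13, 0, 2), (false, 13, 0, 11), (false, 13, 0, 12), (false, 13, 0, 14), (false, 21, 0, 10)] 0 (ones 16) = true :=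
  by decide +kernel

theorem done_j4 : doneC.JustS Cfsg.Agent.XSC.E6.A4.π 4 (ones 16) :=
  TC.cover_step Cfsg.Agent.XSC.E6.A4.spec done_s (TC.justS_zero 4) done_c4_0

theorem done_c5_0 : doneC.coverC Cfsg.Agent.XSC.E6.A4.act 5 true [] [(true, 5, 0, 0), (false, 14, 0, 5), (false, 14, 0, 6), (false, 14, 0, 8), (false, 14, 0, 15), (false, 7, 0, 2), (false, 7, 0, 7), (false, 7, 0, 9), (false, 7, 0, 14), (false, 12, 1, 0), (false, 12, 1, 6), (false, 12, 1, 8), (false, 12, 1, 10), (false, 22, 1, 6)] 0 (ones 16) = true :=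
  by decide +kernel

theorem done_j5 : doneC.JustS Cfsg.Agent.XSC.E6.A4.π 5 (ones 16) :=
  TC.cover_step Cfsg.Agent.XSC.E6.A4.spec done_s (TC.justS_zero 5) done_c5_0

theorem done_c6_0 : doneC.coverC Cfsg.Agent.XSC.E6.A4.act 6 true [] [(false, 20, 1, 0), (false, 20, 1, 10), (false, 9, 0, 1), (false, 9, 0, 11), (false, 9, 0, 12), (false, 9, 0, 13), (false, 12, 0, 5), (false, 12, 0, 7), (false, 12, 0, 9), (false, 12, 0, 15), (false, 15, 0, 4), (false, 18, 0, 3)] 0 (ones 16) = true :=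
  by decide +kernel

theorem done_j6 : doneC.JustS Cfsg.Agent.XSC.E6.A4.π 6 (ones 16) :=
  TC.cover_step Cfsg.Agent.XSC.E6.A4.spec done_s (TC.justS_zero 6) done_c6_0

theorem done_c7_0 : doneC.coverC Cfsg.Agent.XSC.E6.A4.act 7 true [] [(false, 20, 0, 1), (false, 20, 0, 11), (false, 20, 0, 12), (false, 20, 0, 13), (false, 10, 0, 2), (false, 10, 0, 7), (false, 10, 0, 9), (false, 10, 0, 14), (false, 13, 1, 1), (false, 13, 1, 3), (false, 13, 1, 4), (false, 13, 1, 13), (false, 16, 1, 1), (false, 19, 2, 4)] 0 (ones 16) = true :=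
  by decide +kernel

theorem done_j7 : doneC.JustS Cfsg.Agent.XSC.E6.A4.π 7 (ones 16) :=
  TC.cover_step Cfsg.Agent.XSC.E6.A4.spec done_s (TC.justS_zero 7) done_c7_0

theorem done : doneC.Done Cfsg.Agent.XSC.E6.A4.π :=
  TC.done_of Cfsg.Agent.XSC.E6.A4.spec sat done_s ⟨done_j0, done_j1, done_j2, done_j3, done_j4, done_j5, done_j6, done_j7, trivial⟩

end A4

theorem iA4 : Impl Cfsg.Agent.XSC.E6.P4 Cfsg.Agent.XSC.E6.P3 [[0], [1], [2], [3], [4], [5]] :=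
  impl_of_subC (P := Cfsg.Agent.XSC.E6.P4) (c1 := [(30, 0), (30, 0), (30, 0), (30, 0), (30, 0), (30, 0)]) (c2 := [(0, 0), (3, 0), (6, 0), (21, 0), (24, 0), (27, 0)]) (by decide +kernel)

theorem b4 : Bound Cfsg.Agent.XSC.E6.P4 960 :=
  A4.done.bound' b3 iA4 ⟨inSub_of_mem (by decide), inSub_of_mem (by decide), inSub_of_mem (by decide), inSub_of_mem (by decide), inSub_of_mem (by decide), inSub_of_mem (by decide), trivial⟩

namespace A5
noncomputable def m0_0 : ℕ := nat_lit 0xf000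

noncomputable def m0_1 : ℕ := nat_lit 0xf000a0

noncomputable def m0_2 : ℕ := nat_lit 0xe0808

noncomputable def m0_3 : ℕ := nat_lit 0x1100030

noncomputable def m0_4 : ℕ := nat_lit 0x1140510

noncomputable def m0_5 : ℕ := nat_lit 0x20020

noncomputable def m0_6 : ℕ := nat_lit 0x80208

noncomputable def m0_7 : ℕ := nat_lit 0xf000a0

noncomputable def m0_8 : ℕ := nat_lit 0xf000

noncomputable def net0 : Net := (.cons 16 m0_0 (.cons 8 m0_1 (.cons 4 m0_2 (.cons 2 m0_3 (.cons 1 m0_4 (.cons 2 m0_5 (.cons 4 m0_6 (.cons 8 m0_7 (.cons 16 m0_8 .nil)))))))))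

theorem ok0 : Net.ok 32 net0 = true :=
  by decide +kernel

noncomputable def net1 : Net := (.cons 16 m0_8 (.cons 8 m0_7 (.cons 4 m0_6 (.cons 2 m0_5 (.cons 1 m0_4 (.cons 2 m0_3 (.cons 4 m0_2 (.cons 8 m0_1 (.cons 16 m0_0 .nil)))))))))

theorem ok1 : Net.ok 32 net1 = true :=
  by decide +kernel

noncomputable def m2_0 : ℕ := nat_lit 0xc000

noncomputable def m2_1 : ℕ := nat_lit 0xc000a0

noncomputable def m2_2 : ℕ := nat_lit 0x804020a

noncomputable def m2_3 : ℕ := nat_lit 0x12120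

noncomputable def m2_4 : ℕ := nat_lit 0x1410510

noncomputable def m2_5 : ℕ := nat_lit 0x2000000

noncomputable def m2_6 : ℕ := nat_lit 0x80c080a

noncomputable def m2_7 : ℕ := nat_lit 0xc000a0

noncomputable def m2_8 : ℕ := nat_lit 0xc000

noncomputable def net2 : Net := (.cons 16 m2_0 (.cons 8 m2_1 (.cons 4 m2_2 (.cons 2 m2_3 (.cons 1 m2_4 (.cons 2 m2_5 (.cons 4 m2_6 (.cons 8 m2_7 (.cons 16 m2_8 .nil)))))))))

theorem ok2 : Net.ok 32 net2 = true :=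
  by decide +kernel

noncomputable def net3 : Net := (.cons 16 m2_8 (.cons 8 m2_7 (.cons 4 m2_6 (.cons 2 m2_5 (.cons 1 m2_4 (.cons 2 m2_3 (.cons 4 m2_2 (.cons 8 m2_1 (.cons 16 m2_0 .nil)))))))))

theorem ok3 : Net.ok 32 net3 = true :=
  by decide +kernel

noncomputable def m4_0 : ℕ := nat_lit 0x800

noncomputable def m4_1 : ℕ := nat_lit 0xec0080

noncomputable def m4_2 : ℕ := nat_lit 0xc000506

noncomputable def m4_3 : ℕ := nat_lit 0x21022230

noncomputable def m4_4 : ℕ := nat_lit 0x44011440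

noncomputable def m4_5 : ℕ := nat_lit 0x2220

noncomputable def m4_6 : ℕ := nat_lit 0xc000006

noncomputable def m4_7 : ℕ := nat_lit 0xec0080

noncomputable def m4_8 : ℕ := nat_lit 0x800

noncomputable def net4 : Net := (.cons 16 m4_0 (.cons 8 m4_1 (.cons 4 m4_2 (.cons 2 m4_3 (.cons 1 m4_4 (.cons 2 m4_5 (.cons 4 m4_6 (.cons 8 m4_7 (.cons 16 m4_8 .nil)))))))))

theorem ok4 : Net.ok 32 net4 = true :=
  by decide +kernel

noncomputable def net5 : Net := (.cons 16 m4_8 (.cons 8 m4_7 (.cons 4 m4_6 (.cons 2 m4_5 (.cons 1 m4_4 (.cons 2 m4_3 (.cons 4 m4_2 (.cons 8 m4_1 (.cons 16 m4_0 .nil)))))))))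

theorem ok5 : Net.ok 32 net5 = true :=
  by decide +kernel

noncomputable def m6_0 : ℕ := nat_lit 0xa000c8

noncomputable def m6_1 : ℕ := nat_lit 0xa0d0802

noncomputable def m6_2 : ℕ := nat_lit 0x300

noncomputable def m6_3 : ℕ := nat_lit 0x1410510

noncomputable def m6_4 : ℕ := nat_lit 0x2000000

noncomputable def m6_5 : ℕ := nat_lit 0xa080400

noncomputable def m6_6 : ℕ := nat_lit 0xa000c8

noncomputable def net6 : Net := (.cons 8 m6_0 (.cons 4 m6_1 (.cons 2 m6_2 (.cons 1 m6_3 (.cons 2 m6_4 (.cons 4 m6_5 (.cons 8 m6_6 .nil)))))))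

theorem ok6 : Net.ok 32 net6 = true :=
  by decide +kernel

noncomputable def net7 : Net := (.cons 8 m6_6 (.cons 4 m6_5 (.cons 2 m6_4 (.cons 1 m6_3 (.cons 2 m6_2 (.cons 4 m6_1 (.cons 8 m6_0 .nil)))))))

theorem ok7 : Net.ok 32 net7 = true :=
  by decide +kernel

noncomputable def m8_0 : ℕ := nat_lit 0x800

noncomputable def m8_1 : ℕ := nat_lit 0x60030

noncomputable def m8_2 : ℕ := nat_lit 0x10c00

noncomputable def m8_3 : ℕ := nat_lit 0x2120023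

noncomputable def m8_4 : ℕ := nat_lit 0x4410414

noncomputable def m8_5 : ℕ := nat_lit 0x220002

noncomputable def m8_6 : ℕ := nat_lit 0x80800

noncomputable def m8_7 : ℕ := nat_lit 0x60030

noncomputable def m8_8 : ℕ := nat_lit 0x800

noncomputable def net8 : Net := (.cons 16 m8_0 (.cons 8 m8_1 (.cons 4 m8_2 (.cons 2 m8_3 (.cons 1 m8_4 (.cons 2 m8_5 (.cons 4 m8_6 (.cons 8 m8_7 (.cons 16 m8_8 .nil)))))))))

theorem ok8 : Net.ok 32 net8 = true :=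
  by decide +kernel

noncomputable def net9 : Net := (.cons 16 m8_8 (.cons 8 m8_7 (.cons 4 m8_6 (.cons 2 m8_5 (.cons 1 m8_4 (.cons 2 m8_3 (.cons 4 m8_2 (.cons 8 m8_1 (.cons 16 m8_0 .nil)))))))))

theorem ok9 : Net.ok 32 net9 = true :=
  by decide +kernel

noncomputable def nets : List Net := [net0, net1, net2, net3, net4, net5, net6, net7, net8, net9]

noncomputable def act : Act := netAct' nets
noncomputable def π : ℕ → Equiv.Perm ℕ := netPerm nets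

theorem spec : act.Spec 32 π :=
  spec_fast (netAct_spec (AllP.forall (p := fun t => Net.ok 32 t = true) ⟨ok0, ok1, ok2, ok3, ok4, ok5, ok6, ok7, ok8, ok9, trivial⟩))

theorem out : ∀ k, 10 ≤ k → π k = 1 :=
  netPerm_out nets

theorem sat_inv_0 : invC Cfsg.Agent.XSC.E6.A5.act Cfsg.Agent.XSC.E6.P5.I 32 5 Cfsg.Agent.XSC.E6.P5.inv.length [0, 1, 2, 3, 4] = true :=
  by decide +kernel

theorem sat_inv : ∀ k, Cfsg.Agent.XSC.E6.A5.π (Cfsg.Agent.XSC.E6.P5.I k) * Cfsg.Agent.XSC.E6.A5.π k = 1 :=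
  inv_of_checks Cfsg.Agent.XSC.E6.A5.spec (K := 5) (by decide) Cfsg.Agent.XSC.E6.A5.out [[0, 1, 2, 3, 4]] (by decide) ⟨sat_inv_0, trivial⟩

theorem sat_rel_0_0 : relsC Cfsg.Agent.XSC.E6.A5.act Cfsg.Agent.XSC.E6.P5.I 32 5 [[0, 0, 0], [2, 2, 2], [4, 4, 4], [6, 6, 6], [8, 8, 8], [8, 4, 7, 8, 4, 7], [8, 4, 8, 4], [8, 4, 2, 8, 4, 2], [8, 4, 2, 0, 8, 4, 2, 0], [6, 5, 6, 5], [6, 2, 6, 2], [6, 2, 0, 6, 2, 0], [4, 2, 4, 2], [4, 2, 0, 4, 2, 0], [2, 0, 2, 0]] [0, 1, 2, 3, 4] = true :=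
  by decide +kernel

theorem sat_rel_0 : ∀ r ∈ ([[0, 0, 0], [2, 2, 2], [4, 4, 4], [6, 6, 6], [8, 8, 8], [8, 4, 7, 8, 4, 7], [8, 4, 8, 4], [8, 4, 2, 8, 4, 2], [8, 4, 2, 0, 8, 4, 2, 0], [6, 5, 6, 5], [6, 2, 6, 2], [6, 2, 0, 6, 2, 0], [4, 2, 4, 2], [4, 2, 0, 4, 2, 0], [2, 0, 2, 0]] : List (List ℕ)), ev Cfsg.Agent.XSC.E6.A5.π r = 1 :=
  rels_of_checks Cfsg.Agent.XSC.E6.A5.spec (K := 5) (by decide) sat_inv _ [[0, 1, 2, 3, 4]] (by decide) ⟨sat_rel_0_0, trivial⟩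

theorem sat_rel : ∀ r ∈ ([[0, 0, 0], [2, 2, 2], [4, 4, 4], [6, 6, 6], [8, 8, 8], [8, 4, 7, 8, 4, 7], [8, 4, 8, 4], [8, 4, 2, 8, 4, 2], [8, 4, 2, 0, 8, 4, 2, 0], [6, 5, 6, 5], [6, 2, 6, 2], [6, 2, 0, 6, 2, 0], [4, 2, 4, 2], [4, 2, 0, 4, 2, 0], [2, 0, 2, 0]] : List (List ℕ)), ev Cfsg.Agent.XSC.E6.A5.π r = 1 :=
  rels_join [[[0, 0, 0], [2, 2, 2], [4, 4, 4], [6, 6, 6], [8, 8, 8], [8, 4, 7, 8, 4, 7], [8, 4, 8, 4], [8, 4, 2, 8, 4, 2], [8, 4, 2, 0, 8, 4, 2, 0], [6, 5, 6, 5], [6, 2, 6, 2], [6, 2, 0, 6, 2, 0], [4, 2, 4, 2], [4, 2, 0, 4, 2, 0], [2, 0, 2, 0]]] ⟨sat_rel_0, trivial⟩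

theorem sat : Sat Cfsg.Agent.XSC.E6.P5 Cfsg.Agent.XSC.E6.A5.π :=
  ⟨Cfsg.Agent.XSC.E6.A5.out, sat_inv, sat_rel⟩

noncomputable def done_tr0 : ℕ := nat_lit 0x7b1168a

noncomputable def done_tr1 : ℕ := nat_lit 0x316eccc

noncomputable def done_tr2 : ℕ := nat_lit 0x11b5490

noncomputable def done_tr3 : ℕ := nat_lit 0xe4a126

noncomputable def done_t0_0 : ℕ := nat_lit 0x14b85cb

noncomputable def done_t0_1 : ℕ := nat_lit 0x261d450

noncomputable def done_t0_2 : ℕ := nat_lit 0x3839856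

noncomputable def done_t0_3 : ℕ := nat_lit 0x3dd20

noncomputable def done_t0_4 : ℕ := nat_lit 0x3fc2000

noncomputable def done_t1_0 : ℕ := nat_lit 0x365c2ad

noncomputable def done_t1_1 : ℕ := nat_lit 0x46b108a

noncomputable def done_t1_2 : ℕ := nat_lit 0x683440e

noncomputable def done_t1_3 : ℕ := nat_lit 0x35790

noncomputable def done_t1_4 : ℕ := nat_lit 0x6fca000

noncomputable def done_t2_0 : ℕ := nat_lit 0x4b69d07

noncomputable def done_t2_1 : ℕ := nat_lit 0x4d50f34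

noncomputable def done_t2_2 : ℕ := nat_lit 0x5176100

noncomputable def done_t2_3 : ℕ := nat_lit 0x1736c0

noncomputable def done_t2_4 : ℕ := nat_lit 0x5e80000

noncomputable def done_t3_0 : ℕ := nat_lit 0x5945a67

noncomputable def done_t3_1 : ℕ := nat_lit 0x5720eac

noncomputable def done_t3_2 : ℕ := nat_lit 0x6136020

noncomputable def done_t3_3 : ℕ := nat_lit 0x127d40

noncomputable def done_t3_4 : ℕ := nat_lit 0x7648000

noncomputable def done_t4_0 : ℕ := nat_lit 0x3582ee3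

noncomputable def done_t4_1 : ℕ := nat_lit 0x19ea4ac

noncomputable def done_t4_2 : ℕ := nat_lit 0x218c0ba

noncomputable def done_t4_3 : ℕ := nat_lit 0x418e540

noncomputable def done_t4_4 : ℕ := nat_lit 0x6e00000

noncomputable def done_t5_0 : ℕ := nat_lit 0x2d8abb1

noncomputable def done_t5_1 : ℕ := nat_lit 0x171a36a

noncomputable def done_t5_2 : ℕ := nat_lit 0x210853c

noncomputable def done_t5_3 : ℕ := nat_lit 0x410b640

noncomputable def done_t5_4 : ℕ := nat_lit 0x78c0000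

noncomputable def done_t6_0 : ℕ := nat_lit 0x22d505f

noncomputable def done_t6_1 : ℕ := nat_lit 0x620324

noncomputable def done_t6_2 : ℕ := nat_lit 0x2836830

noncomputable def done_t6_3 : ℕ := nat_lit 0x4037a40

noncomputable def done_t6_4 : ℕ := nat_lit 0x6e88000

noncomputable def done_t7_0 : ℕ := nat_lit 0x32bd44f

noncomputable def done_t7_1 : ℕ := nat_lit 0x1908694

noncomputable def done_t7_2 : ℕ := nat_lit 0x212e812

noncomputable def done_t7_3 : ℕ := nat_lit 0x412fe00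

noncomputable def done_t7_4 : ℕ := nat_lit 0x78c0000

noncomputable def done_t8_0 : ℕ := nat_lit 0x54a9c89

noncomputable def done_t8_1 : ℕ := nat_lit 0x304205c

noncomputable def done_t8_2 : ℕ := nat_lit 0x206c218

noncomputable def done_t8_3 : ℕ := nat_lit 0x406f360

noncomputable def done_t8_4 : ℕ := nat_lit 0x7590000

noncomputable def done_t9_0 : ℕ := nat_lit 0x19b04c9

noncomputable def done_t9_1 : ℕ := nat_lit 0x722585a

noncomputable def done_t9_2 : ℕ := nat_lit 0x2024e18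

noncomputable def done_t9_3 : ℕ := nat_lit 0x4025fe0

noncomputable def done_t9_4 : ℕ := nat_lit 0x7e80000

noncomputable def doneC : TC := ⟨Cfsg.Agent.XSC.E6.P5, [[0], [1], [2], [3], [4], [5], [6], [7]], 27, 32, 5, 5, [done_tr0, done_tr1, done_tr2, done_tr3],
  [[done_t0_0, done_t0_1, done_t0_2, done_t0_3, done_t0_4],
   [done_t1_0, done_t1_1, done_t1_2, done_t1_3, done_t1_4],
   [done_t2_0, done_t2_1, done_t2_2, done_t2_3, done_t2_4],
   [done_t3_0, done_t3_1, done_t3_2, done_t3_3, done_t3_4],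
   [done_t4_0, done_t4_1, done_t4_2, done_t4_3, done_t4_4],
   [done_t5_0, done_t5_1, done_t5_2, done_t5_3, done_t5_4],
   [done_t6_0, done_t6_1, done_t6_2, done_t6_3, done_t6_4],
   [done_t7_0, done_t7_1, done_t7_2, done_t7_3, done_t7_4],
   [done_t8_0, done_t8_1, done_t8_2, done_t8_3, done_t8_4],
   [done_t9_0, done_t9_1, done_t9_2, done_t9_3, done_t9_4]]⟩

theorem done_s : doneC.structC Cfsg.Agent.XSC.E6.A5.act = true :=
  by decide +kernel

theorem done_c0_0 : doneC.coverC Cfsg.Agent.XSC.E6.A5.act 0 true [] [(true, 0, 0, 0), (false, 2, 1, 3), (false, 2, 1, 7), (false, 0, 0, 4), (false, 0, 0, 9), (false, 0, 0, 10), (false, 0, 0, 17), (false, 0, 0, 26), (false, 42, 1, 1), (false, 42, 1, 8), (false, 42, 1, 15), (false, 42, 1, 17), (false, 42, 1, 18), (false, 42, 1, 23), (false, 33, 2, 4), (false, 33, 2, 16), (false, 33, 2, 19), (false, 33, 2, 21), (false, 39, 2, 2), (false, 39, 2, 7), (false,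 39, 2, 11), (false, 39, 2, 19), (false, 24, 3, 0), (false, 24, 3, 12), (false, 24, 3, 17)] 0 (ones 27) = true :=
  by decide +kernel

theorem done_j0 : doneC.JustS Cfsg.Agent.XSC.E6.A5.π 0 (ones 27) :=
  TC.cover_step Cfsg.Agent.XSC.E6.A5.spec done_s (TC.justS_zero 0) done_c0_0

theorem done_c1_0 : doneC.coverC Cfsg.Agent.XSC.E6.A5.act 1 true [(2, 0)] [(true, 1, 0, 0), (false, 1, 0, 8), (false, 1, 0, 11), (false, 1, 0, 12), (false, 1, 0, 25), (false, 43, 0, 10), (false, 43, 0, 16), (false, 43, 0, 24), (false, 34, 0, 5), (false, 34, 0, 20), (false, 34, 0, 22), (false, 34, 0, 23), (false, 40, 0, 14), (false, 40, 0, 17)] 0 (ones 27) = true :=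
  by decide +kernel

theorem done_j1 : doneC.JustS Cfsg.Agent.XSC.E6.A5.π 1 (ones 27) :=
  TC.cover_step Cfsg.Agent.XSC.E6.A5.spec done_s (TC.justS_zero 1) done_c1_0

theorem done_c2_0 : doneC.coverC Cfsg.Agent.XSC.E6.A5.act 2 true [] [(true, 2, 0, 0), (false, 8, 1, 1), (false, 8, 1, 15), (false, 3, 0, 3), (false, 3, 0, 8), (false, 3, 0, 11), (false, 3, 0, 17), (false, 3, 0, 18), (false, 3, 0, 25), (false, 30, 1, 3), (false, 30, 1, 4), (false, 30, 1, 6), (false, 30, 1, 16), (false, 36, 1, 7), (false, 36, 1, 11), (false, 36, 1, 10), (false, 36, 1, 19), (false, 36, 1, 22), (false, 42, 0, 6), (false, 42, 0, 9), (false, 42, 0, 26), (false, 21, 2, 0), (false, 21, 2, 12), (false, 21, 2, 14), (false, 21, 2, 20)] 0 (ones 27) = true :=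
  by decide +kernel

theorem done_j2 : doneC.JustS Cfsg.Agent.XSC.E6.A5.π 2 (ones 27) :=
  TC.cover_step Cfsg.Agent.XSC.E6.A5.spec done_s (TC.justS_zero 2) done_c2_0

theorem done_c3_0 : doneC.coverC Cfsg.Agent.XSC.E6.A5.act 3 true [] [(true, 3, 0, 0), (false, 8, 0, 3), (false, 8, 0, 6), (false, 8, 0, 18), (false, 8, 0, 19), (false, 8, 0, 21), (false, 8, 0, 25), (false, 4, 0, 4), (false, 4, 0, 7), (false, 4, 0, 10), (false, 4, 0, 16), (false, 4, 0, 24), (false, 31, 0, 8), (false, 31, 0, 5), (false, 31, 0, 20), (false, 31, 0, 22), (false, 31, 0, 23), (false, 37, 0, 12), (false, 37, 0, 17), (false, 37, 0, 14), (false, 43, 1, 7), (false, 43, 1, 25), (false, 22, 0, 2), (false, 22, 0, 13), (false, 34, 1, 8)] 0 (ones 27) = true :=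
  by decide +kernel

theorem done_j3 : doneC.JustS Cfsg.Agent.XSC.E6.A5.π 3 (ones 27) :=
  TC.cover_step Cfsg.Agent.XSC.E6.A5.spec done_s (TC.justS_zero 3) done_c3_0

theorem done_c4_0 : doneC.coverC Cfsg.Agent.XSC.E6.A5.act 4 true [] [(true, 4, 0, 0), (false, 14, 1, 9), (false, 14, 1, 11), (false, 6, 0, 4), (false, 6, 0, 12), (false, 6, 0, 10), (false, 6, 0, 16), (false, 6, 0, 19), (false, 6, 0, 24), (false, 18, 1, 0), (false, 18, 1, 12), (false, 18, 1, 14), (false, 18, 1, 16), (false, 18, 1, 20), (false, 28, 0, 5), (false, 28, 0, 8), (false, 28, 0, 9), (false, 28, 0, 20), (false, 28, 0, 22), (false, 36, 0, 3), (false, 36, 0, 2), (false, 36, 0, 25), (false, 21, 1, 17), (false, 39, 0, 6), (false, 39, 0, 26)] 0 (ones 27) = true :=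
  by decide +kernel

theorem done_j4 : doneC.JustS Cfsg.Agent.XSC.E6.A5.π 4 (ones 27) :=
  TC.cover_step Cfsg.Agent.XSC.E6.A5.spec done_s (TC.justS_zero 4) done_c4_0

theorem done_c5_0 : doneC.coverC Cfsg.Agent.XSC.E6.A5.act 5 true [] [(true, 5, 0, 0), (false, 14, 0, 6), (false, 14, 0, 12), (false, 14, 0, 16), (false, 14, 0, 15), (false, 14, 0, 19), (false, 14, 0, 21), (false, 7, 0, 1), (false, 7, 0, 14), (false, 7, 0, 8), (false, 7, 0, 17), (false, 7, 0, 23), (false, 19, 0, 2), (false, 19, 0, 13), (false, 19, 0, 18), (false, 19, 0, 22), (false, 27, 1, 4), (false, 27, 1, 3), (false, 27, 1, 6), (false, 27, 1, 16), (false, 27, 1, 21), (false, 37, 1, 1), (false, 37, 1, 4), (false, 37, 1, 24), (false, 40, 2, 25)] 0 (ones 27) = true :=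
  by decide +kernel

theorem done_j5 : doneC.JustS Cfsg.Agent.XSC.E6.A5.π 5 (ones 27) :=
  TC.cover_step Cfsg.Agent.XSC.E6.A5.spec done_s (TC.justS_zero 5) done_c5_0

theorem done_c6_0 : doneC.coverC Cfsg.Agent.XSC.E6.A5.act 6 true [] [(true, 6, 0, 0), (false, 20, 1, 1), (false, 20, 1, 3), (false, 20, 1, 15), (false, 20, 1, 18), (false, 20, 1, 19), (false, 20, 1, 21), (false, 20, 1, 22), (false, 20, 1, 23), (false, 9, 0, 4), (false, 9, 0, 7), (false, 9, 0, 10), (false, 9, 0, 20), (false, 27, 0, 1), (false, 27, 0, 12), (false, 27, 0, 14), (false, 27, 0, 17), (false, 30, 0, 11), (false, 30, 0, 25), (false, 16, 0, 2), (false, 16, 0, 13), (false, 33, 0, 9), (false, 33, 0, 26)] 0 (ones 27) = true :=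
  by decide +kernel

theorem done_j6 : doneC.JustS Cfsg.Agent.XSC.E6.A5.π 6 (ones 27) :=
  TC.cover_step Cfsg.Agent.XSC.E6.A5.spec done_s (TC.justS_zero 6) done_c6_0

theorem done_c7_0 : doneC.coverC Cfsg.Agent.XSC.E6.A5.act 7 true [] [(true, 7, 0, 0), (false, 20, 0, 7), (false, 20, 0, 10), (false, 20, 0, 6), (false, 20, 0, 9), (false, 20, 0, 20), (false, 20, 0, 24), (false, 10, 0, 5), (false, 10, 0, 8), (false, 10, 0, 22), (false, 10, 0, 17), (false, 10, 0, 23), (false, 28, 1, 2), (false, 28, 1, 7), (false, 28, 1, 10), (false, 28, 1, 11), (false, 28, 1, 19), (false, 31, 1, 10), (false, 31, 1, 24), (false, 15, 2, 0), (false, 15, 2, 12), (false, 15, 2, 14), (false, 15, 2, 17), (false, 34, 2, 25)] 0 (ones 27) = true :=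
  by decide +kernel

theorem done_j7 : doneC.JustS Cfsg.Agent.XSC.E6.A5.π 7 (ones 27) :=
  TC.cover_step Cfsg.Agent.XSC.E6.A5.spec done_s (TC.justS_zero 7) done_c7_0

theorem done_c8_0 : doneC.coverC Cfsg.Agent.XSC.E6.A5.act 8 true [] [(false, 26, 1, 0), (false, 26, 1, 7), (false, 26, 1, 10), (false, 26, 1, 11), (false, 12, 0, 1), (false, 12, 0, 12), (false, 12, 0, 14), (false, 12, 0, 17), (false, 12, 0, 21), (false, 12, 0, 23), (false, 18, 0, 4), (false, 18, 0, 7), (false, 18, 0, 19), (false, 18, 0, 24), (false, 15, 0, 5), (false, 15, 0, 8), (false, 15, 0, 9), (false, 15, 0, 22), (false, 21, 0, 3), (false, 21, 0, 11), (false, 21, 0, 25), (false, 24, 0, 6), (false, 24, 0, 10), (false, 24, 0, 26)] 0 (ones 27) = true :=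
  by decide +kernel

theorem done_j8 : doneC.JustS Cfsg.Agent.XSC.E6.A5.π 8 (ones 27) :=
  TC.cover_step Cfsg.Agent.XSC.E6.A5.spec done_s (TC.justS_zero 8) done_c8_0

theorem done_c9_0 : doneC.coverC Cfsg.Agent.XSC.E6.A5.act 9 true [(26, 0)] [(false, 13, 0, 2), (false, 13, 0, 13), (false, 13, 0, 22), (false, 19, 1, 1), (false, 19, 1, 8), (false, 19, 1, 23), (false, 16, 2, 4), (false, 16, 2, 3), (false, 16, 2, 6), (false, 16, 2, 16), (false, 22, 2, 4), (false, 22, 2, 24)] 0 (ones 27) = true :=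
  by decide +kernel

theorem done_j9 : doneC.JustS Cfsg.Agent.XSC.E6.A5.π 9 (ones 27) :=
  TC.cover_step Cfsg.Agent.XSC.E6.A5.spec done_s (TC.justS_zero 9) done_c9_0

theorem done : doneC.Done Cfsg.Agent.XSC.E6.A5.π :=
  TC.done_of Cfsg.Agent.XSC.E6.A5.spec sat done_s ⟨done_j0, done_j1, done_j2, done_j3, done_j4, done_j5, done_j6, done_j7, done_j8, done_j9, trivial⟩

end A5

theorem iA5 : Impl Cfsg.Agent.XSC.E6.P5 Cfsg.Agent.XSC.E6.P4 [[0], [1], [2], [3], [4], [5], [6], [7]] :=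
  impl_of_subC (P := Cfsg.Agent.XSC.E6.P5) (c1 := [(45, 0), (45, 0), (45, 0), (45, 0), (45, 0), (45, 0), (45, 0), (45, 0)]) (c2 := [(0, 0), (3, 0), (6, 0), (9, 0), (27, 0), (30, 0), (33, 0), (36, 0), (39, 0), (42, 0)]) (by decide +kernel)

theorem b5 : Bound Cfsg.Agent.XSC.E6.P5 25920 :=
  A5.done.bound' b4 iA5 ⟨inSub_of_mem (by decide), inSub_of_mem (by decide), inSub_of_mem (by decide), inSub_of_mem (by decide), inSub_of_mem (by decide), inSub_of_mem (by decide), inSub_of_mem (by decide), inSub_of_mem (by decide), trivial⟩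

namespace B
noncomputable def m0_0 : ℕ := nat_lit 0xfc47c

noncomputable def m0_1 : ℕ := nat_lit 0x1d80010c

noncomputable def m0_2 : ℕ := nat_lit 0x201c00408

noncomputable def m0_3 : ℕ := nat_lit 0x428000

noncomputable def m0_4 : ℕ := nat_lit 0x200a50800

noncomputable def m0_5 : ℕ := nat_lit 0x100529004

noncomputable def m0_6 : ℕ := nat_lit 0x29425284a

noncomputable def m0_7 : ℕ := nat_lit 0x2848409024

noncomputable def m0_8 : ℕ := nat_lit 0x701e01010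

noncomputable def m0_9 : ℕ := nat_lit 0x26c00012

noncomputable def m0_10 : ℕ := nat_lit 0xcbc66

noncomputable def net0 : Net := (.cons 20 m0_0 (.cons 10 m0_1 (.cons 5 m0_2 (.cons 1 m0_3 (.cons 1 m0_4 (.cons 1 m0_5 (.cons 1 m0_6 (.cons 1 m0_7 (.cons 5 m0_8 (.cons 10 m0_9 (.cons 20 m0_10 .nil)))))))))))

theorem ok0 : Net.ok 40 net0 = true :=
  by decide +kernel

noncomputable def net1 : Net := (.cons 20 m0_10 (.cons 10 m0_9 (.cons 5 m0_8 (.cons 1 m0_7 (.cons 1 m0_6 (.cons 1 m0_5 (.cons 1 m0_4 (.cons 1 m0_3 (.cons 5 m0_2 (.cons 10 m0_1 (.cons 20 m0_0 .nil)))))))))))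

theorem ok1 : Net.ok 40 net1 = true :=
  by decide +kernel

noncomputable def m2_0 : ℕ := nat_lit 0x26a44

noncomputable def m2_1 : ℕ := nat_lit 0x2c9003c0

noncomputable def m2_2 : ℕ := nat_lit 0x100d01414

noncomputable def m2_3 : ℕ := nat_lit 0x100108000

noncomputable def m2_4 : ℕ := nat_lit 0x284a50008

noncomputable def m2_5 : ℕ := nat_lit 0x14a4290a5

noncomputable def m2_6 : ℕ := nat_lit 0x4294a5084a

noncomputable def m2_7 : ℕ := nat_lit 0x294a1094a0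

noncomputable def m2_8 : ℕ := nat_lit 0x780607810

noncomputable def m2_9 : ℕ := nat_lit 0x258002b0

noncomputable def m2_10 : ℕ := nat_lit 0xa96a2

noncomputable def net2 : Net := (.cons 20 m2_0 (.cons 10 m2_1 (.cons 5 m2_2 (.cons 1 m2_3 (.cons 1 m2_4 (.cons 1 m2_5 (.cons 1 m2_6 (.cons 1 m2_7 (.cons 5 m2_8 (.cons 10 m2_9 (.cons 20 m2_10 .nil)))))))))))

theorem ok2 : Net.ok 40 net2 = true :=
  by decide +kernel

noncomputable def net3 : Net := (.cons 20 m2_10 (.cons 10 m2_9 (.cons 5 m2_8 (.cons 1 m2_7 (.cons 1 m2_6 (.cons 1 m2_5 (.cons 1 m2_4 (.cons 1 m2_3 (.cons 5 m2_2 (.cons 10 m2_1 (.cons 20 m2_0 .nil)))))))))))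

theorem ok3 : Net.ok 40 net3 = true :=
  by decide +kernel

noncomputable def m4_0 : ℕ := nat_lit 0xb28d8

noncomputable def m4_1 : ℕ := nat_lit 0x2b1000c6

noncomputable def m4_2 : ℕ := nat_lit 0x5c1a0481a

noncomputable def m4_3 : ℕ := nat_lit 0x40000020

noncomputable def m4_4 : ℕ := nat_lit 0x80810048

noncomputable def m4_5 : ℕ := nat_lit 0x21004280a4

noncomputable def m4_6 : ℕ := nat_lit 0x1294a50942

noncomputable def m4_7 : ℕ := nat_lit 0x14a108005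

noncomputable def m4_8 : ℕ := nat_lit 0x501c03000

noncomputable def m4_9 : ℕ := nat_lit 0x22800208

noncomputable def m4_10 : ℕ := nat_lit 0x471b0

noncomputable def net4 : Net := (.cons 20 m4_0 (.cons 10 m4_1 (.cons 5 m4_2 (.cons 1 m4_3 (.cons 1 m4_4 (.cons 1 m4_5 (.cons 1 m4_6 (.cons 1 m4_7 (.cons 5 m4_8 (.cons 10 m4_9 (.cons 20 m4_10 .nil)))))))))))

theorem ok4 : Net.ok 40 net4 = true :=
  by decide +kernel

noncomputable def net5 : Net := (.cons 20 m4_10 (.cons 10 m4_9 (.cons 5 m4_8 (.cons 1 m4_7 (.cons 1 m4_6 (.cons 1 m4_5 (.cons 1 m4_4 (.cons 1 m4_3 (.cons 5 m4_2 (.cons 10 m4_1 (.cons 20 m4_0 .nil)))))))))))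

theorem ok5 : Net.ok 40 net5 = true :=
  by decide +kernel

noncomputable def m6_0 : ℕ := nat_lit 0xc8484

noncomputable def m6_1 : ℕ := nat_lit 0x1e100000

noncomputable def m6_2 : ℕ := nat_lit 0x581e02c1c

noncomputable def m6_3 : ℕ := nat_lit 0x84a52800

noncomputable def m6_4 : ℕ := nat_lit 0x9085214a4

noncomputable def m6_5 : ℕ := nat_lit 0x5210250942

noncomputable def m6_6 : ℕ := nat_lit 0x9425200a5

noncomputable def m6_7 : ℕ := nat_lit 0x300001008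

noncomputable def m6_8 : ℕ := nat_lit 0x240002ac

noncomputable def m6_9 : ℕ := nat_lit 0x95eb0

noncomputable def net6 : Net := (.cons 20 m6_0 (.cons 10 m6_1 (.cons 5 m6_2 (.cons 1 m6_3 (.cons 1 m6_4 (.cons 1 m6_5 (.cons 1 m6_6 (.cons 5 m6_7 (.cons 10 m6_8 (.cons 20 m6_9 .nil))))))))))

theorem ok6 : Net.ok 40 net6 = true :=
  by decide +kernel

noncomputable def net7 : Net := (.cons 20 m6_9 (.cons 10 m6_8 (.cons 5 m6_7 (.cons 1 m6_6 (.cons 1 m6_5 (.cons 1 m6_4 (.cons 1 m6_3 (.cons 5 m6_2 (.cons 10 m6_1 (.cons 20 m6_0 .nil))))))))))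

theorem ok7 : Net.ok 40 net7 = true :=
  by decide +kernel

noncomputable def m8_0 : ℕ := nat_lit 0xfe376

noncomputable def m8_1 : ℕ := nat_lit 0x28f0015e

noncomputable def m8_2 : ℕ := nat_lit 0x480705018

noncomputable def m8_3 : ℕ := nat_lit 0x2000008000

noncomputable def m8_4 : ℕ := nat_lit 0x5200052040

noncomputable def m8_5 : ℕ := nat_lit 0x2900429084

noncomputable def m8_6 : ℕ := nat_lit 0x5084a5094a

noncomputable def m8_7 : ℕ := nat_lit 0x1405204a4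

noncomputable def m8_8 : ℕ := nat_lit 0x281002000

noncomputable def m8_9 : ℕ := nat_lit 0x2f0000e6

noncomputable def m8_10 : ℕ := nat_lit 0xc1e04

noncomputable def net8 : Net := (.cons 20 m8_0 (.cons 10 m8_1 (.cons 5 m8_2 (.cons 1 m8_3 (.cons 1 m8_4 (.cons 1 m8_5 (.cons 1 m8_6 (.cons 1 m8_7 (.cons 5 m8_8 (.cons 10 m8_9 (.cons 20 m8_10 .nil)))))))))))

theorem ok8 : Net.ok 40 net8 = true :=
  by decide +kernel

noncomputable def net9 : Net := (.cons 20 m8_10 (.cons 10 m8_9 (.cons 5 m8_8 (.cons 1 m8_7 (.cons 1 m8_6 (.cons 1 m8_5 (.cons 1 m8_4 (.cons 1 m8_3 (.cons 5 m8_2 (.cons 10 m8_1 (.cons 20 m8_0 .nil)))))))))))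

theorem ok9 : Net.ok 40 net9 = true :=
  by decide +kernel

noncomputable def nets : List Net := [net0, net1, net2, net3, net4, net5, net6, net7, net8, net9]

noncomputable def act : Act := netAct' nets
noncomputable def π : ℕ → Equiv.Perm ℕ := netPerm nets

theorem spec : act.Spec 40 π :=
  spec_fast (netAct_spec (AllP.forall (p := fun t => Net.ok 40 t = true) ⟨ok0, ok1, ok2, ok3, ok4, ok5, ok6, ok7, ok8, ok9, trivial⟩))

theorem out : ∀ k, 10 ≤ k → π k = 1 :=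
  netPerm_out nets

theorem sat_inv_0 : invC Cfsg.Agent.XSC.E6.B.act Cfsg.Agent.XSC.E6.P5.I 40 6 Cfsg.Agent.XSC.E6.P5.inv.length [0, 1, 2, 3, 4, 5] = true :=
  by decide +kernel

theorem sat_inv : ∀ k, Cfsg.Agent.XSC.E6.B.π (Cfsg.Agent.XSC.E6.P5.I k) * Cfsg.Agent.XSC.E6.B.π k = 1 :=
  inv_of_checks Cfsg.Agent.XSC.E6.B.spec (K := 6) (by decide) Cfsg.Agent.XSC.E6.B.out [[0, 1, 2, 3, 4, 5]] (by decide) ⟨sat_inv_0, trivial⟩

theorem sat_rel_0_0 : relsC Cfsg.Agent.XSC.E6.B.act Cfsg.Agent.XSC.E6.P5.I 40 6 [[0, 0, 0], [2, 2, 2], [4, 4, 4], [6, 6, 6], [8, 8, 8], [8, 4, 7, 8, 4, 7], [8, 4, 8, 4], [8, 4, 2, 8, 4, 2], [8, 4, 2, 0, 8, 4, 2, 0], [6, 5, 6, 5], [6, 2, 6, 2], [6, 2, 0, 6, 2, 0], [4, 2, 4, 2], [4, 2, 0, 4, 2, 0], [2, 0, 2, 0]] [0, 1, 2, 3, 4, 5] = true :=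
  by decide +kernel

theorem sat_rel_0 : ∀ r ∈ ([[0, 0, 0], [2, 2, 2], [4, 4, 4], [6, 6, 6], [8, 8, 8], [8, 4, 7, 8, 4, 7], [8, 4, 8, 4], [8, 4, 2, 8, 4, 2], [8, 4, 2, 0, 8, 4, 2, 0], [6, 5, 6, 5], [6, 2, 6, 2], [6, 2, 0, 6, 2, 0], [4, 2, 4, 2], [4, 2, 0, 4, 2, 0], [2, 0, 2, 0]] : List (List ℕ)), ev Cfsg.Agent.XSC.E6.B.π r = 1 :=
  rels_of_checks Cfsg.Agent.XSC.E6.B.spec (K := 6) (by decide) sat_inv _ [[0, 1, 2, 3, 4, 5]] (by decide) ⟨sat_rel_0_0, trivial⟩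

theorem sat_rel : ∀ r ∈ ([[0, 0, 0], [2, 2, 2], [4, 4, 4], [6, 6, 6], [8, 8, 8], [8, 4, 7, 8, 4, 7], [8, 4, 8, 4], [8, 4, 2, 8, 4, 2], [8, 4, 2, 0, 8, 4, 2, 0], [6, 5, 6, 5], [6, 2, 6, 2], [6, 2, 0, 6, 2, 0], [4, 2, 4, 2], [4, 2, 0, 4, 2, 0], [2, 0, 2, 0]] : List (List ℕ)), ev Cfsg.Agent.XSC.E6.B.π r = 1 :=
  rels_join [[[0, 0, 0], [2, 2, 2], [4, 4, 4], [6, 6, 6], [8, 8, 8], [8, 4, 7, 8, 4, 7], [8, 4, 8, 4], [8, 4, 2, 8, 4, 2], [8, 4, 2, 0, 8, 4, 2, 0], [6, 5, 6, 5], [6, 2, 6, 2], [6, 2, 0, 6, 2, 0], [4, 2, 4, 2], [4, 2, 0, 4, 2, 0], [2, 0, 2, 0]]] ⟨sat_rel_0, trivial⟩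

theorem sat : Sat Cfsg.Agent.XSC.E6.P5 Cfsg.Agent.XSC.E6.B.π :=
  ⟨Cfsg.Agent.XSC.E6.B.out, sat_inv, sat_rel⟩

def ws : List (List ℕ) := [[0], [8], [3, 5], [3, 7], [2, 1, 4, 8, 3], [2, 6, 1, 4, 8, 6], [1], [9], [2, 9, 5, 0, 3], [7, 9, 5, 0, 7, 3]]

theorem orb0S_0 : orbC Cfsg.Agent.XSC.E6.B.act [] [[0], [1], [2], [3], [4], [5], [6], [7], [8], [9]] 2 (Nat.shiftLeft 1 0) (ones 40) = true :=
  by decide +kernel

theorem orb0S : OrbS Cfsg.Agent.XSC.E6.B.π [] 0 (ones 40) :=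
  orbS_step Cfsg.Agent.XSC.E6.B.spec (orbS_init Cfsg.Agent.XSC.E6.B.π [] 0) orb0S_0

theorem orb0 : PModel.IsOrbit Cfsg.Agent.XSC.E6.B.π 0 (ones 40) 40 :=
  PModel.isOrbit_of Cfsg.Agent.XSC.E6.B.spec (nl := 10) (K := 6) Cfsg.Agent.XSC.E6.B.out orb0S (by decide +kernel)

theorem hfix : allL (fixC Cfsg.Agent.XSC.E6.B.act [0]) ws = true :=
  by decide +kernel

noncomputable def so0S_S0 : ℕ := nat_lit 0x21ff5fffe

theorem so0S_0 : orbC (subAct Cfsg.Agent.XSC.E6.B.act ws) [] [[0], [1], [2], [3], [4], [5], [6], [7], [8], [9]] 1 (Nat.shiftLeft 1 1) so0S_S0 = true :=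
  by decide +kernel

theorem so0S : OrbS (subT Cfsg.Agent.XSC.E6.B.π ws) [] 1 so0S_S0 :=
  orbS_step (Cfsg.Agent.XSC.E6.B.spec.sub ws) (orbS_init (subT Cfsg.Agent.XSC.E6.B.π ws) [] 1) so0S_0

theorem so0 : PModel.IsOrbit (subT Cfsg.Agent.XSC.E6.B.π ws) 1 so0S_S0 27 :=
  PModel.isOrbit_of (Cfsg.Agent.XSC.E6.B.spec.sub ws) (nl := ws.length) (K := 6) (PModel.subT_out Cfsg.Agent.XSC.E6.B.π ws) so0S (by decide +kernel)

noncomputable def so1S_S0 : ℕ := nat_lit 0xfde00a0000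

theorem so1S_0 : orbC (subAct Cfsg.Agent.XSC.E6.B.act ws) [] [[0], [1], [2], [3], [4], [5], [6], [7], [8], [9]] 1 (Nat.shiftLeft 1 17) so1S_S0 = true :=
  by decide +kernel

theorem so1S : OrbS (subT Cfsg.Agent.XSC.E6.B.π ws) [] 17 so1S_S0 :=
  orbS_step (Cfsg.Agent.XSC.E6.B.spec.sub ws) (orbS_init (subT Cfsg.Agent.XSC.E6.B.π ws) [] 17) so1S_0

theorem so1 : PModel.IsOrbit (subT Cfsg.Agent.XSC.E6.B.π ws) 17 so1S_S0 12 :=
  PModel.isOrbit_of (Cfsg.Agent.XSC.E6.B.spec.sub ws) (nl := ws.length) (K := 6) (PModel.subT_out Cfsg.Agent.XSC.E6.B.π ws) so1S (by decide +kernel)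

theorem chH_l0 : LevelOK (subT Cfsg.Agent.XSC.E6.B.π ws) [] 1 27 :=
  so0.level

theorem chH_c1 : levelC (subAct Cfsg.Agent.XSC.E6.B.act ws) 6 [1] 4 [[0, 8, 0], [1, 5, 0]] 3 12 = true :=
  by decide +kernel

theorem chH_l1 : LevelOK (subT Cfsg.Agent.XSC.E6.B.π ws) [1] 4 12 :=
  level_of_check (Cfsg.Agent.XSC.E6.B.spec.sub ws) chH_c1

theorem chH_c2 : levelC (subAct Cfsg.Agent.XSC.E6.B.act ws) 6 [4, 1] 2 [[1, 5, 4, 6, 1, 5, 0]] 1 2 = true :=
  by decide +kernel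

theorem chH_l2 : LevelOK (subT Cfsg.Agent.XSC.E6.B.π ws) [4, 1] 2 2 :=
  level_of_check (Cfsg.Agent.XSC.E6.B.spec.sub ws) chH_c2

theorem chH : ChainOK (subT Cfsg.Agent.XSC.E6.B.π ws) [] [(1, 27), (4, 12), (2, 2)] :=
  ⟨chH_l0, chH_l1, chH_l2, trivial⟩

theorem ch : ChainOK Cfsg.Agent.XSC.E6.B.π [] [(0, 40), (1, 27), (4, 12), (2, 2)] :=
  ⟨orb0.level, ChainOK.of_sub Cfsg.Agent.XSC.E6.B.spec hfix chH⟩

theorem mod : Nat.card (gen π) = 25920 ∧ ∃ ρ, PModel Cfsg.Agent.XSC.E6.P5 (selfT π) Cfsg.Agent.XSC.E6.B.π [2, 4, 1, 0] ρ :=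
  ⟨(model_self Cfsg.Agent.XSC.E6.b5 sat ch (by decide)).1, _, (model_self Cfsg.Agent.XSC.E6.b5 sat ch (by decide)).2⟩

theorem card : Nat.card (gen π) = 25920 :=
  mod.1

noncomputable def ρ : (gen π) →* Equiv.Perm ℕ := Classical.choose mod.2

theorem model : PModel Cfsg.Agent.XSC.E6.P5 (selfT π) Cfsg.Agent.XSC.E6.B.π [2, 4, 1, 0] ρ :=
  Classical.choose_spec mod.2

theorem hstab : gen (subT (selfT π) ws) = fixS ρ [0] :=
  model.sub_eq_stab Cfsg.Agent.XSC.E6.B.spec orb0 hfix chH (card.le.trans (by decide))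

theorem soP0 : OrbS Cfsg.Agent.XSC.E6.B.π [0] 1 so0S_S0 :=
  OrbS.of_sub Cfsg.Agent.XSC.E6.B.spec so0.orbS hfix

theorem soP1 : OrbS Cfsg.Agent.XSC.E6.B.π [0] 17 so1S_S0 :=
  OrbS.of_sub Cfsg.Agent.XSC.E6.B.spec so1.orbS hfix

theorem primS0_0 : orbC (subAct Cfsg.Agent.XSC.E6.B.act ([2] :: ws)) [] [[0], [1], [2], [3], [4], [5], [6], [7], [8], [9], [10]] 2 (Nat.shiftLeft 1 0) (ones 40) = true :=
  by decide +kernel

theorem primS0 : OrbS (subT Cfsg.Agent.XSC.E6.B.π ([2] :: ws)) [] 0 (ones 40) :=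
  orbS_step (Cfsg.Agent.XSC.E6.B.spec.sub ([2] :: ws)) (orbS_init (subT Cfsg.Agent.XSC.E6.B.π ([2] :: ws)) [] 0) primS0_0

theorem prim0 : PrimOn Cfsg.Agent.XSC.E6.B.π 0 (ones 40) so0S_S0 :=
  primOn_of Cfsg.Agent.XSC.E6.B.spec (g := [2]) (hs := ws) (by decide +kernel) soP0 primS0

theorem prim1 : PrimOn Cfsg.Agent.XSC.E6.B.π 0 (ones 40) so1S_S0 :=
  PrimOn.of_word Cfsg.Agent.XSC.E6.B.spec (g := [7, 8, 3]) (hs := ws) prim0 (by decide +kernel) soP1 [0, 0] (by decide +kernel)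

theorem prim : AllP (PrimOn Cfsg.Agent.XSC.E6.B.π 0 (ones 40)) [so0S_S0, so1S_S0] :=
  ⟨prim0, prim1, trivial⟩

theorem cover : subs (ones 40) (orL [so0S_S0, so1S_S0] (Nat.shiftLeft 1 0)) = true :=
  by decide +kernel

theorem st0 : fixC Cfsg.Agent.XSC.E6.B.act [2, 4, 1, 0] (substU Cfsg.Agent.XSC.E6.P5.inv.length [2, 9] [10, 4, 10, 4, 5, 5, 5]) = true :=
  by decide +kernel

theorem st1 : fixC Cfsg.Agent.XSC.E6.B.act [2, 4, 1, 0] (substU Cfsg.Agent.XSC.E6.P5.inv.length [2, 9] [8, 4, 8, 4, 9, 9, 9]) = true :=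
  by decide +kernel

theorem st2 : fixC Cfsg.Agent.XSC.E6.B.act [2, 4, 1, 0] (substU Cfsg.Agent.XSC.E6.P5.inv.length [2, 9] [6, 5, 6, 5, 7, 7, 7]) = true :=
  by decide +kernel

theorem st3 : fixC Cfsg.Agent.XSC.E6.B.act [2, 4, 1, 0] (substU Cfsg.Agent.XSC.E6.P5.inv.length [2, 9] [6, 2, 6, 2, 3, 3, 3]) = true :=
  by decide +kernel

theorem st4 : fixC Cfsg.Agent.XSC.E6.B.act [2, 4, 1, 0] (substU Cfsg.Agent.XSC.E6.P5.inv.length [2, 9] [2, 0, 2, 0, 1, 1, 1]) = true :=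
  by decide +kernel

theorem simple : IsSimpleGroup (gen π) :=
  model.simple Cfsg.Agent.XSC.E6.B.spec card orb0 prim cover (by decide +kernel) (u := [2, 9]) (m := 5) (by norm_num) (by decide +kernel)
    (steps := [(5, [10, 4, 10, 4, 5, 5, 5]), (9, [8, 4, 8, 4, 9, 9, 9]), (7, [6, 5, 6, 5, 7, 7, 7]), (3, [6, 2, 6, 2, 3, 3, 3]), (1, [2, 0, 2, 0, 1, 1, 1])])
    ⟨st0, st1, st2, st3, st4, trivial⟩ (by decide +kernel)

theorem link : Link Cfsg.Agent.XSC.E6.P5 (selfT π) :=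
  model.link Cfsg.Agent.XSC.E6.b5 card

end B

end Cfsg.Agent.XSC.E6
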