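import Cfsg.Agent.XSC.SuzTab
import Cfsg.Agent.XSC.E6

set_option autoImplicit false
set_option Elab.async false
set_option maxRecDepth 100000

namespace Cfsg.Agent.XSC.SuzU

open Cfsg.Agent.Comp.BN Cfsg.Agent.Spor Cfsg.Agent.TT Cfsg.Agent.LES Subgroup

theorem c1 : frameC val0 10 6 cm6 = true :=
  by decide +kernel

theorem c2 : liftC val0 X0.I 10 6 [[[0], [0, 4, 6], [2], [3], [0, 1, 2, 3, 4, 6], [0, 1, 2, 3, 5, 6], [6]], [[0], [1, 2, 3, 4], [2], [3], [0, 1, 6], [0, 1, 4, 5, 6], [6]], [[0], [2, 6], [1, 2, 3, 4, 6], [3], [4], [5], [6]], [[0], [1, 2, 3, 4], [1, 6], [3], [4], [5], [6]], [[0, 2, 3, 4, 5, 6], [1, 2, 3, 4, 5, 6], [1, 5], [3], [4], [5], [6]], [[0, 1, 2, 5], [2, 5], [1, 2, 3, 4, 6], [3], [4], [5], [6]], [[0, 2, 4, 5], [1], [1, 2, 3, 4, 6], [3], [2, 5, 6], [5], [6]], [[0, 1, 2, 3, 5, 6], [1], [4, 5, 6], [3], [1, 2, 3, 4, 5], [5], [6]], [[0, 2, 3, 4, 5, 6], [1, 2, 3, 4, 5, 6],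 [0, 2, 4, 5], [0, 3, 4, 5], [4], [0, 4, 6], [6]], [[4, 5, 6], [0, 1, 4, 5, 6], [0, 3, 6], [0, 2], [4], [0, 2, 3, 5], [6]]] = true :=
  by decide +kernel

theorem c3 : transC val0 X0.I [10 + 6] [15] (frL 10 6) [[], [], [6, 3, 9], [1, 6, 9], [10, 0], [0], [], [], [2, 9], [5, 8], [], [], [7, 4, 0], [7, 5, 3, 0], [], [], [3, 4, 6, 0], [3, 6, 4, 0], [], [], [2, 5, 8], [3, 9], [], [], [10, 1], [1], [], [], [], [], [7, 2, 9], [6, 9], [6, 4, 0], [4, 6, 0], [], [], [9], [10, 9], [], [], [3, 0], [5, 0], [], [], [], [], [7, 3, 9], [7, 2, 5, 8], [4, 6, 3, 9], [4, 1, 6, 9], [], [], [], [], [5, 3, 0], [4, 0], [], [], [11, 8], [8], [], [], [6, 0], [7, 5, 0], [3, 9, 0], [9, 1], [8, 0], [11, 8, 0], [], [], [], [], [], [], [], [], [], [], [], [], [], [], [], [], [], [], [], [], [], [], [], [], [9, 0], [5, 8, 0], [8, 1], [12, 8, 1], [], [], [], [], [], [], [], [], [], [], [], [], [5, 8, 1], [2, 9, 0],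 [9, 3, 0], [9, 5, 0], [], [], [], [], [1, 7, 5, 3, 0], [1, 7, 4, 0], [8, 7, 3, 9], [8, 7, 2, 5, 8], [6, 8, 0], [9, 6, 0], [0, 6, 9], [6, 9, 1], [], [10], [], []] = true :=
  by decide +kernel

theorem c4 : meetC val0 X0.I [10 + 6] [15] [10] [[11], [12], [13], [14], [15]] [[1, 5, 2, 8, 7, 3, 4, 1]] = true :=
  by decide +kernel

theorem c6 : all2 (relAC val0 X0.I 10 [10 + 6] [15] [10] [[11], [12], [13], [14], [15]]) E6.P5.rels [([], [], []), ([], [], []), ([], [], []), ([], [], []), ([], [], []), ([8, 4, 7], [2, 6, 9], [11, 13, 14]), ([8, 4], [3, 9], [11, 13, 14]), ([8, 4, 2], [9], [10, 12, 13, 16]), ([8, 4, 2, 0], [0, 9], [11, 12, 13, 14]), ([6, 5], [8, 2, 6, 9], [11, 13, 14]), ([6, 2], [1, 5, 6, 0], [11, 13, 14, 15]), ([6, 2, 0], [5, 6, 0], [11, 13, 14, 15]), ([4, 2], [], [16]), ([4, 2, 0], [0], [10, 11, 14]), ([2, 0], [4, 0], [11, 13, 14, 15])] = true :=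
  by decide +kernel

theorem c9 : padC val X0 X = true :=
  by decide +kernel

theorem c10 : rdfC val X (ones (10 + 6 + 1)) 33423360 [[], [], [], [], [], [], [], [], [], [], [], [], [], [], [], [], [], [2, 4, 1, 8, 7, 5, 0, 15, 2, 8], [0, 4, 15, 8, 3, 6, 9, 3, 1, 4], [2, 4, 1, 6, 8, 7, 0, 15, 2, 8, 2], [2, 4, 0, 12, 6, 8, 2, 5, 1, 6, 8, 3], [0, 2, 4, 0, 6, 0, 9, 2, 9, 7, 2, 1, 5, 2, 8, 7, 4, 0], [0, 2, 4, 0, 8, 6, 0, 8, 7, 2, 9, 4, 0, 4], [0, 2, 4, 0, 8, 2, 7, 2, 8, 1, 7, 3, 9, 4, 0], [16, 14]] = true :=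
  by decide +kernel

theorem c12 : newLC val (Nat.lor (ones (10 + 6 + 1)) 33423360) [10 + 6] [15] [[11], [12], [13], [14], [15]] [[11, 12], [11, 13], [11, 14], [12, 13, 14], [15]] [[1, 2], [1, 3], [1, 4], [2, 3, 4], [5]] [[4, 3, 2, 1], [3, 4, 2], [4, 3, 1], [2, 4, 1], [5]] = true :=
  by decide +kernel

theorem b1 : usC val X.I 33554431 25 [16] [15] [[11, 12], [11, 13], [11, 14], [12, 13, 14], [15]] [[18, 21, 19, 21, 19, 17], [17, 19, 21, 19, 18, 21], [21, 20, 21, 20], [19, 21, 19, 21]] = true :=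
  by decide +kernel

theorem b2 : lsC val X.I 33554431 25 [15] [[18, 21, 19, 21, 19, 17], [17, 19, 21, 19, 18, 21], [21, 20, 21, 20], [19, 21, 19, 21]] [[17], [19, 20]] [(3, [[2, 0], [4], [3], [1, 0]]), (3, [[4, 1], [4, 2], [4], [3, 4]])] = true :=
  by decide +kernel

theorem b3 : asC val X.I 25 [16] [15] [10] [[11, 12], [11, 13], [11, 14], [12, 13, 14], [15]] [[18, 21, 19, 21, 19, 17], [17, 19, 21, 19, 18, 21], [21, 20, 21, 20], [19, 21, 19, 21]] [[17], [19, 20]] [([18, 21, 19, 21, 19, 17], [0, 0, 1, 0], 1), ([17, 19, 21, 19, 18, 21], [1, 0, 1, 1], 1), ([21, 20, 21, 20], [1, 1], 1), ([19, 21, 19, 21], [1, 1], 1), ([], [], 0)] = true :=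
  by decide +kernel

theorem b4 : kC val X.I 25 [16] [15] [10] ([16] :: ([[11, 12], [11, 13], [11, 14], [12, 13, 14], [15]] ++ [[18, 21, 19, 21, 19, 17], [17, 19, 21, 19, 18, 21], [21, 20, 21, 20], [19, 21, 19, 21]] ++ [[17], [19, 20]])) [[0], [1], [2], [3], [4], [5, 0], [6, 5, 1], [7, 5, 2], [8, 5, 3], [9, 5, 4], [10], [11]] = true :=
  by decide +kernel

theorem b5 : subWC val X.I [33554431] 62913536 26 [[10], [25], [16], [11, 12], [11, 13], [11, 14], [12, 13, 14], [15], [18, 21, 19, 21, 19, 17], [17, 19, 21, 19, 18, 21], [21, 20, 21, 20], [19, 21, 19, 21], [17], [19, 20]] [[], [], [], [], [], [], [], [], [], [], [0], [6, 5, 4, 3], [5, 6, 4], [6, 5, 3], [4, 6, 3], [7], [2], [12], [12, 12], [12, 13, 12, 12, 13, 13, 12], [13, 12, 13, 13, 12, 12, 13, 12], [10, 11, 9, 8], [], [11, 9, 8], [6, 4, 3], [1]] = true :=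
  by decide +kernel

/-- the state after the construction of the graph over the normaliser of the four-group -/
def StB {G : Type*} [Group G] (z : G) (t : ℕ → G × Cfsg.Spor.Suz) (Ss : List ℕ) (Ks : List (List ℕ)) : Prop :=
  St t m val X.I Ss Ks ∧ Nat.card (centralizer ({z} : Set G)) = 3317760 ∧
    ∃ Q P R, CG Q P R z t 33554431 [16] [15] [10] [[11, 12], [11, 13], [11, 14], [12, 13, 14], [15]]

theorem stB {G : Type*} [Group G] [Finite G] {Q : Subgroup G} {z : G} (h : LX Q z)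
    (hQ : Nat.card Q = 2 ^ 7) (hC : Nat.card (centralizer ({z} : Set G)) = 3317760) {g : G}
    (hg : g * z * g⁻¹ ∈ Q) (hne : g * z * g⁻¹ ≠ z) : ∃ t, StB z t [62913536, 33554431] [] := by
  have := E6.B.simple
  obtain ⟨t, P, R, o, c⟩ := stage0 h hQ (type_suz h hQ hC) hg hne (by decide) orc0 orc c1 c2 rfl (by decide)
    c3 c4 (by decide +kernel) c6 E6.B.link (E6.B.model.not_comm E6.B.spec [0] [2] 1 (by decide +kernel))
    (by rw [hC, hQ, E6.B.card]; norm_num) (k0 := 0) (i0 := 11) (by decide +kernel) (by decide +kernel) c9 c10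
    (by decide +kernel) c12
  obtain ⟨t, o, c, h1⟩ := CG.stepB (S := 33554431) c o (by decide +kernel) (fixI_spec (by decide +kernel)) b1 b2 b3 b4
  have o1 : St t m val X.I [33554431] [] := ⟨o, ⟨c.gr, trivial⟩, trivial⟩
  exact ⟨t, o1.addS (h1.mono (o1.le_genW b5)), hC, Q, P, R, c⟩

end Cfsg.Agent.XSC.SuzU
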