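import Cfsg.Agent.XSC.SuzW

set_option autoImplicit false
set_option Elab.async false
set_option maxRecDepth 100000

namespace Cfsg.Agent.XSC.SuzU

open Cfsg.Agent.Comp.BN Cfsg.Agent.Spor Cfsg.Agent.TT Cfsg.Agent.LES Subgroup

theorem levL_0 : levC val X.I 33554431 [] [17] [[17], [19], [20], [21], [22], [10]] [[5, 2, 3, 0, 1, 2, 0, 1], [3, 5, 1, 3, 0, 1, 2, 0, 1], [5, 0, 1, 2, 3, 1], [5, 2, 3, 0, 1], [3, 0, 1, 2, 3, 0, 1], [1, 3, 0, 1, 0, 2, 1], [2, 0, 1, 0, 2, 4, 3, 1], [2, 4, 1, 0, 1, 3, 1], [2, 1, 3, 0, 1], [0, 1, 2, 4, 3, 1, 3, 0, 1], [2, 4, 2, 0, 1, 3, 1], [5, 2, 4, 0, 1, 3, 1], [5, 3, 0, 1, 2, 0, 1], [3, 5, 2, 3, 0, 1, 2, 0, 1], [0, 1, 0, 2, 4, 3, 1], [2, 3, 5, 1,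 3, 0, 1, 2, 0, 1], [1, 3, 0, 0, 1, 2], [1, 3, 0, 1], [4, 1, 0, 1, 3, 1], [5, 3, 0, 1], [4, 2, 4, 3, 0, 1], [1, 3, 0, 1, 2, 0, 1], [5, 4, 0, 1, 3, 1], [4, 2, 0, 1, 3, 1], [2, 3, 0, 1, 2, 0, 1], [3, 5, 0, 1, 2, 3, 0, 1], [5, 2, 1, 3, 0, 1], [1, 0, 1, 2, 4, 0, 1, 3, 1], [0, 2, 3, 4, 1, 3, 0, 1], [2, 4, 1, 2, 0, 1, 3, 1], [2, 4, 1, 2, 4, 3, 0, 1], [5, 3, 0, 1, 2, 3, 0, 1], [0, 1, 2, 3, 1], [2, 3, 0, 1], [0, 1, 2, 4, 1, 3, 1], [2, 4, 0, 1, 3, 1], [5, 0, 1, 2, 3, 0, 1], [5, 0, 1, 2, 4, 0, 1, 3, 1], [2, 0, 1, 2, 4, 0, 1, 3, 1], [3, 1, 0, 1, 2, 0, 1], [1, 2, 4, 1, 0, 1, 3, 1], [5, 1, 2, 3, 0, 1], [5, 1, 0, 1, 2, 3, 1], [0, 1, 2, 4, 1, 0, 1, 3, 1], [5, 1, 2, 4, 0, 1, 3, 1], [1,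 2, 4, 2, 0, 1, 3, 1], [3, 1, 0, 2, 1], [3, 0, 1, 0, 2, 1], [3, 0, 1, 2, 0, 1], [0, 1, 2, 4, 0, 1, 3, 0, 1], [3, 0, 1], [3, 0, 0, 1, 2], [5, 1, 3, 0, 1, 2, 0, 1], [5, 4, 1, 0, 1, 3, 1], [4, 1, 2, 4, 3, 0, 1], [4, 1, 2, 0, 1, 3, 1], [5, 1, 3, 0, 1], [2, 3, 5, 0, 1, 2, 3, 0, 1], [5, 4, 2, 0, 1, 3, 1], [4, 0, 1, 3, 1], [1, 3, 5, 0, 1, 2, 3, 0, 1], [5, 3, 1, 0, 1, 2, 0, 1], [1, 0, 1, 2, 3, 1], [1, 0, 1, 2, 4, 1, 3, 1], [1, 2, 4, 1, 2, 0, 1, 3, 1], [0, 1, 2, 4, 0, 1, 3, 1], [5, 3, 0, 1, 0, 2, 1], [1, 2, 3, 0, 1], [3, 1, 0, 2, 3, 5, 3, 1], [5, 3, 1, 0, 2, 1], [0, 1, 2, 3, 0, 1], [1, 2, 4, 0, 1, 3, 1], [3, 1, 2, 0, 1], [1, 2, 4, 0, 1, 3, 0, 1], [3, 1], [3, 0, 1, 2], [5, 3, 0,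 1, 0, 2, 3, 1], [3, 4, 0, 1, 3, 0, 1], [5, 1, 0, 2, 1, 3, 1], [5, 3, 1, 3, 0, 0, 1], [4, 1, 3, 0, 1, 2], [0, 1, 2, 4, 3, 1], [4, 1, 3, 1], [0, 1, 2, 3, 5, 1, 3, 0, 1], [2, 4, 1, 3, 0, 1, 2], [5, 1, 2, 0, 1, 3, 0, 1], [3, 5, 1, 0, 1, 2, 3, 1], [1, 0, 2, 4, 1, 3, 1], [4, 3, 1, 3, 4, 2, 0, 1], [5, 0, 2, 1, 3, 0, 1], [2, 4, 1, 3, 1], [1, 0, 2, 3, 1], [2, 0, 1, 2, 4, 3, 1], [2, 3, 1], [2, 3, 0, 1, 2], [5, 3, 1, 0, 1, 2, 3, 1], [5, 0, 2, 1, 3, 0, 1, 2], [4, 3, 1], [4, 3, 0, 1, 2], [1, 3, 1], [5, 0, 2, 1, 3, 1], [2, 1, 3, 0, 0, 1], [1, 3, 0, 1, 2], [3, 5, 1, 3, 0, 1], [2, 4, 0, 1, 3, 0, 1], [1, 0, 1, 2, 4, 3, 1], [2, 4, 3, 1, 3, 0, 1, 2], [5, 3, 1, 3, 0, 1], [2, 3, 4, 1, 3,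 0, 1], [5, 2, 0, 1, 3, 0, 1], [3, 5, 1, 2, 3, 0, 1], [0, 1, 0, 2, 4, 1, 3, 1], [0, 2, 4, 1, 3, 0, 1, 2], [5, 2, 3, 1, 3, 0, 1, 2], [1, 2, 4, 1, 3, 1], [0, 1, 0, 2, 3, 1], [1, 2, 3, 1], [0, 2, 3, 1], [0, 2, 4, 1, 3, 1], [5, 3, 1, 2, 3, 0, 1], [5, 2, 3, 1, 3, 0, 1], [5, 0, 0, 1, 3, 1], [2, 1, 3, 1], [2, 4, 3, 1], [5, 4, 3, 0, 0, 1], [1, 3, 0, 0, 1], [0, 1, 2, 4, 1, 3, 0, 1], [4, 3, 1, 3, 0, 1, 2], [2, 1, 3, 0, 1, 2], [4, 0, 1, 3, 0, 1], [2, 3, 5, 1, 3, 0, 1], [5, 0, 1, 2, 0, 1, 3, 1], [3, 1, 0, 1, 2, 1], [1, 0, 1, 2, 4, 1, 3, 0, 1], [3, 1, 2], [3, 0, 0, 1], [5, 3, 1, 0, 2, 3, 1], [5, 3, 1, 3, 0, 1, 2], [3, 4, 1, 3, 0, 1], [4, 0, 1, 2, 0, 1, 3, 1], [5, 0, 1, 3, 0, 1], [4,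 0, 0, 1, 3, 1], [1, 2, 3, 5, 1, 3, 0, 1], [1, 2, 4, 3, 1], [0, 1, 2, 0, 1, 3, 1], [0, 0, 1, 3, 1], [0, 2, 4, 1, 3, 0, 1], [4, 3, 1, 2], [4, 3, 0, 0, 1], [4, 3, 1, 2, 4, 2, 0, 1], [5, 2, 1, 3, 1], [5, 2, 1, 3, 0, 1, 2], [5, 4, 0, 1, 3, 0, 1], [5, 1, 3, 0, 0, 1], [0, 1, 2, 4, 3, 0, 1], [2, 3, 1, 3, 0, 1], [0, 1, 3, 0, 1], [4, 1, 3, 0, 0, 1], [3, 5, 1, 0, 2, 3, 1], [4, 2, 1, 3, 4, 1, 2, 0, 1], [3, 1, 3, 0, 1, 2], [3, 5, 1, 3, 0, 1, 2], [4, 2, 1, 3, 1], [5, 3, 1, 0, 1, 2, 1], [5, 4, 0, 0, 1, 3, 1], [3, 1, 0, 2, 3, 1], [5, 3, 1, 2], [5, 3, 0, 0, 1], [5, 0, 1, 0, 2, 3, 1], [1, 2, 4, 0, 2, 1, 3, 1], [5, 1, 2, 3, 1], [5, 0, 2, 3, 1], [3, 1, 2, 3, 0, 1], [2, 3, 1, 3, 0, 1, 2],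 [2, 4, 1, 3, 0, 0, 1], [0, 2, 1, 0, 2, 4, 3, 1], [2, 0, 1, 3, 0, 1], [5, 0, 2, 4, 1, 3, 1], [1, 2, 4, 3, 1, 3, 0, 1], [2, 4, 2, 1, 3, 1], [5, 1, 0, 2, 3, 1], [5, 1, 0, 2, 4, 1, 3, 1], [5, 2, 3, 1], [5, 2, 3, 0, 1, 2], [3, 1, 0, 1, 2, 3, 1], [2, 4, 3, 1, 3, 0, 1], [0, 2, 1, 3, 0, 1], [1, 2, 0, 1, 3, 0, 1], [2, 1, 0, 2, 4, 3, 1], [2, 4, 0, 2, 1, 3, 1], [5, 2, 4, 1, 3, 1], [4, 2, 4, 3, 1, 2, 3, 0, 1], [1, 0, 2, 1, 3, 1], [1, 0, 2, 4, 3, 1], [3, 5, 0, 1, 0, 2, 3, 1], [5, 1, 2, 4, 0, 1, 3, 0, 1], [3, 1, 3, 0, 0, 1], [4, 3, 1, 3, 0, 1], [5, 4, 1, 3, 1], [5, 3, 1, 2, 0, 1], [3, 0, 1, 0, 2, 3, 1], [4, 0, 2, 1, 3, 1], [5, 3, 1], [5, 3, 0, 1, 2], [3, 1, 3, 0, 1], [5, 1, 3, 1],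 [2, 0, 1, 2, 4, 3, 0, 1], [0, 2, 1, 3, 1], [5, 4, 3, 1], [0, 2, 4, 3, 1], [5, 2, 1, 3, 0, 0, 1], [4, 1, 0, 2, 1, 3, 1], [5, 2, 4, 0, 1, 3, 0, 1], [5, 1, 3, 0, 1, 2], [4, 3, 1, 3, 0, 0, 1], [0, 2, 1, 3, 0, 1, 2], [2, 0, 1, 3, 1], [5, 0, 1, 3, 1], [1, 2, 1, 0, 1, 3, 1], [1, 0, 1, 3, 1], [2, 4, 3, 0, 1], [5, 4, 3, 0, 1], [5, 2, 1, 0, 1, 3, 1], [5, 1, 2, 4, 3, 0, 1], [1, 2, 4, 1, 3, 0, 1], [4, 1, 3, 0, 1], [5, 2, 4, 1, 3, 0, 1], [5, 1, 2, 0, 1, 3, 1], [0, 1, 3, 1], [5, 2, 0, 1, 3, 1], [5, 2, 4, 3, 0, 1], [4, 3, 0, 1], [2, 1, 0, 1, 3, 1], [1, 2, 0, 1, 3, 1], [5, 1, 2, 4, 1, 3, 0, 1], [5, 1, 2, 1, 0, 1, 3, 1], [2, 4, 1, 3, 0, 1], [5, 4, 1, 3, 0, 1], [1, 2, 4, 3, 0, 1], [5,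 1, 0, 1, 3, 1], [2], [], [0, 1], [0, 0, 1, 2], [1, 0, 1, 2, 0, 1], [0, 1, 2, 0, 1], [2, 3, 5, 3, 0, 1, 2, 0, 1], [0, 1, 2, 1], [2, 0, 1], [3, 5, 3, 0, 1, 2, 0, 1], [0, 1, 2, 3, 5, 3, 0, 1], [0, 1, 2, 3, 5, 3, 1], [2, 3, 5, 3, 0, 1], [0, 1, 2, 3, 4, 0, 1, 3, 1], [4, 3, 1, 2, 4, 2, 1], [2, 1, 3, 5, 3, 0, 1], [2, 3, 5, 4, 1, 3, 1], [3, 1, 2, 4, 1, 0, 1, 3, 1], [2, 3, 4, 0, 2, 1, 3, 1], [3, 5, 3, 0, 0, 1], [3, 5, 3, 1, 2], [0, 1, 0, 2, 3, 5, 3, 1], [1, 0, 2, 3, 5, 3, 1], [1, 0, 1, 2, 1], [0, 1, 2], [1], [0, 0, 1], [1, 2], [1, 2, 0, 1], [2, 3, 4, 1, 3, 1], [0, 1, 0, 2, 1], [1, 0, 2, 1], [2, 1], [2, 0, 1, 2], [1, 2, 1], [0, 2, 1], [0, 2, 3, 5, 3, 1], [1, 2, 3, 5, 3, 1], [3,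 5, 3, 0, 1], [3, 4, 2, 4, 3, 0, 1], [3, 5, 3, 1, 0, 1, 2, 1], [3, 5, 3, 1, 2, 0, 1], [1, 2, 3, 5, 3, 0, 1], [1, 2, 3, 4, 0, 1, 3, 1], [3, 5, 3, 1, 0, 1, 2, 0, 1], [1, 2, 3, 4, 0, 2, 1, 3, 1], [2, 3, 5, 3, 0, 1, 2], [2, 3, 5, 3, 1], [3, 5, 3, 0, 1, 0, 2, 1], [1, 0, 1, 2, 3, 5, 3, 1], [4, 1, 0, 2, 1, 3, 4, 2, 1], [1, 3, 5, 3, 0, 1, 2, 0, 1], [3, 5, 3, 0, 1, 2], [3, 5, 3, 1], [2, 1, 3, 4, 0, 1, 3, 1], [3, 5, 3, 1, 0, 2, 1], [3, 1, 2, 4, 3, 1], [3, 4, 1, 3, 1], [3, 4, 0, 2, 1, 3, 1], [4, 2, 0, 1, 3, 4, 2, 1], [1, 3, 4, 2, 1, 3, 1], [0, 1, 3, 5, 3, 1], [3, 0, 1, 2, 4, 3, 1], [1, 3, 4, 0, 1, 3, 1], [3, 4, 2, 1, 3, 1], [4, 2, 1, 3, 4, 2, 1], [3, 5, 4, 1, 3, 1], [1, 3, 5, 3,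 0, 1], [3, 4, 0, 1, 3, 1], [2, 3, 4, 0, 1, 3, 1], [3, 4, 2, 0, 1, 3, 1], [2, 1, 3, 5, 3, 1], [2, 1, 3, 4, 1, 3, 1], [4, 3, 0, 1, 2, 4, 2, 1], [1, 3, 4, 1, 3, 1], [1, 3, 5, 3, 1], [4, 0, 2, 1, 3, 4, 2, 1], [3, 5, 4, 2, 0, 1, 3, 1], [1, 3, 5, 3, 0, 0, 1], [2, 1, 3, 5, 3, 0, 0, 1], [4, 3, 2, 4, 0, 1, 2, 0, 1], [4, 2, 4, 0, 1, 2, 3, 0, 1], [5, 4, 3, 1, 0, 1, 2, 0, 1], [4, 3, 1, 0, 1, 2, 0, 1], [3, 1, 0, 1, 2, 4, 2, 1], [3, 1, 2, 3, 4, 2, 0, 1], [4, 0, 2, 1, 3, 0, 1], [5, 4, 0, 2, 1, 3, 0, 1], [4, 0, 1, 2, 1], [4, 2, 0, 1], [3, 1, 0, 2, 3, 4, 1, 0, 2, 1], [0, 1, 2, 0, 1, 3, 4, 2, 1], [3, 2, 1, 3, 4, 2, 0, 1], [4, 1, 0, 1, 2, 0, 1], [2, 1, 0, 1, 3, 4, 1, 2, 1], [1, 3, 2, 4,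 1, 2, 3, 0, 1], [4, 2, 0, 1, 3, 4, 2, 0, 1], [3, 4, 2, 3, 4, 0, 1, 2, 0, 1], [3, 2, 0, 1, 2, 4, 2, 1], [0, 2, 1, 3, 4, 2, 1], [4, 0, 2, 4, 3, 1, 0, 2, 1], [3, 0, 1, 3, 2, 4, 0, 2, 1], [5, 0, 2, 4, 3, 1, 0, 2, 1], [0, 2, 4, 3, 1, 0, 2, 1], [2, 4, 0, 2, 1, 3, 0, 1], [5, 2, 4, 0, 2, 1, 3, 0, 1], [0, 1, 2, 3, 4, 1, 0, 2, 1], [1, 2, 3, 1, 3, 4, 2, 0, 1], [2, 4, 2, 0, 1], [2, 4, 0, 1, 2, 1], [4, 3, 2, 4, 0, 1, 2, 3, 0, 1], [0, 2, 4, 3, 5, 3, 1, 0, 2, 1], [0, 2, 4, 1, 0, 2, 1], [3, 5, 4, 2, 1, 3, 0, 0, 1], [1, 3, 2, 4, 2, 3, 0, 1], [1, 3, 4, 2, 3, 0, 1], [1, 0, 1, 3, 4, 1, 2, 1], [3, 4, 0, 2, 3, 4, 1, 0, 2, 1], [0, 1, 2, 3, 4, 2, 1], [0, 0, 1, 3, 4, 2, 1], [3, 0, 2, 3, 4, 1,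 0, 2, 1], [5, 3, 0, 2, 3, 4, 1, 0, 2, 1], [1, 0, 1, 3, 1, 3, 4, 2, 0, 1], [2, 3, 4, 1, 3, 0, 1, 2, 0, 1], [3, 1, 3, 4, 0, 1, 2, 1], [5, 3, 1, 3, 4, 0, 1, 2, 1], [5, 3, 1, 3, 4, 2, 0, 1], [3, 1, 3, 4, 2, 0, 1], [1, 2, 4, 0, 1, 2, 0, 1], [0, 1, 3, 2, 3, 4, 0, 2, 1], [3, 1, 3, 4, 1, 0, 1, 2, 0, 1], [2, 0, 1, 3, 4, 0, 2, 1], [3, 0, 1, 2, 4, 1, 0, 2, 1], [3, 2, 3, 4, 2, 0, 1], [4, 2, 3, 5, 3, 0, 1], [4, 3, 0, 2, 4, 1, 0, 2, 3, 1], [1, 0, 2, 4, 1, 2, 0, 1], [1, 2, 4, 1, 2, 0, 1], [3, 0, 1, 2, 4, 2, 1], [2, 0, 1, 3, 4, 1, 2, 1], [4, 1, 3, 2, 4, 0, 1, 2, 0, 1], [4, 1, 2, 4, 0, 1, 2, 3, 0, 1], [3, 2, 4, 3, 0, 1, 2, 0, 1], [4, 3, 0, 1, 2, 3, 0, 1], [4, 3, 1, 2, 3, 0, 1], [5, 4,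 3, 1, 2, 3, 0, 1], [4, 3, 1, 0, 1, 2, 3, 1], [3, 2, 4, 3, 1, 2, 0, 1], [4, 0, 1, 2, 0, 1], [3, 1, 3, 4, 0, 1, 2, 0, 1], [3, 2, 4, 0, 1, 2, 3, 0, 1], [2, 4, 3, 5, 3, 0, 1, 2, 0, 1], [1, 3, 2, 0, 1, 2, 4, 2, 1], [1, 0, 2, 1, 3, 4, 2, 1], [4, 1, 2, 0, 1], [4, 1, 0, 1, 2, 1], [2, 1, 3, 0, 1, 2, 4, 2, 1], [1, 3, 2, 1, 3, 4, 2, 0, 1], [2, 4, 3, 5, 3, 1, 2, 0, 1], [3, 2, 4, 1, 2, 3, 0, 1], [3, 4, 2, 3, 0, 1, 2, 0, 1], [5, 3, 4, 2, 3, 0, 1, 2, 0, 1], [3, 2, 4, 1, 3, 0, 1, 2, 0, 1], [3, 4, 1, 3, 0, 1, 2, 0, 1], [5, 2, 3, 1, 3, 4, 2, 0, 1], [2, 3, 1, 3, 4, 2, 0, 1], [3, 1, 2, 3, 4, 1, 2, 0, 1], [3, 2, 4, 2, 1, 3, 0, 1, 2], [4, 2, 4, 0, 1, 2, 0, 1], [2, 3, 1, 3, 4, 1, 0, 1, 2, 0,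 1], [3, 0, 2, 4, 1, 0, 2, 3, 1], [1, 0, 1, 2, 3, 4, 2, 1], [0, 1, 3, 4, 0, 2, 1], [3, 1, 2, 3, 4, 0, 1, 2, 0, 1], [3, 2, 4, 2, 3, 0, 1], [3, 4, 2, 3, 0, 1], [1, 2, 4, 2, 0, 1], [1, 2, 4, 0, 1, 2, 1], [0, 1, 3, 4, 1, 2, 1], [2, 3, 0, 1, 2, 4, 2, 1], [1, 3, 0, 2, 3, 4, 1, 0, 2, 1], [3, 1, 3, 2, 4, 0, 1, 2, 0, 1], [0, 1, 3, 1, 3, 4, 2, 0, 1], [2, 4, 3, 0, 1, 2, 3, 0, 1], [3, 5, 1, 3, 4, 1, 2, 0, 1], [1, 3, 1, 3, 4, 2, 0, 1], [2, 4, 3, 1, 2, 3, 0, 1], [3, 5, 2, 4, 3, 1, 2, 0, 1], [2, 4, 0, 1, 2, 0, 1], [2, 3, 1, 3, 4, 0, 1, 2, 0, 1], [1, 3, 0, 1, 2, 4, 2, 1], [2, 4, 1, 2, 0, 1], [0, 2, 4, 1, 2, 0, 1], [4, 3, 5, 3, 0, 1, 2, 0, 1], [1, 3, 0, 1, 2, 4, 1, 0, 2, 1], [1, 2, 0,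 1, 3, 4, 0, 2, 1], [4, 0, 1, 2, 3, 5, 3, 0, 1], [4, 1, 2, 3, 5, 3, 0, 1], [4, 3, 5, 3, 1, 2, 0, 1], [1, 3, 2, 3, 4, 2, 0, 1], [4, 3, 1, 3, 0, 2, 4, 1, 0, 2, 1], [1, 3, 0, 2, 4, 1, 0, 2, 1], [1, 3, 2, 4, 2, 0, 1], [5, 4, 1, 2, 3, 0, 1], [1, 0, 1, 3, 1, 3, 4, 2, 1], [3, 5, 3, 4, 1, 2, 3, 0, 1], [5, 4, 0, 1, 2, 3, 0, 1], [3, 5, 3, 4, 0, 1, 2, 3, 0, 1], [5, 2, 3, 4, 0, 1, 2, 0, 1], [5, 2, 1, 3, 4, 0, 1, 2, 0, 1], [3, 2, 3, 5, 4, 1, 2, 3, 0, 1], [4, 1, 2, 4, 0, 1, 3, 0, 1], [3, 4, 2, 4, 1, 0, 2, 3, 1], [5, 4, 3, 1, 0, 1, 2, 1], [5, 2, 1, 3, 4, 1, 2, 0, 1], [5, 0, 2, 3, 4, 1, 2, 0, 1], [5, 2, 3, 4, 1, 2, 0, 1], [5, 4, 3, 1, 2, 0, 1], [5, 4, 3, 0, 1, 2, 0, 1], [5, 2, 0, 1, 3,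 4, 1, 2, 0, 1], [1, 0, 2, 4, 1, 0, 2, 3, 1], [3, 1, 3, 2, 3, 4, 0, 1, 2, 0, 1], [4, 1, 2, 3, 0, 1], [4, 1, 2, 4, 0, 1, 3, 1], [3, 4, 2, 4, 3, 1, 2, 0, 1], [1, 2, 4, 2, 3, 0, 1], [4, 0, 1, 2, 3, 0, 1], [4, 0, 1, 2, 4, 0, 1, 3, 1], [2, 1, 3, 4, 0, 1, 2, 0, 1], [2, 3, 4, 0, 1, 2, 0, 1], [2, 3, 4, 1, 2, 0, 1], [4, 3, 1, 2, 0, 1], [0, 2, 3, 4, 1, 2, 0, 1], [2, 1, 3, 4, 1, 2, 0, 1], [4, 3, 1, 0, 1, 2, 1], [3, 4, 3, 2, 4, 1, 0, 2, 1], [1, 2, 4, 2, 1, 3, 0, 1, 2], [0, 2, 1, 3, 4, 1, 2, 0, 1], [2, 0, 1, 3, 4, 1, 2, 0, 1], [4, 3, 0, 1, 2, 0, 1], [1, 3, 2, 4, 0, 1, 2, 0, 1], [3, 1, 3, 0, 2, 3, 4, 1, 0, 2, 1], [4, 3, 2, 3, 4, 1, 0, 2, 1], [3, 0, 2, 4, 1, 2, 0, 1], [2, 3, 5, 3, 4,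 1, 2, 3, 0, 1], [3, 2, 4, 1, 2, 0, 1], [3, 2, 4, 0, 1, 2, 0, 1], [4, 3, 0, 2, 3, 4, 1, 0, 2, 1], [5, 3, 4, 0, 1, 2, 0, 1], [5, 1, 3, 4, 0, 1, 2, 0, 1], [3, 4, 1, 2, 3, 5, 3, 0, 1], [5, 0, 2, 4, 3, 1, 2, 0, 1], [3, 2, 4, 3, 1, 2, 3, 0, 1], [3, 1, 3, 2, 3, 4, 2, 0, 1], [5, 2, 4, 3, 1, 2, 0, 1], [5, 3, 4, 1, 0, 1, 2, 1], [5, 3, 4, 1, 2, 0, 1], [5, 1, 3, 4, 1, 2, 0, 1], [5, 0, 1, 3, 4, 1, 2, 0, 1], [5, 2, 4, 3, 0, 1, 2, 0, 1], [0, 1, 3, 2, 4, 0, 2, 1], [0, 2, 1, 3, 0, 1, 3, 4, 2, 1], [3, 0, 2, 4, 1, 0, 2, 1], [3, 0, 0, 1, 3, 4, 2, 1], [4, 3, 5, 1, 3, 0, 1, 2, 0, 1], [0, 1, 3, 1, 3, 4, 2, 1], [5, 4, 2, 3, 0, 1], [3, 2, 4, 2, 0, 1], [4, 0, 2, 3, 4, 1, 0, 2, 1], [5, 3, 4, 2,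 4, 0, 1, 2, 0, 1], [4, 2, 4, 0, 1, 3, 0, 1], [2, 4, 2, 4, 0, 1, 3, 0, 1], [5, 2, 4, 2, 1, 3, 0, 1, 2], [5, 4, 2, 1, 3, 0, 1, 2], [5, 3, 1, 2, 4, 2, 0, 1], [5, 1, 2, 3, 4, 1, 2, 0, 1], [5, 2, 4, 2, 1, 3, 0, 0, 1], [5, 4, 2, 1, 3, 0, 0, 1], [5, 2, 4, 1, 3, 0, 1, 2, 0, 1], [5, 4, 1, 3, 0, 1, 2, 0, 1], [4, 3, 1, 3, 2, 4, 0, 1, 2, 0, 1], [1, 2, 4, 0, 1, 2, 3, 0, 1], [2, 4, 1, 2, 4, 0, 1, 3, 1], [2, 3, 4, 2, 4, 3, 1, 2, 0, 1], [2, 4, 1, 2, 3, 0, 1], [0, 2, 4, 1, 2, 3, 0, 1], [2, 4, 0, 1, 2, 3, 0, 1], [2, 4, 0, 1, 2, 4, 0, 1, 3, 1], [1, 3, 4, 0, 1, 2, 0, 1], [3, 4, 0, 1, 2, 0, 1], [3, 4, 1, 2, 0, 1], [1, 3, 4, 1, 2, 0, 1], [2, 4, 3, 1, 2, 0, 1], [3, 4, 1, 0, 1, 2, 1], [0, 0,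 1, 3, 4, 1, 2, 0, 1], [0, 1, 3, 4, 0, 1, 2, 0, 1], [1, 0, 2, 4, 3, 1, 2, 0, 1], [0, 2, 4, 3, 1, 2, 0, 1], [2, 4, 3, 0, 1, 2, 0, 1], [0, 1, 3, 4, 1, 2, 0, 1], [0, 2, 4, 1, 0, 2, 3, 1], [4, 2, 3, 0, 1, 2, 0, 1], [3, 0, 1, 3, 4, 1, 2, 1], [4, 3, 2, 3, 4, 0, 1, 2, 0, 1], [4, 1, 0, 1, 2, 4, 0, 1, 3, 1], [4, 2, 4, 0, 1, 3, 1], [2, 4, 2, 3, 0, 1], [4, 2, 3, 0, 1], [3, 4, 2, 4, 0, 1, 2, 0, 1], [1, 2, 3, 4, 0, 1, 2, 0, 1], [4, 2, 1, 3, 0, 0, 1], [2, 4, 2, 1, 3, 0, 0, 1], [1, 2, 3, 4, 1, 2, 0, 1], [3, 1, 2, 4, 2, 0, 1], [4, 2, 1, 3, 0, 1, 2], [2, 4, 2, 1, 3, 0, 1, 2], [4, 2, 4, 2, 0, 1, 3, 0, 1], [3, 0, 1, 3, 4, 0, 2, 1], [4, 1, 3, 0, 1, 2, 0, 1], [2, 4, 1, 3, 0, 1, 2, 0, 1], [3,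 4, 0, 1, 0, 2, 3, 1], [5, 3, 4, 0, 1, 0, 2, 3, 1], [5, 1, 3, 4, 0, 1, 0, 2, 1], [1, 3, 4, 0, 1, 0, 2, 1], [3, 1, 2, 3, 1, 3, 4, 0, 2, 1], [3, 2, 3, 0, 1, 2, 4, 2, 0, 1], [2, 4, 2, 4, 1, 3, 0, 0, 1], [4, 2, 4, 2, 1, 3, 0, 0, 1], [3, 4, 2, 3, 1, 3, 0, 1], [4, 0, 2, 4, 1, 2, 0, 1], [1, 3, 4, 0, 2, 1], [0, 1, 2, 3, 4, 0, 2, 1], [0, 1, 2, 3, 4, 2, 1, 3, 0, 1], [3, 2, 4, 1, 0, 2, 3, 1], [1, 3, 4, 1, 2, 1], [0, 0, 1, 2, 4, 2, 0, 1], [3, 4, 1, 2, 3, 1], [3, 4, 0, 2, 3, 1], [1, 3, 4, 2, 1, 3, 0, 1], [1, 2, 0, 1, 3, 4, 2, 0, 1], [3, 2, 3, 4, 0, 1, 0, 2, 1], [5, 3, 2, 3, 4, 0, 1, 0, 2, 1], [1, 3, 1, 0, 1, 3, 4, 2, 1], [2, 1, 3, 4, 0, 1, 0, 2, 1], [4, 2, 4, 1, 2, 0, 1, 3, 1], [3,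 0, 1, 3, 4, 0, 1, 2, 1], [4, 2, 4, 1, 3, 0, 0, 1], [3, 0, 1, 3, 4, 2, 0, 1], [0, 1, 0, 2, 4, 1, 2, 0, 1], [4, 2, 4, 0, 1, 0, 2, 1], [2, 1, 3, 4, 0, 2, 1], [4, 1, 0, 2, 3, 5, 3, 1], [3, 4, 1, 2, 4, 1, 2, 0, 1], [1, 0, 2, 1, 3, 4, 1, 2, 1], [2, 1, 3, 4, 1, 2, 1], [0, 1, 2, 4, 1, 2, 0, 1], [3, 0, 0, 1, 2, 4, 2, 1], [1, 0, 2, 1, 3, 4, 0, 2, 1], [4, 2, 3, 5, 3, 1], [3, 2, 3, 4, 0, 2, 1], [3, 4, 3, 0, 1, 0, 2, 1], [5, 3, 4, 3, 0, 1, 0, 2, 1], [5, 3, 4, 0, 1, 0, 2, 1], [5, 0, 1, 2, 4, 2, 1, 3, 0, 1], [3, 4, 0, 1, 0, 2, 1], [0, 1, 2, 4, 2, 1, 3, 0, 1], [1, 2, 4, 2, 4, 1, 3, 0, 0, 1], [4, 0, 2, 3, 4, 1, 2, 0, 1], [0, 1, 2, 4, 0, 2, 1], [4, 1, 0, 2, 4, 1, 2, 0, 1], [3, 4, 2, 1,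 3, 0, 1], [1, 3, 2, 4, 1, 0, 2, 3, 1], [3, 4, 0, 2, 1], [3, 4, 1, 2, 1], [3, 2, 1, 3, 4, 2, 1], [2, 0, 1, 3, 4, 0, 1, 2, 1], [1, 3, 4, 0, 2, 3, 1], [0, 1, 2, 4, 1, 2, 1], [2, 0, 1, 3, 4, 2, 0, 1], [0, 0, 1, 2, 3, 4, 2, 0, 1], [3, 2, 3, 4, 1, 0, 2, 1], [5, 3, 2, 3, 4, 1, 0, 2, 1], [5, 3, 2, 3, 4, 3, 1, 0, 2, 1], [3, 2, 3, 4, 3, 1, 0, 2, 1], [3, 1, 0, 1, 3, 4, 2, 1], [3, 1, 0, 2, 4, 1, 2, 1], [4, 2, 1, 0, 2, 4, 3, 1], [4, 2, 4, 1, 3, 0, 1, 2], [2, 0, 1, 2, 4, 2, 0, 1], [4, 2, 4, 1, 0, 2, 1], [3, 1, 2, 4, 1, 0, 2, 1], [0, 2, 1, 3, 4, 0, 2, 1], [1, 3, 2, 3, 4, 0, 2, 1], [3, 1, 2, 4, 3, 1, 0, 2, 1], [3, 1, 2, 4, 2, 1], [4, 1, 2, 4, 0, 1, 0, 2, 1], [4, 3, 2, 4, 1, 0, 2, 3,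 1], [0, 2, 1, 3, 4, 1, 2, 1], [3, 2, 3, 4, 2, 1], [4, 0, 2, 3, 5, 3, 1], [1, 3, 4, 1, 0, 2, 3, 1], [5, 1, 3, 4, 1, 0, 2, 3, 1], [3, 4, 1, 0, 2, 3, 5, 3, 1], [5, 2, 3, 4, 0, 1, 0, 2, 1], [1, 3, 4, 3, 1, 0, 2, 3, 1], [2, 3, 4, 0, 1, 0, 2, 1], [3, 4, 2, 4, 0, 1, 0, 2, 1], [2, 4, 0, 2, 3, 4, 1, 2, 0, 1], [3, 4, 2, 4, 1, 3, 0, 0, 1], [4, 1, 2, 4, 1, 2, 0, 1], [1, 3, 4, 2, 3, 1], [2, 3, 4, 0, 2, 1], [2, 3, 4, 1, 2, 1], [2, 3, 4, 2, 1, 3, 0, 1], [0, 1, 3, 4, 0, 1, 2, 1], [3, 2, 1, 3, 4, 0, 2, 1], [1, 3, 2, 4, 0, 2, 3, 1], [0, 0, 1, 2, 4, 2, 1], [0, 1, 3, 4, 2, 0, 1], [3, 0, 1, 2, 4, 1, 2, 0, 1], [3, 4, 1, 0, 2, 3, 1], [5, 3, 4, 1, 0, 2, 3, 1], [3, 1, 3, 1, 3, 4, 0, 2, 1], [3,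 4, 3, 1, 0, 2, 3, 1], [0, 2, 3, 1, 3, 4, 2, 0, 1], [1, 2, 3, 4, 0, 1, 0, 2, 1], [2, 4, 2, 1, 0, 2, 4, 3, 1], [2, 4, 2, 4, 1, 3, 0, 1, 2], [0, 1, 2, 4, 2, 0, 1], [4, 2, 4, 1, 2, 0, 1], [1, 2, 3, 4, 0, 2, 1], [1, 2, 3, 4, 2, 1, 3, 0, 1], [1, 0, 1, 3, 4, 2, 0, 1], [1, 3, 2, 1, 3, 4, 0, 2, 1], [1, 2, 3, 4, 1, 2, 1], [0, 1, 2, 4, 0, 1, 2, 1], [0, 0, 1, 3, 4, 1, 2, 1], [3, 4, 2, 3, 1], [3, 2, 4, 0, 2, 3, 1], [4, 2, 4, 3, 5, 3, 1, 2, 0, 1], [3, 4, 3, 1, 0, 2, 1], [5, 3, 4, 3, 1, 0, 2, 1], [5, 3, 4, 1, 0, 2, 1], [5, 1, 2, 4, 2, 1, 3, 0, 1], [3, 4, 1, 0, 2, 1], [1, 2, 4, 2, 1, 3, 0, 1], [5, 4, 2, 3, 4, 1, 2, 0, 1], [4, 2, 3, 4, 1, 2, 0, 1], [0, 2, 1, 3, 4, 0, 1, 2, 1], [0, 2,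 1, 3, 4, 2, 0, 1], [3, 4, 2, 0, 1, 2], [3, 4, 2, 1], [1, 2, 4, 0, 1, 0, 2, 1], [1, 2, 4, 0, 2, 1], [3, 2, 0, 1, 3, 4, 2, 1], [3, 4, 2, 0, 1, 3, 0, 1], [0, 1, 2, 3, 4, 2, 0, 1], [1, 2, 4, 1, 2, 1], [4, 3, 0, 1, 2, 4, 1, 0, 2, 1], [3, 5, 4, 2, 0, 1, 3, 0, 1], [1, 3, 4, 3, 1, 0, 2, 1], [3, 5, 4, 1, 0, 2, 3, 1], [5, 1, 3, 4, 1, 0, 2, 1], [1, 3, 4, 1, 0, 2, 1], [5, 2, 4, 2, 1, 3, 0, 1], [2, 4, 2, 1, 3, 0, 1], [2, 4, 1, 2, 0, 1, 3, 0, 1], [4, 1, 2, 3, 4, 1, 2, 0, 1], [2, 4, 1, 2, 1], [2, 4, 0, 2, 1], [4, 3, 2, 4, 1, 2, 3, 0, 1], [1, 0, 2, 1, 3, 4, 2, 0, 1], [2, 4, 0, 1, 0, 2, 1], [1, 3, 4, 2, 0, 1, 3, 0, 1], [0, 1, 3, 2, 4, 2, 3, 0, 1], [3, 4, 2, 4, 1, 3, 0, 1], [0, 0, 1, 2,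 3, 4, 2, 1], [1, 3, 4, 2, 0, 1, 2], [1, 3, 4, 2, 1], [3, 4, 2, 3, 4, 0, 1, 0, 2, 1], [4, 3, 0, 2, 4, 1, 2, 0, 1], [4, 0, 2, 4, 1, 2, 3, 0, 1], [5, 4, 3, 0, 1, 0, 2, 1], [4, 3, 0, 1, 0, 2, 1], [5, 4, 2, 1, 3, 0, 1], [4, 2, 1, 3, 0, 1], [4, 1, 2, 0, 1, 3, 0, 1], [5, 4, 1, 2, 0, 1, 3, 0, 1], [4, 1, 2, 1], [4, 0, 2, 1], [2, 4, 3, 2, 4, 1, 2, 3, 0, 1], [1, 2, 0, 1, 3, 4, 2, 1], [4, 0, 1, 0, 2, 1], [2, 1, 3, 4, 2, 0, 1, 2], [3, 2, 0, 1, 3, 4, 2, 0, 1], [4, 0, 2, 1, 3, 4, 2, 0, 1], [4, 2, 1, 3, 5, 3, 0, 1], [4, 2, 1, 3, 4, 0, 1, 2, 1], [2, 1, 3, 4, 2, 1], [3, 4, 0, 2, 3, 4, 1, 2, 0, 1], [4, 3, 2, 4, 1, 2, 0, 1], [4, 2, 4, 1, 2, 3, 0, 1], [5, 4, 3, 1, 0, 2, 1], [4, 3, 1, 0, 2,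 1], [5, 3, 1, 2, 4, 0, 2, 1], [3, 1, 2, 4, 0, 2, 1], [4, 2, 0, 1, 3, 0, 1], [5, 4, 2, 0, 1, 3, 0, 1], [4, 2, 1], [4, 2, 0, 1, 2], [3, 5, 4, 2, 3, 4, 1, 2, 0, 1], [4, 3, 5, 3, 1, 0, 2, 1], [2, 0, 1, 3, 4, 2, 0, 1, 2], [4, 1, 0, 2, 1], [3, 0, 2, 1, 3, 4, 2, 0, 1], [0, 1, 3, 2, 4, 1, 2, 3, 0, 1], [2, 0, 1, 3, 4, 2, 1], [4, 2, 1, 3, 4, 2, 0, 1], [3, 4, 2, 3, 4, 1, 2, 0, 1], [3, 1, 2, 4, 1, 2, 1], [4, 2, 4, 3, 1, 0, 2, 1], [3, 1, 3, 2, 4, 0, 2, 1], [5, 2, 4, 3, 1, 0, 2, 1], [2, 4, 3, 1, 0, 2, 1], [5, 1, 2, 3, 4, 1, 0, 2, 1], [1, 2, 3, 4, 1, 0, 2, 1], [2, 4, 2, 0, 1, 3, 0, 1], [5, 2, 4, 2, 0, 1, 3, 0, 1], [2, 4, 2, 1], [0, 2, 4, 1, 2, 1], [4, 1, 3, 2, 1, 3, 4, 2, 0, 1], [2,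 4, 3, 5, 3, 1, 0, 2, 1], [2, 4, 1, 0, 2, 1], [0, 0, 1, 3, 2, 4, 2, 3, 0, 1], [1, 0, 2, 3, 4, 1, 2, 1], [0, 1, 3, 4, 2, 0, 1, 2], [0, 1, 3, 4, 2, 1], [1, 0, 1, 3, 4, 2, 3, 1], [3, 4, 2, 3, 4, 1, 0, 2, 1], [1, 2, 3, 4, 2, 1], [2, 3, 4, 3, 1, 0, 2, 1], [5, 2, 3, 4, 3, 1, 0, 2, 1], [5, 1, 2, 4, 3, 1, 0, 2, 1], [5, 2, 3, 4, 1, 0, 2, 1], [1, 2, 4, 3, 1, 0, 2, 1], [2, 3, 4, 1, 0, 2, 1], [3, 4, 2, 4, 1, 0, 2, 1], [2, 4, 2, 3, 4, 1, 2, 0, 1], [4, 3, 2, 1, 3, 4, 2, 0, 1], [0, 1, 3, 4, 2, 3, 1], [1, 2, 4, 1, 0, 2, 1], [1, 0, 2, 4, 1, 2, 1], [0, 2, 3, 4, 1, 2, 1], [2, 3, 4, 2, 1], [0, 0, 1, 3, 4, 0, 1, 2, 1], [3, 2, 0, 1, 2, 4, 2, 0, 1], [1, 0, 1, 3, 4, 2, 1], [1, 2, 4, 2, 1], [0,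 1, 3, 2, 4, 0, 2, 3, 1], [4, 2, 0, 1, 3, 4, 0, 2, 1], [0, 2, 3, 4, 3, 1, 0, 2, 1], [5, 0, 2, 3, 4, 3, 1, 0, 2, 1], [5, 1, 3, 4, 1, 0, 1, 2, 0, 1], [5, 0, 2, 3, 4, 1, 0, 2, 1], [1, 3, 4, 1, 0, 1, 2, 0, 1], [0, 2, 3, 4, 1, 0, 2, 1], [5, 3, 1, 2, 4, 0, 1, 2, 0, 1], [3, 1, 2, 4, 0, 1, 2, 0, 1], [0, 1, 2, 4, 2, 1], [0, 0, 1, 3, 4, 2, 3, 1], [4, 2, 1, 3, 4, 0, 2, 1], [1, 3, 4, 0, 1, 2, 1], [0, 1, 2, 4, 1, 0, 2, 1], [0, 1, 0, 2, 4, 1, 2, 1], [3, 1, 0, 2, 4, 1, 2, 0, 1], [2, 3, 4, 0, 1, 2, 1], [2, 3, 4, 2, 0, 1], [1, 3, 4, 2, 0, 1], [1, 3, 0, 2, 1, 3, 4, 2, 1], [3, 1, 2, 4, 1, 2, 0, 1], [3, 4, 3, 1, 0, 1, 2, 0, 1], [5, 3, 4, 3, 1, 0, 1, 2, 0, 1], [5, 3, 4, 1, 0, 1, 2, 0, 1],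 [3, 4, 2, 4, 0, 1, 2, 3, 0, 1], [3, 4, 1, 0, 1, 2, 0, 1], [2, 1, 3, 4, 1, 0, 1, 2, 0, 1], [4, 2, 3, 4, 0, 1, 2, 0, 1], [1, 0, 2, 3, 4, 1, 0, 2, 1], [2, 0, 1, 2, 4, 2, 1], [3, 0, 2, 1, 3, 4, 2, 1], [4, 3, 1, 2, 4, 1, 0, 2, 1], [3, 4, 2, 0, 1], [3, 4, 0, 1, 2, 1], [1, 0, 1, 2, 4, 1, 0, 2, 1], [2, 1, 3, 4, 2, 0, 1], [1, 0, 1, 2, 4, 2, 1], [2, 1, 3, 4, 0, 1, 2, 1], [3, 4, 0, 2, 1, 3, 0, 1], [1, 2, 3, 4, 2, 0, 1], [0, 1, 3, 4, 0, 2, 3, 1], [5, 3, 2, 3, 4, 0, 1, 2, 0, 1], [5, 3, 4, 0, 1, 2, 3, 0, 1], [4, 0, 2, 4, 1, 0, 2, 3, 1], [3, 1, 3, 0, 2, 4, 1, 0, 2, 1], [3, 5, 4, 0, 1, 2, 3, 0, 1], [4, 1, 0, 2, 4, 1, 0, 2, 3, 1], [3, 5, 4, 1, 2, 3, 0, 1], [2, 3, 5, 4, 1, 2, 3, 0, 1],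 [1, 3, 5, 4, 1, 2, 3, 0, 1], [4, 2, 4, 1, 0, 2, 3, 1], [1, 3, 1, 3, 2, 4, 2, 0, 1], [3, 1, 3, 2, 4, 2, 0, 1], [5, 2, 3, 4, 3, 1, 2, 0, 1], [5, 3, 1, 2, 4, 2, 3, 0, 1], [5, 3, 0, 2, 3, 4, 1, 2, 0, 1], [5, 3, 2, 3, 4, 1, 2, 0, 1], [5, 3, 4, 1, 2, 3, 0, 1], [5, 3, 4, 3, 1, 2, 0, 1], [5, 3, 4, 3, 0, 1, 2, 0, 1], [5, 1, 3, 4, 3, 0, 1, 2, 0, 1], [5, 2, 4, 2, 1, 0, 1, 3, 1], [4, 1, 2, 4, 1, 3, 0, 1], [2, 4, 2, 4, 1, 3, 0, 1], [4, 2, 3, 4, 1, 0, 2, 1], [5, 4, 1, 2, 1, 0, 1, 3, 1], [5, 3, 4, 0, 2, 4, 1, 2, 0, 1], [1, 3, 2, 4, 2, 1, 3, 0, 1], [3, 2, 4, 3, 1, 0, 2, 1], [4, 0, 2, 4, 1, 3, 0, 1], [5, 4, 2, 3, 1, 3, 0, 1], [3, 1, 2, 3, 4, 1, 0, 2, 1], [3, 5, 2, 4, 3, 1, 0, 2, 1], [2,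 1, 3, 0, 1, 3, 4, 2, 1], [3, 4, 2, 4, 3, 1, 0, 2, 1], [3, 0, 1, 3, 4, 2, 1], [3, 2, 4, 1, 0, 2, 1], [1, 3, 2, 4, 0, 2, 1], [3, 2, 4, 2, 1], [5, 4, 0, 2, 3, 1], [1, 3, 1, 3, 4, 2, 1], [4, 2, 4, 2, 1, 3, 0, 1], [4, 1, 2, 1, 0, 1, 3, 1], [2, 4, 2, 1, 0, 1, 3, 1], [3, 4, 0, 2, 4, 1, 2, 0, 1], [3, 0, 0, 1, 2, 4, 2, 0, 1], [2, 3, 4, 2, 4, 1, 2, 0, 1], [2, 3, 0, 1, 2, 4, 2, 0, 1], [2, 4, 3, 1, 0, 2, 3, 1], [4, 2, 3, 1, 3, 0, 1], [3, 1, 3, 4, 0, 2, 1], [1, 2, 3, 1, 3, 4, 0, 2, 1], [4, 3, 0, 1, 0, 2, 3, 1], [3, 1, 3, 4, 1, 2, 1], [2, 4, 1, 0, 2, 3, 1], [4, 0, 1, 0, 2, 4, 1, 3, 1], [2, 4, 1, 0, 2, 4, 1, 3, 1], [4, 0, 1, 0, 2, 3, 1], [4, 1, 2, 3, 1], [4, 0, 2, 3, 1], [4, 0, 2, 4,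 1, 3, 1], [2, 4, 1, 2, 4, 1, 3, 0, 1], [5, 4, 2, 1, 0, 1, 3, 1], [3, 4, 1, 2, 3, 4, 1, 2, 0, 1], [4, 2, 3, 4, 0, 1, 0, 2, 1], [4, 2, 4, 1, 3, 0, 1], [5, 3, 4, 2, 4, 1, 2, 0, 1], [1, 3, 2, 4, 3, 1, 0, 2, 1], [3, 2, 4, 2, 1, 3, 0, 1], [4, 3, 5, 1, 0, 2, 3, 1], [3, 1, 3, 4, 1, 0, 2, 1], [3, 5, 2, 4, 2, 1, 3, 0, 1], [3, 1, 3, 4, 2, 0, 1, 2], [3, 1, 3, 4, 2, 1], [5, 4, 3, 2, 3, 4, 1, 2, 0, 1], [5, 4, 1, 0, 2, 3, 1], [3, 2, 4, 0, 1, 0, 2, 1], [1, 3, 0, 1, 3, 4, 2, 1], [2, 3, 0, 1, 3, 4, 2, 1], [5, 4, 2, 3, 1], [3, 2, 4, 0, 2, 1], [2, 4, 1, 2, 1, 0, 1, 3, 1], [5, 4, 2, 4, 1, 3, 0, 1], [0, 1, 2, 3, 4, 1, 2, 0, 1], [3, 4, 2, 4, 1, 2, 0, 1], [4, 2, 1, 0, 1, 3, 1], [1, 2, 4, 2,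 1, 0, 1, 3, 1], [3, 0, 1, 2, 4, 2, 0, 1], [2, 4, 2, 3, 1, 3, 0, 1], [4, 3, 1, 0, 2, 3, 1], [1, 3, 1, 3, 4, 0, 2, 1], [2, 3, 1, 3, 4, 0, 2, 1], [3, 1, 2, 3, 4, 0, 2, 1], [4, 1, 0, 2, 4, 1, 3, 1], [2, 4, 0, 1, 0, 2, 3, 1], [4, 3, 2, 3, 4, 1, 2, 0, 1], [2, 4, 0, 2, 4, 1, 3, 1], [4, 1, 0, 2, 3, 1], [4, 2, 3, 1], [2, 4, 0, 2, 3, 1], [4, 2, 4, 1, 3, 1], [4, 3, 0, 2, 4, 1, 0, 2, 1], [4, 2, 4, 3, 0, 1, 2, 0, 1], [3, 2, 3, 4, 0, 1, 2, 0, 1], [4, 1, 3, 0, 2, 4, 1, 0, 2, 1], [3, 4, 0, 1, 2, 3, 0, 1], [1, 3, 2, 3, 4, 0, 1, 2, 0, 1], [3, 4, 1, 2, 3, 0, 1], [3, 2, 3, 4, 1, 2, 0, 1], [3, 4, 3, 1, 2, 0, 1], [3, 0, 2, 3, 4, 1, 2, 0, 1], [2, 3, 4, 3, 1, 2, 0, 1], [3, 1, 2, 4, 2, 3, 0,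 1], [3, 4, 3, 1, 0, 1, 2, 1], [4, 2, 4, 3, 1, 2, 0, 1], [4, 3, 2, 4, 1, 0, 2, 1], [4, 3, 2, 4, 0, 1, 0, 2, 1], [4, 0, 2, 4, 3, 1, 2, 0, 1], [0, 2, 3, 4, 3, 1, 2, 0, 1], [1, 3, 4, 3, 0, 1, 2, 0, 1], [3, 4, 3, 0, 1, 2, 0, 1]] 1 960 = true :=
  by decide +kernel

theorem levL_1 : levC val X.I 33554431 [[17]] [19] [[22], [17], [21], [10], [20, 21, 20], [20, 22, 20]] [[5, 0, 2], [3, 2], [0, 5, 2], [2], [2, 1, 1], [0, 5, 2, 1], [0, 2, 1, 1], [0, 5, 2, 1, 1], [3, 0, 2, 1], [2, 1], [0, 2, 1], [3, 2, 1], [5, 0, 2, 1, 1], [5, 0, 2, 1], [3, 2, 1, 1], [3, 0, 2, 1, 1], [3, 0, 2], [0, 2], [], [4, 0, 5, 2], [4, 5, 0, 2], [2, 3, 2, 1], [1, 1], [1], [4, 0, 5, 2, 1], [4, 0, 5, 2, 1, 1],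 [4, 5, 0, 2, 1, 1], [2, 3, 2], [4, 5, 0, 2, 1], [2, 3, 2, 1, 1], [4, 2, 5], [5], [4, 5, 2], [2, 5, 2], [2, 5], [5, 2], [2, 5, 2, 1, 1], [4, 5, 2, 1], [4, 2, 5, 2, 1, 1], [4, 5, 2, 1, 1], [4, 5, 1], [2, 5, 2, 1], [4, 2, 5, 2, 1], [5, 1], [4, 2, 5, 1, 1], [4, 2, 5, 1], [5, 1, 1], [4, 5, 1, 1], [4, 5], [4, 2, 5, 2], [2, 5, 1, 1], [5, 2, 1, 1], [2, 5, 1], [5, 2, 1]] 960 51840 = true :=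
  by decide +kernel

theorem levL_2 : levC val X.I 33554431 [[19], [17]] [20] [[22], [10], [20, 21, 20], [21, 20, 21, 20, 21]] [[1, 2], [2], [], [2, 1, 2], [0], [3, 2, 0], [2, 0], [3, 0]] 51840 414720 = true :=
  by decide +kernel

theorem levL {G : Type*} [Group G] [Finite G] {t : ℕ → G × _} (o : Ov t m val X.I) (h : Gr (genOn t 33554431)) :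
    Lev t 33554431 [[20], [19], [17]] 414720 :=
  (((lev_nil t 33554431).step o h levL_0).step o h levL_1).step o h levL_2

theorem k1 : centC val 33554431 [[20], [19], [17]] [[15], [10]] [[0], [1, 0, 1], [], [1, 0, 1, 0], [1, 0], [0, 1], [0, 1, 0], [1]] 414720 3317760 = true :=
  by decide +kernel

theorem k2 : kstC val X.I [66028544, 62913536, 33554431] [16] [15] [10] [25] [21, 20, 21, 22, 10, 21, 20, 22, 21] [[20], [19], [17]] [([], [21, 20, 21, 22, 10, 21, 20, 22, 21, 21, 20, 21, 22, 10, 21, 20, 22, 21, 16]), ([25, 16], [21, 22, 20, 21, 10, 22, 21, 20, 21, 21, 22, 20, 21, 10, 22, 21, 20, 21, 16]), ([], [16, 25, 16, 15, 25])] [[([], [20, 21, 20, 21, 22, 10, 21, 20,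 22, 21, 20, 21, 22, 20, 21, 10, 22, 21, 20, 21]), ([25, 20, 21, 22, 20, 21, 10, 22, 21, 20, 21], [21, 22, 20, 21, 10, 22, 21, 20, 21, 20, 21, 20, 21, 22, 10, 21, 20, 22, 21, 20]), ([21, 22, 20, 21, 10, 22, 21, 20, 21], [20, 25, 20, 25])], [([], [19, 21, 20, 21, 22, 10, 21, 20, 22, 21, 19, 20, 19, 21, 22, 20, 21, 10, 22, 21, 20, 21]), ([25, 19, 20, 19, 21, 22, 20, 21, 10, 22, 21, 20, 21], [21, 22, 20, 21, 10, 22, 21, 20, 21, 19, 21, 20, 21, 22, 10, 21, 20, 22, 21, 19, 20, 19]), ([21, 22, 20, 21, 10, 22, 21, 20, 21], [19, 20, 19, 25, 19, 20, 19, 25])], [([], [17, 21, 20, 21, 22, 10, 21, 20, 22, 21, 18, 21, 22, 20, 21, 10, 22, 21, 20, 21]), ([25, 18, 21, 22, 20, 21, 10,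 22, 21, 20, 21], [21, 22, 20, 21, 10, 22, 21, 20, 21, 18, 21, 20, 21, 22, 10, 21, 20, 22, 21, 17]), ([21, 22, 20, 21, 10, 22, 21, 20, 21], [17, 25, 18, 25])]] = true :=
  by decide +kernel

noncomputable def Krel : List ℕ := powW (appendL [25] (cj X.I [21, 20, 21, 22, 10, 21, 20, 22, 21] [25])) 5

theorem stK {G : Type*} [Group G] [Finite G] {z : G} {t : ℕ → G × Cfsg.Spor.Suz}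
    (h : StB z t [66028544, 62913536, 33554431] []) : StB z t [66028544, 62913536, 33554431] [Krel] := by
  obtain ⟨o, hC, Q, P, R, c⟩ := h
  exact ⟨o.addK (c.kstep o (levL o.toOv c.gr) hC k1 k2), hC, Q, P, R, c⟩

end Cfsg.Agent.XSC.SuzU
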