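import Cfsg.Agent.XSC.SuzA
import Cfsg.Agent.XSC.Steps3

set_option autoImplicit false
set_option Elab.async false
set_option maxRecDepth 100000

namespace Cfsg.Agent.XSC.SuzU

open Cfsg.Agent.Comp.BN Cfsg.Agent.Spor Cfsg.Agent.TT Cfsg.Agent.LES Subgroup

def PW : Pres := ⟨[1, 0, 2, 3, 4, 5, 6, 7, 8, 9, 10, 11, 12],
  [[0, 0, 0],
   [0, 2, 1, 2],
   [0, 3, 1, 3],
   [0, 4, 1, 4],
   [0, 5, 1, 5],
   [0, 6, 1, 6],
   [0, 7, 1, 7],
   [0, 8, 1, 8],
   [0, 12, 1, 12],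
   [2, 5, 2, 5],
   [2, 6, 2, 6],
   [2, 9, 2, 10],
   [2, 12, 2, 12],
   [3, 4, 3, 4],
   [3, 5, 3, 5],
   [3, 8, 3, 8],
   [3, 9, 3, 9],
   [4, 5, 4, 5],
   [4, 8, 4, 8],
   [4, 9, 4, 9],
   [4, 10, 4, 11],
   [6, 12, 6, 12],
   [7, 12, 7, 12],
   [9, 12, 9, 12],
   [10, 12, 10, 12],
   [2, 6, 7, 2, 7],
   [3, 7, 3, 7, 8],
   [4, 5, 6, 4, 6],
   [5, 6, 12, 5, 12],
   [2, 3, 2, 3, 2, 3],
   [2, 5, 6, 8, 2, 8],
   [3, 5, 6, 8, 3, 6],
   [4, 5, 7, 8, 4, 7],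
   [4, 12, 4, 12, 4, 12],
   [6, 7, 8, 12, 8, 12],
   [2, 5, 10, 9, 11, 2, 11],
   [5, 10, 9, 11, 12, 11, 12],
   [2, 3, 2, 3, 2, 4, 3, 4],
   [2, 4, 2, 4, 2, 4, 2, 4],
   [2, 4, 12, 4, 12, 4, 2, 12],
   [2, 3, 2, 4, 2, 3, 4, 2, 4],
   [2, 3, 4, 2, 3, 4, 2, 4, 3],
   [2, 4, 2, 4, 12, 4, 2, 4, 12],
   [0, 3, 11, 3, 7, 9, 11, 1, 11, 10],
   [0, 10, 11, 1, 3, 10, 3, 7, 11, 9],
   [3, 12, 3, 12, 3, 12, 3, 12, 3, 12],
   [0, 2, 3, 12, 3, 4, 2, 12, 3, 12, 4, 3, 12, 0, 2, 3, 12, 3, 4, 2, 12, 3, 12, 4, 3, 12]]⟩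

noncomputable def sAW_t : FT := (.node (.node (.node (.node (.node (.node (.node (.leaf (nat_lit 0x300000000008d000000000001000000)) (.leaf (nat_lit 0xfd0000b10000ba00000100002400004000000300002f))) (.node (.leaf (nat_lit 0x7d00003600003e000001000027000020000004000010)) (.leaf (nat_lit 0x13a00017900017600000000008d00003d00000000005c)))) (.node (.node (.leaf (nat_lit 0x3d00003900003e000003000009000010000001000010)) (.leaf (nat_lit 0x13d0000e50000ea00000100002700005000000400003b))) (.leaf (nat_lit 0xbd00007500001d00001100000900001200001e0000760000be00000000008700003000000d000030)))) (.node (.node (.node (.leaf (nat_lit 0x1d00001500001e000003000006000008000001000008)) (.leaf (nat_lit 0x49000004000033))) (.node (.leaf (nat_lit 0x29000005000012)) (.leaf (nat_lit 0x7600019d00004600000000008d000008000000000012)))) (.node (.node (.leaf (nat_lit 0x5d00001100000d00001200005e00000000006300001800000d000018)) (.leaf (nat_lit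 0xaa00015d00000000008d000016000003000016))) (.leaf (nat_lit 0xdd00009100003e0000460000a200000000006300003800000d000029))))) (.node (.node (.node (.node (.leaf (nat_lit 0x500000d000000)) (.leaf (nat_lit 0x4500000500002f))) (.node (.leaf (nat_lit 0x2500000d00000e)) (.leaf (nat_lit 0x12d00018d0000a100004e00005600005a00016200008a00005500004d0000a20000f200018a0001090000b900006d00001d00001100000200000500000900001200001e00006e0000b20000fe00000500008b00004b000000000040)))) (.node (.node (.leaf (nat_lit 0x4d00004900004e000003000006000014000001000014)) (.leaf (nat_lit 0xf900014d00009900000000008d00003e000000000012))) (.leaf (nat_lit 0x35000004000024)))) (.node (.node (.node (.leaf (nat_lit 0x2d00002900002e00000300001800000c00000100000c)) (.leaf (nat_lit 0x4d00000d000037))) (.leaf (nat_lit 0x2d00000300001c))) (.node (.node (.leaf (nat_lit 0x6d00001d00005e00000100002700001c000004000018)) (.leaf (nat_lit 0x16d0000f10000a100009a0001550000990000a20000f200000700007800005c00000500003d)))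 (.leaf (nat_lit 0x3d000003000029)))))) (.node (.node (.node (.node (.node (.leaf (nat_lit 0xf00000000008d000000000004000000)) (.leaf (nat_lit 0x4300000400002f))) (.node (.leaf (nat_lit 0x5500004d00004500008200008600008100004600004e000056000001000087000016000004000016)) (.leaf (nat_lit 0x17600018200000000008d00004300000d00003d)))) (.node (.node (.leaf (nat_lit 0x45000041000046000003000018000012000001000012)) (.leaf (nat_lit 0x13e0001450001190000c200011a00014600013d00012600000000007e00003a00000d000049))) (.leaf (nat_lit 0x33000003000020)))) (.node (.node (.node (.leaf (nat_lit 0x2500002100002600000300000300000a00000100000a)) (.leaf (nat_lit 0x4b000005000035))) (.leaf (nat_lit 0x2b000003000016))) (.node (.node (.leaf (nat_lit 0x2500001d00001a00005e00006600005d00001e00002600000400007800000a00000500000a)) (.leaf (nat_lit 0x16500014200014500011d00011600011100010a00000600006f00005a000005000043))) (.leaf (nat_lit 0x3b000005000026)))))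 (.node (.node (.node (.node (.leaf (nat_lit 0x11000005000012000001000024000005000003000005)) (.leaf (nat_lit 0x47000005000030))) (.node (.leaf (nat_lit 0x27000003000012)) (.leaf (nat_lit 0xd60001950000c900000000008d000030000000000020)))) (.node (.node (.leaf (nat_lit 0x55000051000056000003000018000016000001000016)) (.leaf (nat_lit 0xf600015100004e00000000008d00002a000000000014))) (.leaf (nat_lit 0x37000005000024)))) (.node (.node (.node (.leaf (nat_lit 0x3500003100003600000300000600000e00000100000e)) (.leaf (nat_lit 0x1350000e10000f200000000002400004e00000d00003d))) (.leaf (nat_lit 0x2f00000d00001c))) (.node (.node (.leaf (nat_lit 0x7500002600002e00000100002400001e00000300000c)) (.leaf (nat_lit 0x13900016e0001750001090000b90000710000610000720000ba00010a00000000008700004e000000000043))) (.leaf (nat_lit 0xf50000a500004d00009a0000ee00000100005700003e00000300003c))))))) (.node (.node (.node (.node (.node (.node (.leaf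 (nat_lit 0xb00000000008d000000000003000000)) (.leaf (nat_lit 0xfd0000b50000b100006d00002600002e00007e0000ca00000600007e000040000005000033))) (.node (.leaf (nat_lit 0x7d00002d00006900002e00007e00000000006300002000000d000020)) (.leaf (nat_lit 0xe200017d00013200000000008d00002900000000004d)))) (.node (.node (.leaf (nat_lit 0x1200000d000010)) (.leaf (nat_lit 0x13d0001260001210000c900007d00007a0000c600011e000005000078000050000003000047))) (.leaf (nat_lit 0x3200000500001e)))) (.node (.node (.node (.leaf (nat_lit 0xa000003000008)) (.leaf (nat_lit 0x1210000c90000810000960000e600000100005700004900000300003a))) (.node (.leaf (nat_lit 0x2a000003000014)) (.leaf (nat_lit 0x460001a200000000008d00001000000d000008)))) (.node (.node (.leaf (nat_lit 0x5d00001900001100000d00000500000d00001200005e00000300007e000018000003000018)) (.leaf (nat_lit 0x5a00000300003b))) (.leaf (nat_lit 0x3a000004000026))))) (.node (.node (.node (.node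 (.leaf (nat_lit 0x11000001000012000003000018000005000001000005)) (.leaf (nat_lit 0x1110001020001050000c900007d00007a0000c6000001000072000045000003000032))) (.node (.leaf (nat_lit 0x26000003000010)) (.leaf (nat_lit 0x12a00019100010500000000008d000035000000000033)))) (.node (.node (.leaf (nat_lit 0x1600000d000014)) (.leaf (nat_lit 0xee00014d00000000008d000027000004000027))) (.leaf (nat_lit 0xd100008d00003500007a0000be000001000057000035000003000030)))) (.node (.node (.node (.leaf (nat_lit 0xe00000400000c)) (.leaf (nat_lit 0x4e000003000038))) (.leaf (nat_lit 0xb100006d00002600006900002500006e0000b200000000007200002d00000500002d))) (.node (.node (.leaf (nat_lit 0x1e00000d000008)) (.leaf (nat_lit 0x1710000f10000a100009a00009d0000ea00016600016900000500007e00005c00000d000043))) (.leaf (nat_lit 0x3e00000400002a)))))) (.node (.node (.node (.node (.node (.leaf (nat_lit 0x1300000000008d000000000005000000)) (.leaf (nat_lit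 0x1090001020001050000c900007d00003600008e0000da000003000078000043000003000037))) (.node (.leaf (nat_lit 0x2400000300000e)) (.leaf (nat_lit 0x13200018600000000008d00003700000d000029)))) (.node (.node (.leaf (nat_lit 0x14000004000012)) (.leaf (nat_lit 0xed00009d0000e60001490001210000cd00012200014a0000e500009e00000100008700003c000000000027))) (.leaf (nat_lit 0xc90000850000ca00000000002400003300000d000033)))) (.node (.node (.node (.leaf (nat_lit 0xc00000d00000a)) (.leaf (nat_lit 0x1290000d10000da00000100002700004b000004000037))) (.leaf (nat_lit 0xa90000550000a600000000002400002b00000d00002a))) (.node (.node (.leaf (nat_lit 0x1c000005000008)) (.leaf (nat_lit 0x5c00000400003d))) (.leaf (nat_lit 0x3c000004000027))))) (.node (.node (.node (.node (.leaf (nat_lit 0x8000004000005)) (.leaf (nat_lit 0x1190000bd0000c6000001000027000047000004000032))) (.node (.leaf (nat_lit 0x9900004500009600000000002400002700000d000026)) (.leaf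 (nat_lit 0xbe00019900008100000000008d00001e000000000010)))) (.node (.node (.leaf (nat_lit 0x18000005000005)) (.leaf (nat_lit 0xad00015900005600000000008d00002b000000000016))) (.leaf (nat_lit 0x38000005000025)))) (.node (.node (.node (.leaf (nat_lit 0x1000000500000e)) (.leaf (nat_lit 0x5000000500003a))) (.leaf (nat_lit 0x3000000400001e))) (.node (.node (.leaf (nat_lit 0x2000000500000c)) (.leaf (nat_lit 0x13600017900010d00000000008d000038000000000037))) (.leaf (nat_lit 0x4000000d00002d))))))))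

theorem sAW_s0 : stepsC Cfsg.Agent.XSC.SuzU.PW [[0], [1], [2], [3], [4], [5], [6], [7], [8], [9], [10], [11]] sAW_t 106 0 = true :=
  by decide +kernel

theorem sAW_ok : SeqOK Cfsg.Agent.XSC.SuzU.PW [[0], [1], [2], [3], [4], [5], [6], [7], [8], [9], [10], [11]] sAW_t 106 :=
  (seqOK_zero Cfsg.Agent.XSC.SuzU.PW [[0], [1], [2], [3], [4], [5], [6], [7], [8], [9], [10], [11]] sAW_t).step 106 sAW_s0

theorem sAW_0 : InSub Cfsg.Agent.XSC.SuzU.PW [[0], [1], [2], [3], [4], [5], [6], [7], [8], [9], [10], [11]] [12, 3, 2, 12, 3, 4, 12, 3, 12] :=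
  sAW_ok.inSub (z := nat_lit 0x1200001e0001a600003d00003500002d00002500001d000011) (by decide +kernel)

namespace AW
noncomputable def net0 : Net := .nil

theorem ok0 : Net.ok 16 net0 = true :=
  by decide +kernel

noncomputable def net1 : Net := .nil

theorem ok1 : Net.ok 16 net1 = true :=
  by decide +kernel

noncomputable def m2_0 : ℕ := nat_lit 0x22

noncomputable def m2_1 : ℕ := nat_lit 0x202

noncomputable def m2_2 : ℕ := nat_lit 0x1310

noncomputable def m2_3 : ℕ := nat_lit 0x504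

noncomputable def m2_4 : ℕ := nat_lit 0x200

noncomputable def m2_5 : ℕ := nat_lit 0x22

noncomputable def net2 : Net := (.cons 8 m2_0 (.cons 4 m2_1 (.cons 2 m2_2 (.cons 1 m2_3 (.cons 4 m2_4 (.cons 8 m2_5 .nil))))))

theorem ok2 : Net.ok 16 net2 = true :=
  by decide +kernel

noncomputable def m3_0 : ℕ := nat_lit 0xe2

noncomputable def m3_1 : ℕ := nat_lit 0xc02

noncomputable def m3_2 : ℕ := nat_lit 0x1332

noncomputable def m3_3 : ℕ := nat_lit 0x1544

noncomputable def m3_4 : ℕ := nat_lit 0x22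

noncomputable def m3_5 : ℕ := nat_lit 0x800

noncomputable def m3_6 : ℕ := nat_lit 0x94

noncomputable def net3 : Net := (.cons 8 m3_0 (.cons 4 m3_1 (.cons 2 m3_2 (.cons 1 m3_3 (.cons 2 m3_4 (.cons 4 m3_5 (.cons 8 m3_6 .nil)))))))

theorem ok3 : Net.ok 16 net3 = true :=
  by decide +kernel

noncomputable def m4_0 : ℕ := nat_lit 0x14

noncomputable def m4_1 : ℕ := nat_lit 0x306

noncomputable def m4_2 : ℕ := nat_lit 0x1332

noncomputable def m4_3 : ℕ := nat_lit 0x1404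

noncomputable def m4_4 : ℕ := nat_lit 0x202

noncomputable def m4_5 : ℕ := nat_lit 0x406

noncomputable def m4_6 : ℕ := nat_lit 0x14

noncomputable def net4 : Net := (.cons 8 m4_0 (.cons 4 m4_1 (.cons 2 m4_2 (.cons 1 m4_3 (.cons 2 m4_4 (.cons 4 m4_5 (.cons 8 m4_6 .nil)))))))

theorem ok4 : Net.ok 16 net4 = true :=
  by decide +kernel

noncomputable def net5 : Net := .nil

theorem ok5 : Net.ok 16 net5 = true :=
  by decide +kernel

noncomputable def net6 : Net := .nil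

theorem ok6 : Net.ok 16 net6 = true :=
  by decide +kernel

noncomputable def net7 : Net := .nil

theorem ok7 : Net.ok 16 net7 = true :=
  by decide +kernel

noncomputable def net8 : Net := .nil

theorem ok8 : Net.ok 16 net8 = true :=
  by decide +kernel

noncomputable def net9 : Net := .nil

theorem ok9 : Net.ok 16 net9 = true :=
  by decide +kernel

noncomputable def net10 : Net := .nil

theorem ok10 : Net.ok 16 net10 = true :=
  by decide +kernel

noncomputable def net11 : Net := .nil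

theorem ok11 : Net.ok 16 net11 = true :=
  by decide +kernel

noncomputable def m12_0 : ℕ := nat_lit 0x20

noncomputable def m12_1 : ℕ := nat_lit 0x50c

noncomputable def m12_2 : ℕ := nat_lit 0x2020

noncomputable def m12_3 : ℕ := nat_lit 0x4411

noncomputable def m12_4 : ℕ := nat_lit 0x2020

noncomputable def m12_5 : ℕ := nat_lit 0x408

noncomputable def m12_6 : ℕ := nat_lit 0x20

noncomputable def net12 : Net := (.cons 8 m12_0 (.cons 4 m12_1 (.cons 2 m12_2 (.cons 1 m12_3 (.cons 2 m12_4 (.cons 4 m12_5 (.cons 8 m12_6 .nil)))))))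

theorem ok12 : Net.ok 16 net12 = true :=
  by decide +kernel

noncomputable def nets : List Net := [net0, net1, net2, net3, net4, net5, net6, net7, net8, net9, net10, net11, net12]

noncomputable def act : Act := netAct' nets
noncomputable def π : ℕ → Equiv.Perm ℕ := netPerm nets

theorem spec : act.Spec 16 π :=
  spec_fast (netAct_spec (AllP.forall (p := fun t => Net.ok 16 t = true) ⟨ok0, ok1, ok2, ok3, ok4, ok5, ok6, ok7, ok8, ok9, ok10, ok11, ok12, trivial⟩))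

theorem out : ∀ k, 13 ≤ k → π k = 1 :=
  netPerm_out nets

theorem sat_inv_0 : invC Cfsg.Agent.XSC.SuzU.AW.act Cfsg.Agent.XSC.SuzU.PW.I 16 4 Cfsg.Agent.XSC.SuzU.PW.inv.length [0, 1, 2, 3] = true :=
  by decide +kernel

theorem sat_inv : ∀ k, Cfsg.Agent.XSC.SuzU.AW.π (Cfsg.Agent.XSC.SuzU.PW.I k) * Cfsg.Agent.XSC.SuzU.AW.π k = 1 :=
  inv_of_checks Cfsg.Agent.XSC.SuzU.AW.spec (K := 4) (by decide) Cfsg.Agent.XSC.SuzU.AW.out [[0, 1, 2, 3]] (by decide) ⟨sat_inv_0, trivial⟩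

theorem sat_rel_0_0 : relsC Cfsg.Agent.XSC.SuzU.AW.act Cfsg.Agent.XSC.SuzU.PW.I 16 4 [[0, 0, 0], [0, 2, 1, 2], [0, 3, 1, 3], [0, 4, 1, 4], [0, 5, 1, 5], [0, 6, 1, 6], [0, 7, 1, 7], [0, 8, 1, 8], [0, 12, 1, 12], [2, 5, 2, 5], [2, 6, 2, 6], [2, 9, 2, 10], [2, 12, 2, 12], [3, 4, 3, 4], [3, 5, 3, 5], [3, 8, 3, 8], [3, 9, 3, 9], [4, 5, 4, 5], [4, 8, 4, 8], [4, 9, 4, 9], [4, 10, 4, 11], [6, 12, 6, 12], [7, 12, 7, 12], [9, 12, 9, 12], [10, 12, 10, 12], [2, 6, 7, 2, 7], [3, 7, 3, 7, 8], [4, 5, 6, 4, 6], [5, 6, 12, 5, 12], [2, 3, 2, 3, 2, 3], [2, 5, 6, 8, 2, 8], [3, 5, 6, 8, 3, 6], [4, 5, 7, 8, 4, 7], [4, 12, 4, 12, 4, 12], [6, 7, 8, 12, 8, 12], [2, 5, 10, 9, 11, 2, 11], [5, 10, 9, 11, 12, 11, 12], [2, 3, 2, 3, 2, 4, 3, 4], [2, 4, 2, 4, 2, 4, 2, 4], [2, 4, 12, 4, 12, 4, 2, 12], [2, 3, 2, 4, 2, 3, 4, 2, 4], [2, 3, 4, 2, 3, 4, 2, 4, 3], [2, 4, 2, 4, 12, 4, 2, 4, 12], [0, 3, 11, 3, 7, 9, 11, 1, 11, 10], [0, 10, 11, 1, 3,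 10, 3, 7, 11, 9], [3, 12, 3, 12, 3, 12, 3, 12, 3, 12], [0, 2, 3, 12, 3, 4, 2, 12, 3, 12, 4, 3, 12, 0, 2, 3, 12, 3, 4, 2, 12, 3, 12, 4, 3, 12]] [0, 1, 2, 3] = true :=
  by decide +kernel

theorem sat_rel_0 : ∀ r ∈ ([[0, 0, 0], [0, 2, 1, 2], [0, 3, 1, 3], [0, 4, 1, 4], [0, 5, 1, 5], [0, 6, 1, 6], [0, 7, 1, 7], [0, 8, 1, 8], [0, 12, 1, 12], [2, 5, 2, 5], [2, 6, 2, 6], [2, 9, 2, 10], [2, 12, 2, 12], [3, 4, 3, 4], [3, 5, 3, 5], [3, 8, 3, 8], [3, 9, 3, 9], [4, 5, 4, 5], [4, 8, 4, 8], [4, 9, 4, 9], [4, 10, 4, 11], [6, 12, 6, 12], [7, 12, 7, 12], [9, 12, 9, 12], [10, 12, 10, 12], [2, 6, 7, 2, 7], [3, 7, 3, 7, 8], [4, 5, 6, 4, 6], [5, 6, 12, 5, 12], [2, 3, 2, 3, 2, 3], [2, 5, 6, 8, 2, 8], [3, 5, 6, 8, 3, 6], [4, 5, 7, 8, 4, 7], [4, 12, 4, 12, 4, 12], [6, 7, 8, 12, 8, 12], [2, 5, 10, 9, 11, 2, 11], [5, 10, 9, 11, 12, 11, 12], [2, 3, 2, 3, 2, 4, 3, 4], [2, 4, 2, 4, 2, 4, 2, 4], [2, 4, 12, 4, 12, 4, 2, 12], [2, 3, 2, 4,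 2, 3, 4, 2, 4], [2, 3, 4, 2, 3, 4, 2, 4, 3], [2, 4, 2, 4, 12, 4, 2, 4, 12], [0, 3, 11, 3, 7, 9, 11, 1, 11, 10], [0, 10, 11, 1, 3, 10, 3, 7, 11, 9], [3, 12, 3, 12, 3, 12, 3, 12, 3, 12], [0, 2, 3, 12, 3, 4, 2, 12, 3, 12, 4, 3, 12, 0, 2, 3, 12, 3, 4, 2, 12, 3, 12, 4, 3, 12]] : List (List ℕ)), ev Cfsg.Agent.XSC.SuzU.AW.π r = 1 :=
  rels_of_checks Cfsg.Agent.XSC.SuzU.AW.spec (K := 4) (by decide) sat_inv _ [[0, 1, 2, 3]] (by decide) ⟨sat_rel_0_0, trivial⟩

theorem sat_rel : ∀ r ∈ ([[0, 0, 0], [0, 2, 1, 2], [0, 3, 1, 3], [0, 4, 1, 4], [0, 5, 1, 5], [0, 6, 1, 6], [0, 7, 1, 7], [0, 8, 1, 8], [0, 12, 1, 12], [2, 5, 2, 5], [2, 6, 2, 6], [2, 9, 2, 10], [2, 12, 2, 12], [3, 4, 3, 4], [3, 5, 3, 5], [3, 8, 3, 8], [3, 9, 3, 9], [4, 5, 4, 5], [4, 8, 4, 8], [4, 9, 4, 9], [4, 10, 4, 11], [6, 12, 6, 12], [7, 12, 7, 12], [9, 12, 9, 12], [10, 12, 10, 12], [2, 6, 7, 2, 7], [3, 7, 3, 7, 8], [4, 5, 6, 4, 6], [5, 6, 12, 5, 12], [2, 3,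 2, 3, 2, 3], [2, 5, 6, 8, 2, 8], [3, 5, 6, 8, 3, 6], [4, 5, 7, 8, 4, 7], [4, 12, 4, 12, 4, 12], [6, 7, 8, 12, 8, 12], [2, 5, 10, 9, 11, 2, 11], [5, 10, 9, 11, 12, 11, 12], [2, 3, 2, 3, 2, 4, 3, 4], [2, 4, 2, 4, 2, 4, 2, 4], [2, 4, 12, 4, 12, 4, 2, 12], [2, 3, 2, 4, 2, 3, 4, 2, 4], [2, 3, 4, 2, 3, 4, 2, 4, 3], [2, 4, 2, 4, 12, 4, 2, 4, 12], [0, 3, 11, 3, 7, 9, 11, 1, 11, 10], [0, 10, 11, 1, 3, 10, 3, 7, 11, 9], [3, 12, 3, 12, 3, 12, 3, 12, 3, 12], [0, 2, 3, 12, 3, 4, 2, 12, 3, 12, 4, 3, 12, 0, 2, 3, 12, 3, 4, 2, 12, 3, 12, 4, 3, 12]] : List (List ℕ)), ev Cfsg.Agent.XSC.SuzU.AW.π r = 1 :=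
  rels_join [[[0, 0, 0], [0, 2, 1, 2], [0, 3, 1, 3], [0, 4, 1, 4], [0, 5, 1, 5], [0, 6, 1, 6], [0, 7, 1, 7], [0, 8, 1, 8], [0, 12, 1, 12], [2, 5, 2, 5], [2, 6, 2, 6], [2, 9, 2, 10], [2, 12, 2, 12], [3, 4, 3, 4], [3, 5, 3, 5], [3, 8, 3, 8], [3, 9, 3, 9], [4, 5, 4, 5], [4, 8, 4, 8], [4, 9, 4, 9], [4, 10, 4, 11], [6, 12, 6, 12], [7, 12, 7, 12], [9, 12, 9, 12], [10, 12, 10, 12], [2, 6, 7, 2, 7], [3, 7, 3, 7, 8], [4, 5, 6, 4, 6], [5, 6, 12, 5, 12], [2, 3, 2, 3, 2, 3], [2, 5, 6, 8, 2, 8], [3, 5, 6, 8, 3, 6], [4, 5, 7, 8, 4, 7], [4, 12, 4, 12, 4, 12], [6, 7, 8, 12, 8, 12], [2, 5, 10, 9, 11, 2, 11], [5, 10, 9, 11, 12, 11, 12], [2, 3, 2, 3, 2, 4, 3, 4], [2, 4, 2, 4, 2, 4, 2, 4], [2, 4, 12, 4, 12, 4, 2, 12], [2, 3, 2, 4, 2, 3, 4, 2, 4], [2, 3, 4, 2, 3, 4, 2, 4, 3], [2, 4, 2, 4, 12, 4, 2, 4, 12], [0, 3, 11, 3, 7, 9, 11, 1, 11, 10], [0, 10, 11, 1, 3, 10, 3, 7, 11, 9], [3, 12, 3, 12, 3, 12, 3, 12, 3, 12], [0, 2, 3, 12, 3,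 4, 2, 12, 3, 12, 4, 3, 12, 0, 2, 3, 12, 3, 4, 2, 12, 3, 12, 4, 3, 12]]] ⟨sat_rel_0, trivial⟩

theorem sat : Sat Cfsg.Agent.XSC.SuzU.PW Cfsg.Agent.XSC.SuzU.AW.π :=
  ⟨Cfsg.Agent.XSC.SuzU.AW.out, sat_inv, sat_rel⟩

noncomputable def done_tr0 : ℕ := nat_lit 0x7fda

noncomputable def done_tr1 : ℕ := nat_lit 0x2c08

noncomputable def done_tr2 : ℕ := nat_lit 0x53f6

noncomputable def done_tr3 : ℕ := nat_lit 0x5012

noncomputable def done_t0_0 : ℕ := nat_lit 0x1ab5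

noncomputable def done_t0_1 : ℕ := nat_lit 0x6486

noncomputable def done_t0_2 : ℕ := nat_lit 0x7f78

noncomputable def done_t0_3 : ℕ := nat_lit 0

noncomputable def done_t1_0 : ℕ := nat_lit 0x1ab5

noncomputable def done_t1_1 : ℕ := nat_lit 0x6486

noncomputable def done_t1_2 : ℕ := nat_lit 0x7f78

noncomputable def done_t1_3 : ℕ := nat_lit 0

noncomputable def done_t2_0 : ℕ := nat_lit 0x3e5

noncomputable def done_t2_1 : ℕ := nat_lit 0x50c2

noncomputable def done_t2_2 : ℕ := nat_lit 0x10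

noncomputable def done_t2_3 : ℕ := nat_lit 0

noncomputable def done_t3_0 : ℕ := nat_lit 0x701b

noncomputable def done_t3_1 : ℕ := nat_lit 0x53c8

noncomputable def done_t3_2 : ℕ := nat_lit 0x7c00

noncomputable def done_t3_3 : ℕ := nat_lit 0

noncomputable def done_t4_0 : ℕ := nat_lit 0x2437

noncomputable def done_t4_1 : ℕ := nat_lit 0x5000

noncomputable def done_t4_2 : ℕ := nat_lit 0x7c08

noncomputable def done_t4_3 : ℕ := nat_lit 0

noncomputable def done_t5_0 : ℕ := nat_lit 0x1ab5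

noncomputable def done_t5_1 : ℕ := nat_lit 0x6486

noncomputable def done_t5_2 : ℕ := nat_lit 0x7f78

noncomputable def done_t5_3 : ℕ := nat_lit 0

noncomputable def done_t6_0 : ℕ := nat_lit 0x1ab5

noncomputable def done_t6_1 : ℕ := nat_lit 0x6486

noncomputable def done_t6_2 : ℕ := nat_lit 0x7f78

noncomputable def done_t6_3 : ℕ := nat_lit 0

noncomputable def done_t7_0 : ℕ := nat_lit 0x1ab5

noncomputable def done_t7_1 : ℕ := nat_lit 0x6486

noncomputable def done_t7_2 : ℕ := nat_lit 0x7f78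

noncomputable def done_t7_3 : ℕ := nat_lit 0

noncomputable def done_t8_0 : ℕ := nat_lit 0x1ab5

noncomputable def done_t8_1 : ℕ := nat_lit 0x6486

noncomputable def done_t8_2 : ℕ := nat_lit 0x7f78

noncomputable def done_t8_3 : ℕ := nat_lit 0

noncomputable def done_t9_0 : ℕ := nat_lit 0x1ead

noncomputable def done_t9_1 : ℕ := nat_lit 0x49e

noncomputable def done_t9_2 : ℕ := nat_lit 0x1778

noncomputable def done_t9_3 : ℕ := nat_lit 0x6800

noncomputable def done_t10_0 : ℕ := nat_lit 0x951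

noncomputable def done_t10_1 : ℕ := nat_lit 0x6442

noncomputable def done_t10_2 : ℕ := nat_lit 0x6cd8

noncomputable def done_t10_3 : ℕ := nat_lit 0x1324

noncomputable def done_t11_0 : ℕ := nat_lit 0x759f

noncomputable def done_t11_1 : ℕ := nat_lit 0x7a92

noncomputable def done_t11_2 : ℕ := nat_lit 0x7a18

noncomputable def done_t11_3 : ℕ := nat_lit 0x564

noncomputable def done_t12_0 : ℕ := nat_lit 0xf49

noncomputable def done_t12_1 : ℕ := nat_lit 0x24e4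

noncomputable def done_t12_2 : ℕ := nat_lit 0x2620

noncomputable def done_t12_3 : ℕ := nat_lit 0

noncomputable def doneC : TC := ⟨Cfsg.Agent.XSC.SuzU.PW, [[0], [1], [2], [3], [4], [5], [6], [7], [8], [9], [10], [11], [12, 3, 2, 12, 3, 4, 12, 3, 12]], 15, 16, 4, 4, [done_tr0, done_tr1, done_tr2, done_tr3],
  [[done_t0_0, done_t0_1, done_t0_2, done_t0_3],
   [done_t1_0, done_t1_1, done_t1_2, done_t1_3],
   [done_t2_0, done_t2_1, done_t2_2, done_t2_3],
   [done_t3_0, done_t3_1, done_t3_2, done_t3_3],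
   [done_t4_0, done_t4_1, done_t4_2, done_t4_3],
   [done_t5_0, done_t5_1, done_t5_2, done_t5_3],
   [done_t6_0, done_t6_1, done_t6_2, done_t6_3],
   [done_t7_0, done_t7_1, done_t7_2, done_t7_3],
   [done_t8_0, done_t8_1, done_t8_2, done_t8_3],
   [done_t9_0, done_t9_1, done_t9_2, done_t9_3],
   [done_t10_0, done_t10_1, done_t10_2, done_t10_3],
   [done_t11_0, done_t11_1, done_t11_2, done_t11_3],
   [done_t12_0, done_t12_1, done_t12_2, done_t12_3]]⟩

theorem done_s : doneC.structC Cfsg.Agent.XSC.SuzU.AW.act = true :=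
  by decide +kernel

theorem done_c0_0 : doneC.coverC Cfsg.Agent.XSC.SuzU.AW.act 0 true [] [(true, 0, 0, 0), (false, 3, 0, 3), (false, 3, 0, 4), (false, 3, 0, 10), (false, 3, 0, 11), (false, 3, 0, 13), (false, 3, 0, 14), (false, 6, 0, 2), (false, 6, 0, 8), (false, 6, 0, 9), (false, 9, 0, 5), (false, 9, 0, 7), (false, 24, 0, 1), (false, 24, 0, 6), (false, 24, 0, 12)] 0 (ones 15) = true :=
  by decide +kernel

theorem done_j0 : doneC.JustS Cfsg.Agent.XSC.SuzU.AW.π 0 (ones 15) :=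
  TC.cover_step Cfsg.Agent.XSC.SuzU.AW.spec done_s (TC.justS_zero 0) done_c0_0

theorem done_c1_0 : doneC.coverC Cfsg.Agent.XSC.SuzU.AW.act 1 true [] [(true, 1, 0, 0), (false, 3, 2, 2), (false, 3, 2, 6), (false, 3, 2, 5), (false, 3, 2, 8), (false, 3, 2, 9), (false, 3, 2, 12), (false, 6, 2, 1), (false, 6, 2, 7), (false, 6, 2, 6), (false, 9, 2, 6), (false, 9, 2, 1), (false, 24, 2, 0), (false, 24, 2, 2), (false, 24, 2, 8)] 0 (ones 15) = true :=
  by decide +kernel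

theorem done_j1 : doneC.JustS Cfsg.Agent.XSC.SuzU.AW.π 1 (ones 15) :=
  TC.cover_step Cfsg.Agent.XSC.SuzU.AW.spec done_s (TC.justS_zero 1) done_c1_0

theorem done_c2_0 : doneC.coverC Cfsg.Agent.XSC.SuzU.AW.act 2 true [] [(true, 2, 0, 0), (false, 8, 0, 3), (false, 8, 0, 6), (false, 8, 0, 10), (false, 8, 0, 11), (false, 8, 0, 13), (false, 36, 0, 1), (false, 36, 0, 4), (false, 36, 0, 14), (false, 36, 0, 12), (false, 126, 0, 7)] 0 (ones 15) = true :=
  by decide +kernel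

theorem done_j2 : doneC.JustS Cfsg.Agent.XSC.SuzU.AW.π 2 (ones 15) :=
  TC.cover_step Cfsg.Agent.XSC.SuzU.AW.spec done_s (TC.justS_zero 2) done_c2_0

theorem done_c3_0 : doneC.coverC Cfsg.Agent.XSC.SuzU.AW.act 3 true [] [(true, 3, 0, 0), (false, 11, 0, 2), (false, 11, 0, 5), (false, 11, 0, 10), (false, 39, 0, 9), (false, 39, 0, 8), (false, 39, 0, 7), (false, 39, 0, 6), (false, 39, 0, 14), (false, 39, 0, 12), (false, 87, 1, 2), (false, 87, 1, 9), (false, 87, 1, 8)] 0 (ones 15) = true :=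
  by decide +kernel

theorem done_j3 : doneC.JustS Cfsg.Agent.XSC.SuzU.AW.π 3 (ones 15) :=
  TC.cover_step Cfsg.Agent.XSC.SuzU.AW.spec done_s (TC.justS_zero 3) done_c3_0

theorem done_c4_0 : doneC.coverC Cfsg.Agent.XSC.SuzU.AW.act 4 true [] [(true, 4, 0, 0), (false, 14, 0, 7), (false, 14, 0, 8), (false, 14, 0, 9), (false, 14, 0, 6), (false, 14, 0, 10), (false, 14, 0, 13), (false, 120, 3, 1), (false, 120, 3, 7), (false, 126, 1, 14), (false, 126, 1, 12)] 0 (ones 15) = true :=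
  by decide +kernel

theorem done_j4 : doneC.JustS Cfsg.Agent.XSC.SuzU.AW.π 4 (ones 15) :=
  TC.cover_step Cfsg.Agent.XSC.SuzU.AW.spec done_s (TC.justS_zero 4) done_c4_0

theorem done_c5_0 : doneC.coverC Cfsg.Agent.XSC.SuzU.AW.act 5 true [] [(true, 5, 0, 0), (false, 27, 1, 2), (false, 27, 1, 6), (false, 27, 1, 5), (false, 27, 1, 8), (false, 27, 1, 9), (false, 27, 1, 12), (false, 42, 1, 1), (false, 42, 1, 7), (false, 42, 1, 6), (false, 51, 1, 6), (false, 51, 1, 1), (false, 84, 3, 0), (false, 84, 3, 2), (false, 84, 3, 8)] 0 (ones 15) = true :=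
  by decide +kernel

theorem done_j5 : doneC.JustS Cfsg.Agent.XSC.SuzU.AW.π 5 (ones 15) :=
  TC.cover_step Cfsg.Agent.XSC.SuzU.AW.spec done_s (TC.justS_zero 5) done_c5_0

theorem done_c6_0 : doneC.coverC Cfsg.Agent.XSC.SuzU.AW.act 6 true [] [(true, 6, 0, 0), (false, 30, 1, 2), (false, 30, 1, 6), (false, 30, 1, 5), (false, 30, 1, 8), (false, 30, 1, 9), (false, 30, 1, 12), (false, 63, 0, 1), (false, 63, 0, 6), (false, 63, 0, 12), (false, 81, 4, 5), (false, 81, 4, 7), (false, 81, 4, 8), (false, 93, 5, 2), (false, 93, 5, 9)] 0 (ones 15) = true :=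
  by decide +kernel

theorem done_j6 : doneC.JustS Cfsg.Agent.XSC.SuzU.AW.π 6 (ones 15) :=
  TC.cover_step Cfsg.Agent.XSC.SuzU.AW.spec done_s (TC.justS_zero 6) done_c6_0

theorem done_c7_0 : doneC.coverC Cfsg.Agent.XSC.SuzU.AW.act 7 true [] [(true, 7, 0, 0), (false, 66, 0, 1), (false, 66, 0, 4), (false, 66, 0, 6), (false, 66, 0, 12), (false, 66, 0, 14), (false, 75, 4, 3), (false, 75, 4, 10), (false, 75, 4, 11), (false, 75, 4, 13), (false, 78, 1, 1), (false, 78, 1, 7), (false, 78, 1, 6), (false, 96, 5, 5), (false, 96, 5, 7)] 0 (ones 15) = true :=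
  by decide +kernel

theorem done_j7 : doneC.JustS Cfsg.Agent.XSC.SuzU.AW.π 7 (ones 15) :=
  TC.cover_step Cfsg.Agent.XSC.SuzU.AW.spec done_s (TC.justS_zero 7) done_c7_0

theorem done_c8_0 : doneC.coverC Cfsg.Agent.XSC.SuzU.AW.act 8 true [] [(true, 8, 0, 0), (false, 45, 1, 1), (false, 45, 1, 7), (false, 45, 1, 6), (false, 54, 1, 6), (false, 54, 1, 1), (false, 90, 5, 3), (false, 90, 5, 4), (false, 90, 5, 10), (false, 90, 5, 11), (false, 90, 5, 13), (false, 90, 5, 14), (false, 102, 4, 0), (false, 102, 4, 2), (false, 102, 4, 8)] 0 (ones 15) = true :=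
  by decide +kernel

theorem done_j8 : doneC.JustS Cfsg.Agent.XSC.SuzU.AW.π 8 (ones 15) :=
  TC.cover_step Cfsg.Agent.XSC.SuzU.AW.spec done_s (TC.justS_zero 8) done_c8_0

theorem done_c9_0 : doneC.coverC Cfsg.Agent.XSC.SuzU.AW.act 9 true [] [(true, 9, 0, 0), (false, 48, 1, 1), (false, 48, 1, 5), (false, 48, 1, 7), (false, 48, 1, 6), (false, 48, 1, 10), (false, 48, 1, 12), (false, 57, 1, 6), (false, 57, 1, 1), (false, 57, 1, 12), (false, 69, 0, 1), (false, 69, 0, 3), (false, 69, 0, 6), (false, 69, 0, 11), (false, 69, 0, 12)] 0 (ones 15) = true :=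
  by decide +kernel

theorem done_j9 : doneC.JustS Cfsg.Agent.XSC.SuzU.AW.π 9 (ones 15) :=
  TC.cover_step Cfsg.Agent.XSC.SuzU.AW.spec done_s (TC.justS_zero 9) done_c9_0

theorem done_c10_0 : doneC.coverC Cfsg.Agent.XSC.SuzU.AW.act 10 true [(33, 3)] [(true, 10, 0, 0), (false, 60, 1, 4), (false, 72, 0, 1), (false, 72, 0, 8), (false, 129, 9, 12)] 0 (ones 15) = true :=
  by decide +kernel

theorem done_j10 : doneC.JustS Cfsg.Agent.XSC.SuzU.AW.π 10 (ones 15) :=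
  TC.cover_step Cfsg.Agent.XSC.SuzU.AW.spec done_s (TC.justS_zero 10) done_c10_0

theorem done_c11_0 : doneC.coverC Cfsg.Agent.XSC.SuzU.AW.act 11 true [(60, 3)] [(true, 11, 0, 0), (false, 105, 4, 3), (false, 105, 4, 4), (false, 108, 3, 1), (false, 108, 3, 4)] 0 (ones 15) = true :=
  by decide +kernel

theorem done_j11 : doneC.JustS Cfsg.Agent.XSC.SuzU.AW.π 11 (ones 15) :=
  TC.cover_step Cfsg.Agent.XSC.SuzU.AW.spec done_s (TC.justS_zero 11) done_c11_0

theorem done_c12_0 : doneC.coverC Cfsg.Agent.XSC.SuzU.AW.act 12 true [] [(false, 38, 0, 1), (false, 38, 0, 4), (false, 38, 0, 2), (false, 38, 0, 12), (false, 38, 0, 5), (false, 38, 0, 14), (false, 36, 1, 9), (false, 99, 1, 12), (false, 99, 1, 1), (false, 99, 1, 4), (true, 12, 6, 0)] 0 (ones 15) = true :=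
  by decide +kernel

theorem done_j12 : doneC.JustS Cfsg.Agent.XSC.SuzU.AW.π 12 (ones 15) :=
  TC.cover_step Cfsg.Agent.XSC.SuzU.AW.spec done_s (TC.justS_zero 12) done_c12_0

theorem done : doneC.Done Cfsg.Agent.XSC.SuzU.AW.π :=
  TC.done_of Cfsg.Agent.XSC.SuzU.AW.spec sat done_s ⟨done_j0, done_j1, done_j2, done_j3, done_j4, done_j5, done_j6, done_j7, done_j8, done_j9, done_j10, done_j11, done_j12, trivial⟩

end AW

theorem AW_l : AllP (InSub Cfsg.Agent.XSC.SuzU.PW [[0], [1], [2], [3], [4], [5], [6], [7], [8], [9], [10], [11]]) AW.doneC.loops :=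
  ⟨inSub_of_mem (by decide), inSub_of_mem (by decide), inSub_of_mem (by decide), inSub_of_mem (by decide), inSub_of_mem (by decide), inSub_of_mem (by decide), inSub_of_mem (by decide), inSub_of_mem (by decide), inSub_of_mem (by decide), inSub_of_mem (by decide), inSub_of_mem (by decide), inSub_of_mem (by decide), sAW_0, trivial⟩

def wsW : List (List ℕ) := [[17], [18], [21], [22], [10], [16], [15], [23], [24], [19], [21, 19, 21], [10, 21, 19, 21, 10], [25]]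

theorem levT_0 : levC val X.I 33554431 [] [15] [[17], [19], [20], [21], [22], [10]] [[], [5, 4], [2, 4], [4], [5, 2, 4], [5], [5, 1, 2, 4], [1, 2, 4], [0, 0, 1, 2, 4], [5, 0, 0, 1, 2, 4], [0, 1, 2, 4], [5, 0, 1, 2, 4], [3, 4], [3, 5, 4], [2, 3, 4], [2, 3, 5, 4], [3, 1, 2, 4], [3, 5, 1, 2, 4], [3, 5, 0, 0, 1, 2, 4], [3, 0, 0, 1, 2, 4], [3, 5, 0, 1, 2, 4], [3, 0, 1, 2, 4], [2, 4, 2, 4], [4, 2, 4], [4, 2, 4, 1, 2, 4], [3, 4, 1, 2, 4], [3, 4, 3, 1, 2, 4], [2, 4, 1, 2, 4], [4, 1, 2, 4], [5, 4, 1, 2, 4], [3, 4, 0, 0, 1, 2, 4], [1, 2, 4, 0, 1, 2, 4], [0, 2, 4, 1, 2, 4], [2, 4, 0, 1, 2, 4], [4, 0, 0, 1, 2, 4], [4, 0, 1, 2, 4], [5, 2, 4, 0, 1, 2, 4], [3, 4, 0, 1, 2, 4], [3, 4, 3, 0, 1, 2, 4], [5, 4, 0, 0, 1, 2, 4], [5, 4, 0, 1, 2, 4], [5, 3, 4, 0, 1, 2, 4], [3, 4, 2, 3, 4], [4, 2, 3, 5, 4], [3, 2, 4, 2, 4], [4, 2, 3, 4], [3, 4, 2, 3, 5, 4], [3, 4, 2, 4], [4, 3, 1, 2, 4], [3, 2, 4, 1, 2, 4], [4, 3, 0, 1, 2, 4], [4, 3,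 0, 0, 1, 2, 4], [4, 3, 5, 0, 1, 2, 4], [3, 2, 4, 0, 1, 2, 4]] 1 54 = true :=
  by decide +kernel

theorem levT_1 : levC val X.I 33554431 [[15]] [23] [[20], [17], [19], [21], [10, 21, 10]] [[0, 4, 3], [0, 3], [0, 4], [0], [4, 3], [3], [3, 2, 0], [4, 3, 2, 0], [], [4], [2, 0], [4, 2, 0], [3, 0, 1, 2, 0], [4, 3, 0, 1, 2, 0], [0, 1, 2, 0], [4, 0, 1, 2, 0], [3, 1, 2, 0], [4, 3, 1, 2, 0], [1, 2, 0], [4, 1, 2, 0]] 54 1080 = true :=
  by decide +kernel

theorem levT_3 : levC val X.I 33554431 [[23], [15]] [19] [[17], [19], [21, 19, 21], [20, 10, 21, 10, 20], [10, 21, 10, 19, 10, 21, 10]] [[4, 0, 0, 2, 0], [0, 4, 0, 0], [2, 0, 0, 4, 0], [0, 2, 0, 0], [2, 0, 0], [2, 0, 2], [0, 2, 0, 4], [2, 0, 4], [0, 4, 0, 2], [4, 0, 2], [4, 0, 0], [4, 0, 4], [4, 0, 2, 0, 0], [0, 0, 2, 0], [0, 0, 4, 0], [2, 0, 4, 0, 0], [0, 2, 0], [2, 0], [2, 0, 0, 4], [2, 0, 4, 2], [0, 4, 0], [4, 0], [4, 0, 0, 2], [4, 0, 4, 2], [2], [0, 4, 0, 2, 0], [0,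 2, 0, 4, 0], [4], [4, 2, 0, 2], [2, 0, 4, 0], [0, 0, 2], [0, 2], [0, 0, 4], [4, 2, 0, 4], [0, 4], [4, 0, 2, 0], [], [0, 4, 2, 0, 0], [0, 0, 4, 2, 0], [4, 2], [4, 2, 0], [0, 4, 2, 0], [0, 0], [0], [0, 0, 4, 2], [0, 4, 2], [4, 2, 0, 4, 2], [4, 2, 0, 0]] 1080 51840 = true :=
  by decide +kernel

theorem levT_5 : levC val X.I 33554431 [[19], [23], [15]] [21, 19, 21] [[19], [18, 19, 17], [20, 10, 21, 10, 20], [21, 19, 21, 19, 21, 19, 21], [21, 19, 21, 18, 19, 17, 21, 19, 21], [10, 21, 10, 19, 10, 21, 10, 19, 10, 21, 10, 19, 10, 21, 10]] [[0], [], [1], [1, 0]] 51840 207360 = true :=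
  by decide +kernel

theorem levT {G : Type*} [Group G] [Finite G] {t : ℕ → G × _} (o : Ov t m val X.I) (h : Gr (genOn t 33554431)) :
    Lev t 33554431 [[21, 19, 21], [19], [23], [15]] 207360 :=
  ((((lev_nil t 33554431).step o h levT_0).step o h levT_1).step o h levT_3).step o h levT_5

theorem w1 : centC val 33554431 [[21, 19, 21], [19], [23], [15]] [[16], [15], [23], [24]] [[3, 2, 1, 0], [3, 2, 1], [2, 1, 0], [2, 1], [2], [2, 0], [3, 2, 0], [3, 2], [1], [3, 1], [3, 1, 0], [1, 0], [], [3], [3, 0], [0]] 207360 3317760 = true :=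
  by decide +kernel

theorem w2 : normC val X.I [62913536, 33554431] [[16], [15], [23], [24], [19], [17, 19, 18], [21, 19, 21], [17, 21, 19, 21, 18], [10, 21, 19, 21, 10], [17, 10, 21, 19, 21, 10, 18]] wsW [[[0], [1], [2], [3], [5], [5, 4], [7], [7, 6], [9], [9, 8]], [[0], [1], [2], [3], [5, 4], [4], [7, 6], [6], [9, 8], [8]], [[0], [1], [2, 1], [3, 1, 0], [6], [7], [4], [5], [8, 4, 6, 0], [9, 5, 7, 0]], [[0], [3, 1, 0], [3, 2], [3], [4], [5], [9, 4, 7, 8, 1], [7, 8, 5, 6, 1, 0], [7, 6, 9, 4, 2], [9, 6, 5, 8, 1]], [[0], [1, 0], [3, 2, 0], [3], [4], [5], [8], [9], [6], [7]], [[0], [1], [2], [3], [4], [5], [6], [7], [8], [9]], [[0], [1], [2], [3], [4], [5], [6], [7], [8], [9]], [[0], [1], [2], [3], [4], [5], [6], [7], [8], [9]], [[0], [1], [2], [3], [4], [5], [6], [7], [8], [9]], [[0], [1], [2], [3], [4], [5], [6, 1], [7, 2, 1], [8, 1, 0], [4, 9, 4]], [[0], [1], [2], [3], [4, 1], [5, 2], [6], [7], [8, 0], [6, 9,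 6]], [[0], [1], [2], [3], [4, 1, 0], [8, 5, 8], [6, 0], [7, 3, 1], [8], [9]], [[1, 0], [1], [2], [3, 2, 1], [4], [5], [6], [7], [8, 4, 6, 0], [9, 5, 7, 0]]] = true :=
  by decide +kernel

theorem w3 : satC val X.I [62913536, 33554431] [subst wsW (powW [0, 2, 3, 12, 3, 4, 2, 12, 3, 12, 4, 3, 12] 2), subst wsW (powW [3, 12] 5)] PW wsW (List.replicate 47 []) = true :=
  by decide +kernel

theorem w4 : stepC val X.I 33554431 26 wsW [[0], [1], [2], [3], [4], [5], [6], [7], [8], [9], [10], [11]] [16] [[12, 2, 3, 12], [12, 3, 12], [4, 12], [3, 12], [4, 3, 12], [12], [2, 3, 12], []] AW.doneC.n = true :=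
  by decide +kernel

theorem w5 : subWC val X.I [] 66028544 26 wsW [[], [], [], [], [], [], [], [], [], [], [4], [], [], [], [], [6], [5], [0], [1], [9], [], [2], [3], [7], [8], [12]] = true :=
  by decide +kernel

theorem stW {G : Type*} [Group G] [Finite G] {z : G} {t : ℕ → G × Cfsg.Spor.Suz}
    (h : StB z t [62913536, 33554431] []) : StB z t [66028544, 62913536, 33554431] [] := by
  obtain ⟨o, hC, Q, P, R, c⟩ := h
  have ct := c.ct o.toOv (levT o.toOv c.gr) hC w1 (ts := [[16], [15], [23], [24], [19], [17, 19, 18], [21, 19, 21], [17, 21, 19, 21, 18], [10, 21, 19, 21, 10], [17, 10, 21, 19, 21, 10, 18]]) (by decide +kernel)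
  have hn := o.norm w2
  have o1 := (o.addK (ct.fpf o.toOv hn [3, 12] 5 (by decide +kernel))).addK
    (ct.pow o.toOv hn (k := 2) (by decide +kernel) [0, 2, 3, 12, 3, 4, 2, 12, 3, 12, 4, 3, 12] (by decide +kernel))
  have o0 : St t m val X.I [] [] := ⟨o.toOv, trivial, trivial⟩
  exact ⟨o.addS ((o.toOv.step AW.done (o1.sat w3) c.gr AW_l w4).mono (o0.le_genW w5)), hC, Q, P, R, c⟩

end Cfsg.Agent.XSC.SuzU
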